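import Mathlib.LinearAlgebra.AnnihilatingPolynomial
import Mathlib.Algebra.Module.PID
import Mathlib.RingTheory.Polynomial.DegreeLT
import Mathlib.LinearAlgebra.Charpoly.Basic
import Mathlib.Algebra.Squarefree.Basic

/-!
# Endomorphisms commuting with a cyclic endomorphism

`exists_aeval_eq`: if the minimal polynomial of `a` has degree `dim V`, every endomorphism commuting with `a` is a
polynomial in `a`; `eq_zero_of_isNilpotent`: if moreover it is squarefree, the only nilpotent endomorphism commuting
with `a` is zero.
-/

set_option autoImplicit false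

open Polynomial Module

namespace K567.CycLin

variable {F V : Type*} [Field F] [AddCommGroup V] [Module F V] [FiniteDimensional F V]

set_option backward.isDefEq.respectTransparency false in
/-- There is a vector whose annihilator is generated by the minimal polynomial. -/
theorem exists_vector (a : Module.End F V) : ∃ v : V, ∀ p : F[X], aeval a p v = 0 → aeval a p = 0 := by
  obtain ⟨x, hx⟩ := Module.exists_ker_toSpanSingleton_eq_annihilator F[X] (AEval' a)
  obtain ⟨v, rfl⟩ := (AEval'.of a).surjective x
  refine ⟨v, fun p hp => ?_⟩
  have h1 : p ∈ LinearMap.ker (LinearMap.toSpanSingleton F[X] (AEval' a) (AEval'.of a v)) := by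
    rw [LinearMap.mem_ker, LinearMap.toSpanSingleton_apply]
    have h2 : p • (AEval'.of a v) = AEval'.of a (aeval a p v) := (AEval.of_aeval_smul ..).symm
    rw [h2, hp, map_zero]
  rw [hx, ← span_minpoly_eq_annihilator, Ideal.mem_span_singleton] at h1
  exact (minpoly.dvd_iff).1 h1

theorem exists_cyclic (a : Module.End F V) (h : finrank F V ≤ (minpoly F a).natDegree) :
    ∃ v : V, ∀ w : V, ∃ p : F[X], aeval a p v = w := by
  obtain ⟨v, hv⟩ := exists_vector a
  refine ⟨v, ?_⟩
  set n := (minpoly F a).natDegree with hn
  have hint : IsIntegral F a := Algebra.IsIntegral.isIntegral a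
  let f : degreeLT F n →ₗ[F] V :=
    ((LinearMap.applyₗ v).comp (aeval a).toLinearMap).comp (degreeLT F n).subtype
  have hf : ∀ p : degreeLT F n, f p = aeval a (p : F[X]) v := fun _ => rfl
  have hinj : Function.Injective f := by
    rw [injective_iff_map_eq_zero]
    intro p hp
    rw [hf] at hp
    have h1 := hv _ hp
    have h2 : minpoly F a ∣ (p : F[X]) := minpoly.dvd _ _ h1
    have h3 : (p : F[X]) = 0 := by
      by_contra hp0
      have h4 := Polynomial.degree_le_of_dvd h2 hp0
      have h5 := mem_degreeLT.1 p.2
      have h6 : (n : WithBot ℕ) = (minpoly F a).degree :=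
        (Polynomial.degree_eq_natDegree (minpoly.ne_zero hint)).symm
      rw [h6] at h5
      exact absurd h5 (not_lt.2 h4)
    exact Subtype.ext h3
  have hfr : finrank F (degreeLT F n) = n := by
    rw [LinearEquiv.finrank_eq (degreeLTEquiv F n), finrank_fin_fun]
  have hle : n ≤ finrank F V := by
    rw [← hfr]
    exact LinearMap.finrank_le_finrank_of_injective hinj
  have hfd : FiniteDimensional F (degreeLT F n) := FiniteDimensional.of_injective f hinj
  have hsurj : Function.Surjective f :=
    (LinearMap.injective_iff_surjective_of_finrank_eq_finrank (by rw [hfr]; exact le_antisymm hle h)).1 hinj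
  intro w
  obtain ⟨p, hp⟩ := hsurj w
  exact ⟨p, hp⟩

omit [FiniteDimensional F V] in
theorem commute_aeval {a u : Module.End F V} (hu : Commute a u) (q : F[X]) : Commute (aeval a q) u := by
  induction q using Polynomial.induction_on' with
  | add p q hp hq => rw [map_add]; exact hp.add_left hq
  | monomial n c =>
    rw [aeval_monomial]
    exact Commute.mul_left (Algebra.commutes c u : Commute _ _) (hu.pow_left n)

/-- Every endomorphism commuting with a cyclic endomorphism `a` is a polynomial in `a`. -/
theorem exists_aeval_eq (a : Module.End F V) (h : finrank F V ≤ (minpoly F a).natDegree)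
    (u : Module.End F V) (hu : Commute a u) : ∃ p : F[X], aeval a p = u := by
  obtain ⟨v, hv⟩ := exists_cyclic a h
  obtain ⟨p, hp⟩ := hv (u v)
  refine ⟨p, LinearMap.ext fun w => ?_⟩
  obtain ⟨q, rfl⟩ := hv w
  have h1 : Commute (aeval a q) u := commute_aeval hu q
  have h2 : (aeval a p) ((aeval a q) v) = (aeval a q) ((aeval a p) v) := by
    rw [← Module.End.mul_apply, ← Module.End.mul_apply, ← map_mul, ← map_mul, mul_comm]
  rw [h2, hp, ← Module.End.mul_apply, ← Module.End.mul_apply, h1.eq]

/-- If `a` is cyclic with squarefree minimal polynomial, nilpotent endomorphisms commuting with `a` vanish. -/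
theorem eq_zero_of_isNilpotent (a : Module.End F V) (h : finrank F V ≤ (minpoly F a).natDegree)
    (hsq : Squarefree (minpoly F a)) (u : Module.End F V) (hu : Commute a u) (hn : IsNilpotent u) : u = 0 := by
  obtain ⟨p, rfl⟩ := exists_aeval_eq a h u hu
  obtain ⟨m, hm⟩ := hn
  rw [← map_pow] at hm
  have h1 : minpoly F a ∣ p ^ m := minpoly.dvd _ _ hm
  exact (minpoly.dvd_iff).1 (hsq.isRadical m p h1)

end K567.CycLin
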