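import Groth.Agent.AbVar.K510.TateHom
import Groth.Agent.AbVar.K520.DegDvdAV
import Groth.Agent.SGA7.K567.CycLin
import Mathlib.FieldTheory.Minpoly.Field
import Mathlib.FieldTheory.Separable
import Mathlib.RingTheory.Localization.Module
import Mathlib.Algebra.Algebra.Hom.Rat

/-!
# Abelian varieties over algebraically closed fields with an endomorphism of maximal degree

`B` an abelian variety of dimension `g ≥ 1` over an algebraically closed field, `φ` an endomorphism with `f(φ) = 0` in
`End⁰(B)`, `f` irreducible over `ℚ` of degree `2g`.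

* `exists_aeval`: every endomorphism `u` commuting with `φ` has a nonzero integer multiple in `ℤ[φ]`;
* `eq_zero_of_isNilpotent`: every nilpotent endomorphism of the Tate module commuting with `T_l(φ)` is zero.
-/

set_option autoImplicit false
universe u

open CategoryTheory Limits MonoidalCategory CartesianMonoidalCategory AlgebraicGeometry Polynomial Module
open scoped MonObj TensorProduct

namespace K567.CMTate

open K520.DegDvd

variable {k : Type u} [Field k] {l : ℕ} [hlp : Fact l.Prime]
  {B : Over (Spec (CommRingCat.of k))} [GrpObj B] [IsCommMonObj B]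

/-- the base point -/
local notation "pt₀" => (Over.mk (𝟙 (Spec (CommRingCat.of k))))

/-- base change of endomorphisms of the Tate module is injective -/
theorem baseChange_injective [Module.Free ℤ_[l] (AbDual.TateMod B l pt₀)] :
    Function.Injective (Module.End.baseChangeHom ℤ_[l] ℚ_[l] (AbDual.TateMod B l pt₀)) :=
  LinearMap.baseChangeHom_injective ℤ_[l] (AbDual.TateMod B l pt₀) ℚ_[l]

/-- `aeval` and `rep0`. -/
theorem rep0_aeval (f : ℚ[X]) (x : EndAV.End0 B) :
    rep0 k B l pt₀ (aeval x f) = aeval (rep0 k B l pt₀ x) (f.map (algebraMap ℚ ℚ_[l])) := by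
  rw [aeval_map_algebraMap]
  let r : EndAV.End0 B →ₐ[ℚ] Module.End ℚ_[l] (V k B l pt₀) := (rep0 k B l pt₀).toRatAlgHom
  exact (Polynomial.aeval_algHom_apply r x f).symm

variable [IsAlgClosed k] [IsProper B.hom] [GeometricallyIntegral B.hom]

/-- **Tate**, for the rational Tate module. -/
theorem linearIndependent_rep (hl : (l : k) ≠ 0) {g : ℕ} (hg : topologicalKrullDim B.left = g) {J : Type*}
    (e : J → EndAV.End B) (he : LinearIndependent ℤ e) :
    LinearIndependent ℚ_[l] (fun i => rep k B l pt₀ (e i)) := by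
  have h1 := K510.TateHom.linearIndependent hl e he
  have hfree := K510.AVPts.free_tateMod B l hl g hg
  have h2 : LinearIndependent ℤ_[l] (fun i => rep k B l pt₀ (e i)) :=
    h1.map' (Module.End.baseChangeHom ℤ_[l] ℚ_[l] (AbDual.TateMod B l pt₀)).toLinearMap
      (LinearMap.ker_eq_bot.2 baseChange_injective)
  exact LinearIndependent.localization ℚ_[l] (nonZeroDivisors ℤ_[l]) h2

theorem finrank_V (hl : (l : k) ≠ 0) {g : ℕ} (hg : topologicalKrullDim B.left = g) :
    finrank ℚ_[l] (V k B l pt₀) = 2 * g := by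
  have hfree := K510.AVPts.free_tateMod B l hl g hg
  rw [finrank_baseChange, K510.AVPts.finrank_tateMod B l hl g hg]

theorem finite_V (hl : (l : k) ≠ 0) {g : ℕ} (hg : topologicalKrullDim B.left = g) :
    Module.Finite ℚ_[l] (V k B l pt₀) := by
  have hfin := K510.AVPts.finite_tateMod B l hl g hg
  infer_instance

theorem nontrivial_end0 {g : ℕ} (hg : topologicalKrullDim B.left = g) (hg0 : g ≠ 0) :
    Nontrivial (EndAV.End0 B) := by
  obtain ⟨l, hlp, hl⟩ := K510.TateHom.exists_prime k
  have : Fact l.Prime := ⟨hlp⟩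
  have h1 := finrank_V (l := l) hl hg
  have h2 : Nontrivial (V k B l pt₀) := by
    apply Module.nontrivial_of_finrank_pos (R := ℚ_[l])
    omega
  exact (rep0 k B l pt₀).domain_nontrivial

section

variable {g : ℕ} (hg : topologicalKrullDim B.left = g) (hg0 : g ≠ 0) {φ : EndAV.End B} {f : ℚ[X]}
  (hf : Irreducible f) (hdeg : f.natDegree = 2 * g) (hφ : aeval (EndAV.toEnd0 φ) f = 0)

include hg hg0 hf hdeg hφ

/-- The powers `φ ^ i`, `i < 2g`, are linearly independent. -/
theorem linearIndependent_pow : LinearIndependent ℤ (fun i : Fin (2 * g) => φ ^ (i : ℕ)) := by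
  have hn := nontrivial_end0 hg hg0
  -- the minimal polynomial
  have h0 : IsIntegral ℚ (EndAV.toEnd0 φ) := by
    refine ⟨f * C f.leadingCoeff⁻¹, monic_mul_leadingCoeff_inv hf.ne_zero, ?_⟩
    rw [← aeval_def, map_mul, hφ, zero_mul]
  have h1 : (minpoly ℚ (EndAV.toEnd0 φ)).natDegree = 2 * g := by
    have h2 := minpoly.dvd ℚ _ hφ
    obtain ⟨c, hc⟩ := h2
    have h3 : IsUnit c := (hf.isUnit_or_isUnit hc).resolve_left (minpoly.not_isUnit ℚ _)
    rw [← hdeg, hc, natDegree_mul (minpoly.ne_zero h0) h3.ne_zero, natDegree_eq_zero_of_isUnit h3, add_zero]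
  have h2 := _root_.linearIndependent_pow (K := ℚ) (EndAV.toEnd0 φ)
  rw [h1] at h2
  have h3 : LinearIndependent ℤ (fun i : Fin (2 * g) => (EndAV.toEnd0 φ) ^ (i : ℕ)) :=
    h2.restrict_scalars (by
      intro a b hab
      simpa using hab)
  rw [Fintype.linearIndependent_iff] at h3 ⊢
  intro c hc
  apply h3 c
  have h4 := congrArg (EndAV.toEnd0 (A := B)) hc
  rw [map_sum, map_zero] at h4
  rw [← h4]
  exact Finset.sum_congr rfl fun i _ => by rw [map_zsmul, map_pow]

/-- The minimal polynomial of `V_l(φ)` has degree at least `2g`. -/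
theorem le_natDegree (hl : (l : k) ≠ 0) : finrank ℚ_[l] (V k B l pt₀) ≤ (minpoly ℚ_[l] (rep k B l pt₀ φ)).natDegree := by
  rw [finrank_V hl hg]
  by_contra hcon
  push Not at hcon
  have hfin := finite_V (l := l) hl hg
  have h1 := linearIndependent_rep hl hg _ (linearIndependent_pow hg hg0 hf hdeg hφ)
  rw [Fintype.linearIndependent_iff] at h1
  set m := minpoly ℚ_[l] (rep k B l pt₀ φ) with hm
  have hint : IsIntegral ℚ_[l] (rep k B l pt₀ φ) := Algebra.IsIntegral.isIntegral _
  have h2 := h1 (fun i => m.coeff i) (by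
    have h3 := minpoly.aeval ℚ_[l] (rep k B l pt₀ φ)
    rw [← hm, aeval_eq_sum_range' hcon, Finset.sum_range] at h3
    simpa [map_pow] using h3) ⟨m.natDegree, hcon⟩
  have h3 : m.coeff m.natDegree = 1 := minpoly.monic hint
  rw [h3] at h2
  exact one_ne_zero h2

omit hg hg0 hdeg [IsAlgClosed k] [IsProper B.hom] [GeometricallyIntegral B.hom] in
theorem squarefree_minpoly : Squarefree (minpoly ℚ_[l] (rep k B l pt₀ φ)) := by
  have h1 : minpoly ℚ_[l] (rep k B l pt₀ φ) ∣ f.map (algebraMap ℚ ℚ_[l]) := by
    apply minpoly.dvd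
    have h2 := rep0_aeval (l := l) f (EndAV.toEnd0 φ)
    rw [hφ, map_zero, rep0_toEnd0] at h2
    exact h2.symm
  exact (hf.separable.map (f := algebraMap ℚ ℚ_[l])).squarefree.squarefree_of_dvd h1

/-- A nilpotent endomorphism of the Tate module commuting with `T_l(φ)` is zero. -/
theorem eq_zero_of_isNilpotent (hl : (l : k) ≠ 0) (u : Module.End ℤ_[l] (AbDual.TateMod B l pt₀))
    (hu : Commute (EndAV.End.tateRep l pt₀ φ) u) (hn : IsNilpotent u) : u = 0 := by
  have hfin := finite_V (l := l) hl hg
  have hfree := K510.AVPts.free_tateMod B l hl g hg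
  apply baseChange_injective (B := B) (l := l)
  rw [map_zero]
  exact CycLin.eq_zero_of_isNilpotent (rep k B l pt₀ φ) (le_natDegree hg hg0 hf hdeg hφ hl)
    (squarefree_minpoly hf hφ) _ (hu.map (Module.End.baseChangeHom ℤ_[l] ℚ_[l] (AbDual.TateMod B l pt₀)))
    (hn.map _)

/-- An endomorphism commuting with `φ` has a nonzero integer multiple in `ℤ[φ]`. -/
theorem exists_aeval (u : EndAV.End B) (hu : Commute φ u) :
    ∃ (n : ℤ) (p : ℤ[X]), n ≠ 0 ∧ n • u = aeval φ p := by
  obtain ⟨l, hlp, hl⟩ := K510.TateHom.exists_prime k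
  have : Fact l.Prime := ⟨hlp⟩
  have hfin := finite_V (l := l) hl hg
  have hli := linearIndependent_pow hg hg0 hf hdeg hφ
  let e : Option (Fin (2 * g)) → EndAV.End B := fun o => o.elim u (fun i => φ ^ (i : ℕ))
  have key : ¬ LinearIndependent ℤ e := by
    intro he
    have h1 := linearIndependent_rep hl hg e he
    obtain ⟨q, hq⟩ := CycLin.exists_aeval_eq (rep k B l pt₀ φ) (le_natDegree hg hg0 hf hdeg hφ hl)
      (rep k B l pt₀ u) (hu.map _)
    set m := minpoly ℚ_[l] (rep k B l pt₀ φ) with hm
    have hint : IsIntegral ℚ_[l] (rep k B l pt₀ φ) := Algebra.IsIntegral.isIntegral _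
    have hmon : m.Monic := minpoly.monic hint
    have hle : m.natDegree ≤ 2 * g := by
      rw [← finrank_V hl hg, ← LinearMap.charpoly_natDegree (rep k B l pt₀ φ)]
      exact natDegree_le_of_dvd (LinearMap.minpoly_dvd_charpoly _) (LinearMap.charpoly_monic _).ne_zero
    have hpos : 0 < m.natDegree := by
      have := le_natDegree hg hg0 hf hdeg hφ hl
      rw [finrank_V hl hg, ← hm] at this
      omega
    have hm1 : m ≠ 1 := by
      rintro h
      rw [h, natDegree_one] at hpos
      exact lt_irrefl _ hpos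
    have hq' : aeval (rep k B l pt₀ φ) (q %ₘ m) = rep k B l pt₀ u := by
      rw [← hq]
      exact aeval_modByMonic_eq_self_of_root (minpoly.aeval _ _)
    have hlt : (q %ₘ m).natDegree < 2 * g := lt_of_lt_of_le (natDegree_modByMonic_lt q hmon hm1) hle
    rw [aeval_eq_sum_range' hlt, Finset.sum_range] at hq'
    rw [Fintype.linearIndependent_iff] at h1
    have h2 := h1 (fun o => o.elim (-1) (fun i => (q %ₘ m).coeff i)) (by
      rw [Fintype.sum_option]
      simp only [Option.elim, e]
      rw [← hq']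
      simp [map_pow]) none
    simp at h2
  obtain ⟨c, hc, i, hi⟩ := Fintype.not_linearIndependent_iff.1 key
  rw [Fintype.sum_option] at hc
  have h0 : c none ≠ 0 := by
    intro h0
    rw [h0, zero_smul, zero_add] at hc
    rw [Fintype.linearIndependent_iff] at hli
    have h1 := hli (fun i => c (some i)) hc
    cases i with
    | none => exact hi h0
    | some i => exact hi (h1 i)
  refine ⟨c none, -∑ i : Fin (2 * g), C (c (some i)) * X ^ (i : ℕ), h0, ?_⟩
  rw [map_neg, map_sum]
  have h1 : ∀ i : Fin (2 * g), aeval φ (C (c (some i)) * X ^ (i : ℕ)) = c (some i) • e (some i) := by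
    intro i
    rw [map_mul, aeval_C, map_pow, aeval_X, ← Algebra.smul_def]
    rfl
  rw [Finset.sum_congr rfl (fun i _ => h1 i)]
  exact eq_neg_of_add_eq_zero_left hc

end

end K567.CMTate
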