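import Groth.Agent.Sga7.H758.EndRing
import Groth.Prelude.Def_AlgGrp

/-!
# Idempotents of commutative group objects

An idempotent endomorphism `p` of a commutative group object `G` decomposes `G` as the product of the kernels of
`1 - p` and `p`.
-/

set_option autoImplicit false

universe v u

open CategoryTheory Limits MonoidalCategory CartesianMonoidalCategory MonObj GrpObj

namespace K567.Idem

open Groth.Agent.Sga7.H758.EndRing

section alg

/-- no `n`-torsion for `n > 0`. -/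
def TF (E : Type*) [Ring E] : Prop := ∀ (n : ℕ) (a : E), 0 < n → (n : E) * a = 0 → a = 0

variable {E : Type*} [Ring E] (htf : TF E)
include htf

theorem idem_two {a p : E} (ha : a * a = 1) (hp : (2 : ℕ) * p = 1 + a) : p * p = p := by
  have h1 : ((4 : ℕ) : E) * (p * p - p) = 0 := by
    have h2 : ((2 : ℕ) : E) * p * (((2 : ℕ) : E) * p) = ((2 : ℕ) : E) * (((2 : ℕ) : E) * p) := by
      rw [hp]
      push_cast
      calc (1 + a) * (1 + a) = 1 + a + a + a * a := by noncomm_ring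
        _ = 2 * (1 + a) := by rw [ha]; noncomm_ring
    have h3 : ((2 : ℕ) : E) * p * (((2 : ℕ) : E) * p) = ((4 : ℕ) : E) * (p * p) := by
      push_cast
      have h4 : p * (2 : E) = 2 * p := (Commute.ofNat_right p 2).eq
      calc (2 : E) * p * (2 * p) = 2 * (p * 2) * p := by noncomm_ring
        _ = 2 * (2 * p) * p := by rw [h4]
        _ = 4 * (p * p) := by noncomm_ring
    rw [h3] at h2
    rw [mul_sub, h2]
    push_cast
    noncomm_ring
  exact sub_eq_zero.1 (htf 4 _ (by norm_num) h1)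

theorem idem_three {a p : E} (ha : a * a * a = 1) (hp : (3 : ℕ) * p = 1 + a + a * a) : p * p = p := by
  have h1 : ((9 : ℕ) : E) * (p * p - p) = 0 := by
    have h2 : ((3 : ℕ) : E) * p * (((3 : ℕ) : E) * p) = ((3 : ℕ) : E) * (((3 : ℕ) : E) * p) := by
      rw [hp]
      push_cast
      calc (1 + a + a * a) * (1 + a + a * a) =
            1 + a + a + a * a + a * a + a * a + a * a * a + a * a * a + a * a * a * a := by noncomm_ring
        _ = 3 * (1 + a + a * a) := by rw [ha]; noncomm_ring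
    have h3 : ((3 : ℕ) : E) * p * (((3 : ℕ) : E) * p) = ((9 : ℕ) : E) * (p * p) := by
      push_cast
      have h4 : p * (3 : E) = 3 * p := (Commute.ofNat_right p 3).eq
      calc (3 : E) * p * (3 * p) = 3 * (p * 3) * p := by noncomm_ring
        _ = 3 * (3 * p) * p := by rw [h4]
        _ = 9 * (p * p) := by noncomm_ring
    rw [h3] at h2
    rw [mul_sub, h2]
    push_cast
    noncomm_ring
  exact sub_eq_zero.1 (htf 9 _ (by norm_num) h1)

/-- the three cases. -/
theorem exists_idem {a : E} (h : (a * a = 1 ∧ ∃ w, a - 1 = (2 : ℕ) * w) ∨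
      (a * a = 1 ∧ ∃ w, (a - 1) * (a - 1) = (4 : ℕ) * w) ∨
      (a * a * a = 1 ∧ ∃ w, (a - 1) * (a - 1) = (3 : ℕ) * w)) :
    ∃ p : E, p * p = p ∧ (a * a = 1 → p + p = 1 + a) ∧ (a * a * a = 1 → p + p + p = 1 + a + a * a) := by
  -- reduce to finding `p` with the equation of its case
  have two : ∀ p : E, a * a = 1 → (2 : ℕ) * p = 1 + a → ∃ p : E, p * p = p ∧ (a * a = 1 → p + p = 1 + a) ∧
      (a * a * a = 1 → p + p + p = 1 + a + a * a) := by
    intro p ha hp
    refine ⟨p, idem_two htf ha hp, fun _ => ?_, fun ha3 => ?_⟩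
    · rw [← hp]; push_cast; noncomm_ring
    · have ha1 : a = 1 := by rw [ha, _root_.one_mul] at ha3; exact ha3
      have hp1 : p = 1 := by
        have h1 : ((2 : ℕ) : E) * (p - 1) = 0 := by
          rw [mul_sub, hp, ha1]
          push_cast
          noncomm_ring
        exact sub_eq_zero.1 (htf 2 _ (by norm_num) h1)
      rw [hp1, ha1]; noncomm_ring
  rcases h with ⟨ha, w, hw⟩ | ⟨ha, w, hw⟩ | ⟨ha, w, hw⟩
  · refine two (1 + w) ha ?_
    rw [mul_add, ← hw]
    push_cast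
    noncomm_ring
  · refine two (1 - w) ha ?_
    have h1 : ((2 : ℕ) : E) * ((a - 1) + (2 : ℕ) * w) = 0 := by
      have h2 : (a - 1) * (a - 1) = 1 + 1 - a - a := by
        calc (a - 1) * (a - 1) = a * a - a - a + 1 := by noncomm_ring
          _ = _ := by rw [ha]; noncomm_ring
      have h3 : ((4 : ℕ) : E) * w = 1 + 1 - a - a := by rw [← hw, h2]
      calc ((2 : ℕ) : E) * ((a - 1) + (2 : ℕ) * w) = (a + a - 1 - 1) + ((4 : ℕ) : E) * w := by
            push_cast; noncomm_ring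
        _ = 0 := by rw [h3]; noncomm_ring
    have h2 := htf 2 _ (by norm_num) h1
    have h3 : ((2 : ℕ) : E) * w = 1 - a := by
      rw [← sub_eq_zero, ← h2]; noncomm_ring
    rw [mul_sub, h3]
    push_cast
    noncomm_ring
  · have hp : ((3 : ℕ) : E) * (w + a) = 1 + a + a * a := by
      rw [mul_add, ← hw]
      push_cast
      noncomm_ring
    refine ⟨w + a, idem_three htf ha hp, fun ha2 => ?_, fun _ => ?_⟩
    · have ha1 : a = 1 := by rw [ha2, _root_.one_mul] at ha; exact ha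
      have hp1 : w + a = 1 := by
        have h1 : ((3 : ℕ) : E) * (w + a - 1) = 0 := by
          rw [mul_sub, hp, ha1]
          push_cast
          noncomm_ring
        exact sub_eq_zero.1 (htf 3 _ (by norm_num) h1)
      rw [hp1, ha1]
    · rw [← hp]; push_cast; noncomm_ring

end alg

section cat

variable {C : Type u} [Category.{v} C] [CartesianMonoidalCategory C] [BraidedCategory C]
  {G : C} [GrpObj G] [IsCommMonObj G]

theorem isPullback_iff_aux {F : C} {i : F ⟶ G} {f : G ⟶ G} (h : IsPullback i (toUnit F) f η[G]) :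
    i ≫ f = 1 := by
  rw [h.w, Hom.one_def]

/-- The decomposition of a commutative group object attached to an idempotent. -/
theorem decomp (p : EndHom G) (hp : p * p = p) {G₁ G₂ : C} [GrpObj G₁] [GrpObj G₂] (i₁ : G₁ ⟶ G) (i₂ : G₂ ⟶ G)
    [IsMonHom i₁] [IsMonHom i₂] [Mono i₁] [Mono i₂]
    (h₁ : IsPullback i₁ (toUnit G₁) (1 - p).hom η[G]) (h₂ : IsPullback i₂ (toUnit G₂) p.hom η[G]) :
    (∃ π₁ : G ⟶ G₁, i₁ ≫ π₁ = 𝟙 _) ∧ (∃ π₂ : G ⟶ G₂, i₂ ≫ π₂ = 𝟙 _) ∧ IsIso ((i₁ ⊗ₘ i₂) ≫ μ[G]) := by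
  have e1 : p.hom ≫ (1 - p).hom = 1 := by
    have : (1 - p) * p = 0 := by rw [sub_mul, _root_.one_mul, hp, sub_self]
    exact congrArg EndHom.hom this
  have e2 : (1 - p).hom ≫ p.hom = 1 := by
    have : p * (1 - p) = 0 := by rw [mul_sub, _root_.mul_one, hp, sub_self]
    exact congrArg EndHom.hom this
  have e3 : p.hom * (1 - p).hom = 𝟙 G := by
    have : p + (1 - p) = 1 := by abel
    exact congrArg EndHom.hom this
  let π₁ : G ⟶ G₁ := h₁.lift p.hom (toUnit G) (by rw [e1, Hom.one_def])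
  let π₂ : G ⟶ G₂ := h₂.lift (1 - p).hom (toUnit G) (by rw [e2, Hom.one_def])
  have hπ₁ : π₁ ≫ i₁ = p.hom := h₁.lift_fst _ _ _
  have hπ₂ : π₂ ≫ i₂ = (1 - p).hom := h₂.lift_fst _ _ _
  have f1 : i₁ ≫ (1 - p).hom = 1 := isPullback_iff_aux h₁
  have f2 : i₂ ≫ p.hom = 1 := isPullback_iff_aux h₂
  have g1 : i₁ ≫ p.hom = i₁ := by
    have h3 : i₁ ≫ (p.hom * (1 - p).hom) = i₁ := by rw [e3, Category.comp_id]
    rwa [comp_mul, f1, _root_.mul_one] at h3
  have g2 : i₂ ≫ (1 - p).hom = i₂ := by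
    have h3 : i₂ ≫ (p.hom * (1 - p).hom) = i₂ := by rw [e3, Category.comp_id]
    rwa [comp_mul, f2, _root_.one_mul] at h3
  have k1 : i₁ ≫ π₁ = 𝟙 _ := by rw [← cancel_mono i₁, Category.assoc, hπ₁, g1, Category.id_comp]
  have k2 : i₂ ≫ π₂ = 𝟙 _ := by rw [← cancel_mono i₂, Category.assoc, hπ₂, g2, Category.id_comp]
  refine ⟨⟨π₁, k1⟩, ⟨π₂, k2⟩, ⟨lift π₁ π₂, ?_, ?_⟩⟩
  · have hprod : (i₁ ⊗ₘ i₂) ≫ μ[G] = (fst G₁ G₂ ≫ i₁) * (snd G₁ G₂ ≫ i₂) := by
      rw [Hom.mul_def]
      congr 1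
      ext <;> simp
    rw [hprod]
    ext1
    · rw [Category.assoc, lift_fst, Category.id_comp, ← cancel_mono i₁, Category.assoc, hπ₁, MonObj.mul_comp,
        Category.assoc, Category.assoc, g1, f2, comp_one, _root_.mul_one]
    · rw [Category.assoc, lift_snd, Category.id_comp, ← cancel_mono i₂, Category.assoc, hπ₂, MonObj.mul_comp,
        Category.assoc, Category.assoc, g2, f1, comp_one, _root_.one_mul]
  · have hprod : lift π₁ π₂ ≫ (i₁ ⊗ₘ i₂) ≫ μ[G] = (π₁ ≫ i₁) * (π₂ ≫ i₂) := by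
      rw [Hom.mul_def, ← Category.assoc]
      congr 1
      ext <;> simp
    rw [hprod, hπ₁, hπ₂, e3]

end cat

end K567.Idem
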