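import Groth.Agent.Sga7.H758.AlgClosed
import Groth.Agent.Sga7.H758.TorsIn
import Groth.Agent.SGA7.K567.Idem

/-!
# Endomorphisms of smooth connected commutative groups of unipotent rank zero

Multiplication by `n > 0` is faithfully flat; idempotent decompositions.
-/

set_option autoImplicit false

universe u

open CategoryTheory Limits MonoidalCategory CartesianMonoidalCategory MonObj GrpObj AlgebraicGeometry

namespace K567.SemiAb

open Groth.Agent Groth.Agent.Sga7.H758 Groth.Agent.Sga7.H758.EndRing Groth.Agent.Sga7.H758.AlgClosed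
  Groth.Agent.Sga7.H758.FfEpi

variable {k : Type u} [Field k] (G : Over (Spec (CommRingCat.of k))) [GrpObj G] [IsCommMonObj G] [Smooth G.hom]
  [ConnectedSpace G.left]

omit [IsCommMonObj G] [Smooth G.hom] in
theorem quasiCompact_hom : QuasiCompact G.hom := by
  have h1 := (S0355.result k G).2
  have h2 : connectedComponent ((η[G] : 𝟙_ (Over (Spec (CommRingCat.of k))) ⟶ G).left
      (IsLocalRing.closedPoint k)) = Set.univ := PreconnectedSpace.connectedComponent_eq_univ _
  rw [h2] at h1
  have h3 : CompactSpace G.left := ⟨h1⟩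
  exact (quasiCompact_iff_compactSpace G.hom).mpr h3

theorem map_one_pow {S S' : Scheme.{u}} (f : S' ⟶ S) (G : Over S) [GrpObj G] (m : ℕ) :
    (Over.pullback f).map ((𝟙 G : G ⟶ G) ^ m) = (𝟙 (Red.bc f G) : Red.bc f G ⟶ Red.bc f G) ^ m := by
  induction m with
  | zero =>
    rw [_root_.pow_zero, _root_.pow_zero]
    exact Functor.map_one _
  | succ m ih =>
    rw [_root_.pow_succ, _root_.pow_succ, ← ih]
    refine (Functor.map_mul _ _ _).trans ?_
    rw [CategoryTheory.Functor.map_id]

theorem flat_surjective_pow (hG : SGA7.FibresUnipotentRankZero G) (m : ℕ) (hm : 0 < m) :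
    QuasiCompact ((𝟙 G : G ⟶ G) ^ m).left ∧
      Surjective ((𝟙 G : G ⟶ G) ^ m).left ∧ Flat ((𝟙 G : G ⟶ G) ^ m).left := by
  have hqc : QuasiCompact G.hom := quasiCompact_hom G
  let s : Spec (CommRingCat.of k) := IsLocalRing.closedPoint k
  have hsub : Subsingleton (Spec (CommRingCat.of k)) := inferInstanceAs (Subsingleton (PrimeSpectrum k))
  have hflat : Flat (Red.geomPt s) := inferInstance
  have hsurj : Surjective (Red.geomPt s) := ⟨fun x => ⟨IsLocalRing.closedPoint _, Subsingleton.elim _ _⟩⟩
  have h1 : Smooth (Red.bc (Red.geomPt s) G).hom := inferInstanceAs (Smooth (pullback.snd G.hom (Red.geomPt s)))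
  let _ : GrpObj (Over.mk G.hom) := inferInstanceAs (GrpObj G)
  have h2 : GeometricallyIrreducible G.hom := Sga3C.GrpIrr.geometricallyIrreducible_of_connectedSpace G.hom
  have h3 : IrreducibleSpace (Red.bc (Red.geomPt s) G).left := by
    have : GeometricallyIrreducible (pullback.snd G.hom (Red.geomPt s)) := inferInstance
    exact GeometricallyIrreducible.irreducibleSpace_of_subsingleton (pullback.snd G.hom (Red.geomPt s))
  have h4 : ConnectedSpace (Red.bc (Red.geomPt s) G).left := inferInstance
  obtain ⟨-, h6, -⟩ := AlgClosed.flat_surjective_pow (TorsIn.torsionInput _)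
    (G := Red.bc (Red.geomPt s) G) (fun j hj hj' => hG s j hj hj') m hm
  have h7 : Surjective ((𝟙 G : G ⟶ G) ^ m).left := by
    have h8 : ((Over.pullback (Red.geomPt s)).map ((𝟙 G : G ⟶ G) ^ m)).left ≫ pullback.fst G.hom (Red.geomPt s) =
        pullback.fst G.hom (Red.geomPt s) ≫ ((𝟙 G : G ⟶ G) ^ m).left := pullback.lift_fst _ _ _
    rw [map_one_pow] at h8
    have h9 : Surjective (pullback.fst G.hom (Red.geomPt s)) := inferInstance
    have h10 : Surjective (((𝟙 (Red.bc (Red.geomPt s) G) : Red.bc (Red.geomPt s) G ⟶ _) ^ m).left ≫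
        pullback.fst G.hom (Red.geomPt s)) := inferInstance
    rw [h8] at h10
    exact Surjective.of_comp (pullback.fst G.hom (Red.geomPt s)) _
  have hmon : IsMonHom ((𝟙 G : G ⟶ G) ^ m) := isMonHom_pow _ _
  have hqcf : QuasiCompact ((𝟙 G : G ⟶ G) ^ m).left := by
    have : QuasiCompact (((𝟙 G : G ⟶ G) ^ m).left ≫ G.hom) := by rw [Over.w]; infer_instance
    have : IsSeparated G.hom := Books.AntiAffine.isSeparated_hom G
    exact QuasiCompact.of_comp _ G.hom
  have h11 : IsLocallyNoetherian G.left :=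
    LocallyOfFiniteType.isLocallyNoetherian (Y := Spec (CommRingCat.of k)) G.hom
  have h12 : IsReduced G.left := Flat2B.SmoothGeom.isReduced_of_smooth G.hom
  exact ⟨hqcf, h7, FieldHom.flat_of_surjective k _⟩

theorem tf (hG : SGA7.FibresUnipotentRankZero G) : Idem.TF (EndHom G) := by
  intro n a hn h
  obtain ⟨h1, h2, h3⟩ := flat_surjective_pow G hG n hn
  exact nsmul_eq_zero n a h

theorem exists_div (hG : SGA7.FibresUnipotentRankZero G) {n : ℕ} (hn : 0 < n) (x : EndHom G)
    (h : ∀ (T : Over (Spec (CommRingCat.of k))) (a : T ⟶ G), a ^ n = 1 → a ≫ x.hom = 1) :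
    ∃ w : EndHom G, x = n * w := by
  obtain ⟨h1, h2, h3⟩ := flat_surjective_pow G hG n hn
  exact exists_eq_nsmul n x h

end K567.SemiAb
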