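import Groth.Agent.Sga7.H753.Core
import Mathlib.RingTheory.IntegralDomain
import Mathlib.FieldTheory.Galois.Infinite

/-!
# Tame inertia at a finite level is cyclic

`W` is a valuation subring of a separable closure `Ω` of `K` lying over a discrete valuation ring of `K`, and
`E` is a finite normal extension of `K` inside `Ω`.  `exists_gen`: there is an inertia element `τ` such that
every inertia element is, up to an element which is wild on `E`, a power of `τ`.
`exists_gen_mod`: if `H` is a subgroup which contains the inertia elements trivial on `E` and the `M`-th powers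
of the inertia elements, `M` prime to the residue characteristic, then inertia is generated by one element
modulo `H`.
-/

set_option autoImplicit false
set_option linter.unusedSectionVars false

universe u

open Groth.Agent.Sga7.H753

namespace K567.Tame

open Wild

variable {K Ω : Type u} [Field K] [Field Ω] [Algebra K Ω]

/-- `σ` is wild on the subfield `E`. -/
def WildOn (W : ValuationSubring Ω) (E : IntermediateField K Ω) (σ : Ω ≃ₐ[K] Ω) : Prop :=
  ∀ z : Ω, z ∈ E → z ≠ 0 → W.valuation (σ z - z) < W.valuation z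

/-- The inertia subgroup. -/
def inertia (K : Type u) {Ω : Type u} [Field K] [Field Ω] [Algebra K Ω] [Algebra.IsAlgebraic K Ω]
    (W : ValuationSubring Ω) : Subgroup (Ω ≃ₐ[K] Ω) where
  carrier := {σ | SGA7.IsInertia W σ}
  one_mem' := inertia_one
  mul_mem' := inertia_mul
  inv_mem' := inertia_inv

theorem mem_inertia [Algebra.IsAlgebraic K Ω] {W : ValuationSubring Ω} {σ : Ω ≃ₐ[K] Ω} :
    σ ∈ inertia K W ↔ SGA7.IsInertia W σ := Iff.rfl

theorem map_mem {E : IntermediateField K Ω} [Normal K E] (σ : Ω ≃ₐ[K] Ω) {z : Ω} (hz : z ∈ E) : σ z ∈ E := by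
  have h1 := AlgEquiv.restrictNormal_commutes σ E ⟨z, hz⟩
  have h2 : σ z = ((σ.restrictNormal E) ⟨z, hz⟩ : E) := h1.symm
  rw [h2]
  exact (σ.restrictNormal E ⟨z, hz⟩).2

theorem apply_pow_mem {E : IntermediateField K Ω} [Normal K E] (σ : Ω ≃ₐ[K] Ω) {z : Ω} (hz : z ∈ E) (i : ℕ) :
    (σ ^ i) z ∈ E := map_mem _ hz

/-- wild elements of order prime to the residue characteristic are trivial -/
theorem wildOn_step [Algebra.IsAlgebraic K Ω] {W : ValuationSubring Ω} {E : IntermediateField K Ω} [Normal K E]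
    {τ : Ω ≃ₐ[K] Ω} (hτI : SGA7.IsInertia W τ) {n : ℕ} (hn : W.valuation (n : Ω) = 1)
    (hτ : WildOn W E τ) (hp : ∀ z ∈ E, (τ ^ n) z = z) : ∀ z ∈ E, τ z = z := by
  set v := W.valuation with hvdef
  have hv : ∀ x, v (τ x) = v x := inertia_val hτI
  intro z hz
  have hvi : ∀ (i : ℕ) (y : Ω), v ((τ ^ i) y) = v y := by
    intro i y
    induction i with
    | zero => rfl
    | succ i ih => rw [pow_succ', AlgEquiv.mul_apply, hv, ih]
  have hpow : ∀ (i : ℕ) (y : Ω), y ∈ E → y ≠ 0 → v ((τ ^ i) y - y) < v y := by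
    intro i y hy hy0
    have hvy : v y ≠ 0 := (Valuation.ne_zero_iff v).2 hy0
    induction i with
    | zero =>
      simp only [pow_zero, AlgEquiv.one_apply, sub_self, map_zero]
      exact zero_lt_iff.2 hvy
    | succ i ih =>
      have h1 : (τ ^ (i + 1)) y - y = (τ ((τ ^ i) y) - (τ ^ i) y) + ((τ ^ i) y - y) := by
        rw [pow_succ', AlgEquiv.mul_apply]
        ring
      rw [h1]
      refine v.map_add_lt ?_ ih
      have h2 : v ((τ ^ i) y) = v y := hvi _ _
      rw [← h2]
      apply hτ _ (apply_pow_mem τ hy i)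
      rw [← Valuation.ne_zero_iff v, h2]
      exact hvy
  have hshift : τ (∑ i ∈ Finset.range n, (τ ^ i) z) = ∑ i ∈ Finset.range n, (τ ^ i) z := by
    rw [map_sum]
    have h1 : ∀ i, τ ((τ ^ i) z) = (τ ^ (i + 1)) z := fun i => by rw [pow_succ', AlgEquiv.mul_apply]
    simp_rw [h1]
    have h2 := Finset.sum_range_succ' (fun i => (τ ^ i) z) n
    have h3 := Finset.sum_range_succ (fun i => (τ ^ i) z) n
    rw [h2] at h3
    rw [hp z hz] at h3
    simp only [pow_zero, AlgEquiv.one_apply] at h3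
    exact add_right_cancel h3
  set S : Ω := ∑ i ∈ Finset.range n, (τ ^ i) z with hS
  have hSE : S ∈ E := sum_mem fun i _ => apply_pow_mem τ hz i
  set y : Ω := n • z - S with hy
  have hyE : y ∈ E := sub_mem (nsmul_mem hz n) hSE
  have hτS : τ S = S := hshift
  have hτiS : ∀ i : ℕ, (τ ^ i) S = S := by
    intro i
    induction i with
    | zero => rfl
    | succ i ih => rw [pow_succ', AlgEquiv.mul_apply, ih, hτS]
  have hsum : ∑ i ∈ Finset.range n, (τ ^ i) y = 0 := by
    have h1 : ∀ i ∈ Finset.range n, (τ ^ i) y = n • (τ ^ i) z - S := by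
      intro i _
      rw [hy, map_sub, map_nsmul, hτiS]
    rw [Finset.sum_congr rfl h1, Finset.sum_sub_distrib, ← Finset.smul_sum, ← hS]
    simp
  have hy0 : y = 0 := by
    by_contra hy0
    have h1 : (n : Ω) * y = - ∑ i ∈ Finset.range n, ((τ ^ i) y - y) := by
      rw [Finset.sum_sub_distrib, hsum]
      simp
    have h2 : v ((n : Ω) * y) < v y := by
      rw [h1, Valuation.map_neg]
      exact v.map_sum_lt ((Valuation.ne_zero_iff v).2 hy0) (fun i _ => hpow i y hyE hy0)
    rw [map_mul, hn, one_mul] at h2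
    exact lt_irrefl _ h2
  have h3 : n • z = S := sub_eq_zero.1 hy0
  have h4 : n • τ z = n • z := by rw [← map_nsmul, h3, hτS]
  have hn0 : (n : Ω) ≠ 0 := by
    rw [← Valuation.ne_zero_iff v, hn]
    exact one_ne_zero
  rw [nsmul_eq_mul, nsmul_eq_mul] at h4
  exact mul_left_cancel₀ hn0 h4

theorem WildOn.pow [Algebra.IsAlgebraic K Ω] {W : ValuationSubring Ω} {E : IntermediateField K Ω} [Normal K E]
    {τ : Ω ≃ₐ[K] Ω} (hτI : SGA7.IsInertia W τ) (hτ : WildOn W E τ) (i : ℕ) : WildOn W E (τ ^ i) := by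
  intro y hy hy0
  have hvi : ∀ (i : ℕ) (y : Ω), W.valuation ((τ ^ i) y) = W.valuation y := by
    intro i y
    induction i with
    | zero => rfl
    | succ i ih => rw [pow_succ', AlgEquiv.mul_apply, inertia_val hτI, ih]
  have hvy : W.valuation y ≠ 0 := (Valuation.ne_zero_iff _).2 hy0
  induction i with
  | zero =>
    simp only [pow_zero, AlgEquiv.one_apply, sub_self, map_zero]
    exact zero_lt_iff.2 hvy
  | succ i ih =>
    have h1 : (τ ^ (i + 1)) y - y = (τ ((τ ^ i) y) - (τ ^ i) y) + ((τ ^ i) y - y) := by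
      rw [pow_succ', AlgEquiv.mul_apply]
      ring
    rw [h1]
    refine Valuation.map_add_lt _ ?_ ih
    have h2 : W.valuation ((τ ^ i) y) = W.valuation y := hvi _ _
    rw [← h2]
    apply hτ _ (apply_pow_mem τ hy i)
    rw [← Valuation.ne_zero_iff W.valuation, h2]
    exact hvy

theorem val_natCast_le (W : ValuationSubring Ω) (n : ℕ) : W.valuation (n : Ω) ≤ 1 :=
  (W.valuation_le_one_iff _).2 (natCast_mem W n)

theorem val_natCast_of_dvd (W : ValuationSubring Ω) {a b : ℕ} (h : a ∣ b) (hb : W.valuation (b : Ω) = 1) :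
    W.valuation (a : Ω) = 1 := by
  obtain ⟨c, rfl⟩ := h
  rw [Nat.cast_mul, map_mul] at hb
  refine le_antisymm (val_natCast_le W a) ?_
  calc (1 : W.ValueGroup) = W.valuation (a : Ω) * W.valuation (c : Ω) := hb.symm
    _ ≤ W.valuation (a : Ω) * 1 := by gcongr; exact val_natCast_le W c
    _ = _ := mul_one _

/-- A number `N > 0` is a product of a number prime to `M` and a divisor of a power of `M`. -/
theorem exists_coprime_factor (M : ℕ) {N : ℕ} (hN : 0 < N) :
    ∃ a b : ℕ, N = a * b ∧ Nat.Coprime a M ∧ b ∣ M ^ N := by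
  induction N using Nat.strong_induction_on with
  | _ N ih =>
    by_cases hc : Nat.Coprime N M
    · exact ⟨N, 1, (mul_one N).symm, hc, one_dvd _⟩
    · have hg : 1 < Nat.gcd N M := by
        have h0 : 0 < Nat.gcd N M := Nat.gcd_pos_of_pos_left _ hN
        have h1 : Nat.gcd N M ≠ 1 := hc
        omega
      obtain ⟨N', hN'⟩ := Nat.gcd_dvd_left N M
      have hN'0 : 0 < N' := by
        rcases Nat.eq_zero_or_pos N' with h | h
        · rw [h, mul_zero] at hN'
          omega
        · exact h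
      have hlt : N' < N := by
        rw [hN']
        have : 1 * N' < Nat.gcd N M * N' := Nat.mul_lt_mul_of_pos_right hg hN'0
        omega
      obtain ⟨a, b, h1, h2, h3⟩ := ih N' hlt hN'0
      refine ⟨a, b * Nat.gcd N M, ?_, h2, ?_⟩
      · conv_lhs => rw [hN', h1]
        ring
      · have h4 : b * Nat.gcd N M ∣ M ^ N' * M := Nat.mul_dvd_mul h3 (Nat.gcd_dvd_right N M)
        rw [← pow_succ] at h4
        exact h4.trans (pow_dvd_pow M hlt)

/-- A wild element on `E` whose `M`-th power lies in `H` lies in `H`. -/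
theorem mem_of_wildOn [Algebra.IsAlgebraic K Ω] {W : ValuationSubring Ω} (E : IntermediateField K Ω)
    [FiniteDimensional K E] [Normal K E] (H : Subgroup (Ω ≃ₐ[K] Ω))
    (hHE : ∀ σ : Ω ≃ₐ[K] Ω, SGA7.IsInertia W σ → (∀ z ∈ E, σ z = z) → σ ∈ H)
    {M : ℕ} (hM : W.valuation (M : Ω) = 1) {σ : Ω ≃ₐ[K] Ω} (hσ : SGA7.IsInertia W σ) (hw : WildOn W E σ)
    (hσM : σ ^ M ∈ H) : σ ∈ H := by
  have hpowI : ∀ n : ℕ, SGA7.IsInertia W (σ ^ n) := fun n => by
    have := inertia_zpow hσ (n : ℤ)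
    rwa [zpow_natCast] at this
  obtain ⟨N, hN, hNE⟩ : ∃ N : ℕ, 0 < N ∧ ∀ z ∈ E, (σ ^ N) z = z := by
    refine ⟨orderOf (σ.restrictNormal E), orderOf_pos _, fun z hz => ?_⟩
    have h1 := AlgEquiv.restrictNormal_commutes (σ ^ orderOf (σ.restrictNormal E)) E ⟨z, hz⟩
    have h2 : (σ ^ orderOf (σ.restrictNormal E)).restrictNormal E = 1 := by
      have h3 := map_pow (AlgEquiv.restrictNormalHom (F := K) (K₁ := Ω) E) σ (orderOf (σ.restrictNormal E))
      have h4 : (AlgEquiv.restrictNormalHom (F := K) (K₁ := Ω) E) σ = σ.restrictNormal E := rfl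
      rw [h4, pow_orderOf_eq_one] at h3
      exact h3
    rw [h2] at h1
    exact h1.symm
  obtain ⟨a, b, hab, hcop, hb⟩ := exists_coprime_factor M hN
  have hbv : W.valuation (b : Ω) = 1 := by
    apply val_natCast_of_dvd W hb
    rw [Nat.cast_pow, map_pow, hM, one_pow]
  have h1 : ∀ z ∈ E, (σ ^ a) z = z := by
    apply wildOn_step (hpowI a) hbv (hw.pow hσ a)
    intro z hz
    rw [← pow_mul, ← hab]
    exact hNE z hz
  have h2 : σ ^ a ∈ H := hHE _ (hpowI a) h1
  have h3 : σ = (σ ^ a) ^ (Nat.gcdA a M) * (σ ^ M) ^ (Nat.gcdB a M) := by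
    rw [← zpow_natCast, ← zpow_natCast, ← zpow_mul, ← zpow_mul, ← zpow_add]
    have h4 := Nat.gcd_eq_gcd_ab a M
    rw [hcop.gcd_eq_one] at h4
    rw [← h4]
    simp
  rw [h3]
  exact H.mul_mem (H.zpow_mem h2 _) (H.zpow_mem hσM _)

section gen

variable {R : Type u} [CommRing R] [IsDomain R] [IsDiscreteValuationRing R] [Algebra R K] [IsFractionRing R K]
  [Algebra.IsAlgebraic K Ω]

/-- Inertia is generated by one element modulo the elements which are wild on `E`. -/
theorem exists_gen (W : ValuationSubring Ω) (hW : SGA7.LiesOver K R W) (E : IntermediateField K Ω)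
    [FiniteDimensional K E] :
    ∃ τ : Ω ≃ₐ[K] Ω, SGA7.IsInertia W τ ∧
      ∀ σ : Ω ≃ₐ[K] Ω, SGA7.IsInertia W σ → ∃ j : ℕ, WildOn W E ((τ ^ j)⁻¹ * σ) := by
  have hdvr : IsDiscreteValuationRing (Core.tr W E) := Core.isDVR_tr (R := R) W E hW
  obtain ⟨ϖ, hϖ⟩ := IsDiscreteValuationRing.exists_irreducible (Core.tr W E)
  set ϖE : E := (ϖ : E) with hϖE
  have hϖE0 : ϖE ≠ 0 := fun h => hϖ.ne_zero (Subtype.ext h)
  set p : Ω := (ϖE : Ω) with hp
  have hp0 : p ≠ 0 := fun h => hϖE0 (Subtype.ext h)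
  have hvp : W.valuation p ≠ 0 := (Valuation.ne_zero_iff _).2 hp0
  have hquot : ∀ σ : Ω ≃ₐ[K] Ω, SGA7.IsInertia W σ → σ p / p ∈ W := fun σ hσ => by
    rw [← W.valuation_le_one_iff, map_div₀, inertia_val hσ, div_self hvp]
  let f : inertia K W →* IsLocalRing.ResidueField W :=
    { toFun := fun σ => IsLocalRing.residue W ⟨σ.1 p / p, hquot σ.1 σ.2⟩
      map_one' := by
        rw [← map_one (IsLocalRing.residue W)]
        congr 1
        apply Subtype.ext
        change p / p = 1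
        exact div_self hp0
      map_mul' := fun σ τ => by
        rw [← map_mul, ← sub_eq_zero, ← map_sub, IsLocalRing.residue_eq_zero_iff,
          ValuationSubring.valuation_lt_one_iff]
        change W.valuation ((σ.1 * τ.1) p / p - (σ.1 p / p) * (τ.1 p / p)) < 1
        have h1 : (σ.1 * τ.1) p / p - (σ.1 p / p) * (τ.1 p / p) =
            (σ.1 (τ.1 p / p) - τ.1 p / p) * (σ.1 p / p) := by
          have hσp : σ.1 p ≠ 0 := (map_ne_zero σ.1).2 hp0
          rw [AlgEquiv.mul_apply, map_div₀]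
          field_simp
        rw [h1, map_mul, map_div₀ W.valuation (σ.1 p), inertia_val σ.2, div_self hvp, mul_one]
        exact (σ.2 _ (hquot τ.1 τ.2)).2 }
  have hf : ∀ σ : inertia K W, f σ = IsLocalRing.residue W ⟨σ.1 p / p, hquot σ.1 σ.2⟩ := fun _ => rfl
  let χ : inertia K W →* (IsLocalRing.ResidueField W)ˣ := f.toHomUnits
  have hχ : ∀ σ, ((χ σ : (IsLocalRing.ResidueField W)ˣ) : IsLocalRing.ResidueField W) = f σ := fun _ => rfl
  have hfin : Finite χ.range := by
    have hroot : ∀ σ : Ω ≃ₐ[K] Ω, σ p ∈ (minpoly K p).rootSet Ω := by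
      intro σ
      have hpi : IsIntegral K p := Algebra.IsIntegral.isIntegral p
      rw [Polynomial.mem_rootSet]
      refine ⟨minpoly.ne_zero hpi, ?_⟩
      rw [Polynomial.aeval_algHom_apply σ p, minpoly.aeval, map_zero]
    have hfin0 : ((minpoly K p).rootSet Ω).Finite := Polynomial.rootSet_finite _ _
    have h1 : Set.Finite (Set.range fun σ : inertia K W => σ.1 p) :=
      hfin0.subset (by rintro _ ⟨σ, rfl⟩; exact hroot σ.1)
    have : Finite (Set.range fun σ : inertia K W => σ.1 p) := h1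
    let g : χ.range → Set.range (fun σ : inertia K W => σ.1 p) := fun y =>
      ⟨(Classical.choose y.2).1 p, ⟨_, rfl⟩⟩
    refine Finite.of_injective g ?_
    intro y y' h
    have h2 : (Classical.choose y.2).1 p = (Classical.choose y'.2).1 p := congrArg Subtype.val h
    have h3 := Classical.choose_spec y.2
    have h4 := Classical.choose_spec y'.2
    apply Subtype.ext
    rw [← h3, ← h4]
    apply Units.ext
    rw [hχ, hχ, hf, hf]
    congr 1
    apply Subtype.ext
    change (Classical.choose y.2).1 p / p = (Classical.choose y'.2).1 p / p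
    rw [h2]
  have hcyc : IsCyclic χ.range := inferInstance
  obtain ⟨⟨_, ⟨τ, rfl⟩⟩, hτ⟩ := IsCyclic.exists_monoid_generator (α := χ.range)
  refine ⟨τ.1, τ.2, fun σ hσ => ?_⟩
  obtain ⟨j, hj⟩ := (Submonoid.mem_powers_iff _ _).1 (hτ ⟨χ ⟨σ, hσ⟩, ⟨_, rfl⟩⟩)
  have hj' : χ (τ ^ j) = χ ⟨σ, hσ⟩ := by
    rw [map_pow]
    exact congrArg Subtype.val hj
  refine ⟨j, ?_⟩
  set σ' : inertia K W := (τ ^ j)⁻¹ * ⟨σ, hσ⟩ with hσ'
  have hσ'1 : (σ' : Ω ≃ₐ[K] Ω) = (τ.1 ^ j)⁻¹ * σ := rfl
  have hχσ' : χ σ' = 1 := by rw [hσ', map_mul, map_inv, hj', inv_mul_cancel]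
  have hfσ' : f σ' = 1 := by rw [← hχ, hχσ', Units.val_one]
  have hI : SGA7.IsInertia W σ'.1 := σ'.2
  set c : Ω := σ'.1 p / p with hc
  have hc1 : W.valuation (c - 1) < 1 := by
    rw [hf, ← map_one (IsLocalRing.residue W), ← sub_eq_zero, ← map_sub, IsLocalRing.residue_eq_zero_iff,
      ValuationSubring.valuation_lt_one_iff] at hfσ'
    exact hfσ'
  have hcpow : ∀ i : ℕ, W.valuation (c ^ i - 1) < 1 := Groth.Agent.Sga7.H743.TameVal.val_sub_pow_lt hc1
  rw [← hσ'1]
  intro z hz hz0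
  set zE : E := ⟨z, hz⟩ with hzE
  have hzE0 : zE ≠ 0 := fun h => hz0 (congrArg Subtype.val h)
  -- write `z` as unit times a power of `p`
  have key : ∀ y : Ω, ∀ hy : y ∈ E, y ≠ 0 → y ∈ W → W.valuation (σ'.1 y - y) < W.valuation y := by
    intro y hy hy0 hyW
    let y' : Core.tr W E := ⟨⟨y, hy⟩, hyW⟩
    have hy'0 : y' ≠ 0 := fun h => hy0 (congrArg (fun t : Core.tr W E => ((t : E) : Ω)) h)
    obtain ⟨n, u, hu⟩ := IsDiscreteValuationRing.eq_unit_mul_pow_irreducible hy'0 hϖ
    have hval : W.valuation y = W.valuation (p ^ n) := by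
      have h1 : y = (((u : Core.tr W E) : E) : Ω) * p ^ n := by
        have := congrArg (fun t : Core.tr W E => ((t : E) : Ω)) hu
        exact this
      have h2 : W.valuation (((u : Core.tr W E) : E) : Ω) = 1 := by
        have h3 : W.valuation (((u : Core.tr W E) : E) : Ω) ≤ 1 :=
          (W.valuation_le_one_iff _).2 (u : Core.tr W E).2
        have h4 : W.valuation ((((u⁻¹ : (Core.tr W E)ˣ) : Core.tr W E) : E) : Ω) ≤ 1 :=
          (W.valuation_le_one_iff _).2 ((u⁻¹ : (Core.tr W E)ˣ) : Core.tr W E).2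
        have h5 : (((u : Core.tr W E) : E) : Ω) * ((((u⁻¹ : (Core.tr W E)ˣ) : Core.tr W E) : E) : Ω) = 1 := by
          have := congrArg (fun t : Core.tr W E => ((t : E) : Ω)) u.mul_inv
          exact this
        refine le_antisymm h3 ?_
        calc (1 : W.ValueGroup) = W.valuation (((u : Core.tr W E) : E) : Ω) *
              W.valuation ((((u⁻¹ : (Core.tr W E)ˣ) : Core.tr W E) : E) : Ω) := by
              rw [← map_mul, h5, map_one]
          _ ≤ W.valuation (((u : Core.tr W E) : E) : Ω) * 1 := by gcongr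
          _ = _ := mul_one _
      conv_lhs => rw [h1]
      rw [map_mul, h2, one_mul]
    have h1 := inert_scale hI (z := p ^ n) (w := y) (pow_ne_zero n hp0) hval
    have h2 : σ'.1 (p ^ n) / p ^ n = c ^ n := by rw [map_pow, hc, div_pow]
    rw [h2] at h1
    have h3 : σ'.1 y - y = (σ'.1 y - c ^ n * y) + (c ^ n - 1) * y := by ring
    rw [h3, hval]
    refine Valuation.map_add_lt _ h1 ?_
    rw [map_mul, hval]
    calc W.valuation (c ^ n - 1) * W.valuation (p ^ n) < 1 * W.valuation (p ^ n) :=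
          mul_lt_mul_of_pos_right (hcpow n) (zero_lt_iff.2 ((Valuation.ne_zero_iff _).2 (pow_ne_zero n hp0)))
      _ = _ := one_mul _
  rcases W.mem_or_inv_mem z with hzW | hzW
  · exact key z hz hz0 hzW
  · have h1 := key z⁻¹ (inv_mem hz) (inv_ne_zero hz0) hzW
    have hσz : σ'.1 z ≠ 0 := (map_ne_zero σ'.1).2 hz0
    have hvz : W.valuation z ≠ 0 := (Valuation.ne_zero_iff _).2 hz0
    have h2 : σ'.1 z - z = -((σ'.1 z⁻¹ - z⁻¹) * (z * σ'.1 z)) := by
      rw [map_inv₀]
      field_simp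
      ring
    rw [h2, Valuation.map_neg, map_mul, map_mul, inertia_val hI]
    calc W.valuation (σ'.1 z⁻¹ - z⁻¹) * (W.valuation z * W.valuation z) <
          W.valuation z⁻¹ * (W.valuation z * W.valuation z) :=
          mul_lt_mul_of_pos_right h1 (zero_lt_iff.2 (mul_ne_zero hvz hvz))
      _ = W.valuation z := by
          rw [map_inv₀, ← mul_assoc, inv_mul_cancel₀ hvz, one_mul]

/-- Inertia is generated by one element modulo a subgroup of finite level and of exponent prime to the residue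
characteristic. -/
theorem exists_gen_mod (W : ValuationSubring Ω) (hW : SGA7.LiesOver K R W) (E : IntermediateField K Ω)
    [FiniteDimensional K E] [Normal K E] (H : Subgroup (Ω ≃ₐ[K] Ω))
    (hHE : ∀ σ : Ω ≃ₐ[K] Ω, SGA7.IsInertia W σ → (∀ z ∈ E, σ z = z) → σ ∈ H)
    {M : ℕ} (hM : W.valuation (M : Ω) = 1)
    (hHM : ∀ σ : Ω ≃ₐ[K] Ω, SGA7.IsInertia W σ → σ ^ M ∈ H) :
    ∃ τ : Ω ≃ₐ[K] Ω, SGA7.IsInertia W τ ∧
      ∀ σ : Ω ≃ₐ[K] Ω, SGA7.IsInertia W σ → ∃ j : ℕ, (τ ^ j)⁻¹ * σ ∈ H := by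
  obtain ⟨τ, hτ, h⟩ := exists_gen (R := R) W hW E
  refine ⟨τ, hτ, fun σ hσ => ?_⟩
  obtain ⟨j, hj⟩ := h σ hσ
  have h1 : SGA7.IsInertia W ((τ ^ j)⁻¹ * σ) := by
    refine inertia_mul (inertia_inv ?_) hσ
    have := inertia_zpow hτ (j : ℤ)
    rwa [zpow_natCast] at this
  exact ⟨j, mem_of_wildOn E H hHE hM h1 hj (hHM _ h1)⟩

end gen

end K567.Tame
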