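import Groth.Agent.SGA7.K567.UnipPow
import Groth.Agent.Sga7.H753.BaseExt
import Mathlib.RingTheory.DiscreteValuationRing.Basic
import Mathlib.FieldTheory.IsSepClosed
import Mathlib.AlgebraicGeometry.Geometrically.Integral
import Mathlib.RingTheory.LocalRing.ResidueField.Defs

/-!
# Semistable reduction over totally ramified extensions, from the Galois criterion and quasi-unipotence
-/

set_option autoImplicit false
set_option linter.unusedSectionVars false

universe u

open scoped Pointwise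
open CategoryTheory AlgebraicGeometry MonObj
open Groth.Agent.Sga7.H753 IntermediateField

namespace K567.TotalRed

open Wild WildFix Unip K567.Tame K567.Uniq

/-- the direction "unipotent inertia ⇒ semistable" of S4049. -/
def SSOfUnip : Prop :=
  ∀ (R K Ω : Type u) [CommRing R] [IsDomain R] [IsDiscreteValuationRing R] [Field K]
    [Algebra R K] [IsFractionRing R K] [Field Ω] [Algebra K Ω] [IsSepClosure K Ω]
    (W : ValuationSubring Ω) (_ : SGA7.LiesOver K R W)
    (ℓ : ℕ) (_ : ℓ.Prime) (_ : (ℓ : IsLocalRing.ResidueField R) ≠ 0)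
    (A : Over (Spec (CommRingCat.of K))) [GrpObj A] [IsProper A.hom] [GeometricallyIntegral A.hom],
    SGA7.InertiaUnipotentOn W A ℓ → SGA7.HasSemistableReduction R K A

/-- the statement S4050 -/
def OpenLevelTwo : Prop := ∀ (R K Ω : Type u) [CommRing R] [IsDomain R] [IsDiscreteValuationRing R] [Field K]
    [Algebra R K] [IsFractionRing R K] [Field Ω] [Algebra K Ω] [IsSepClosure K Ω]
    (W : ValuationSubring Ω) (_ : SGA7.LiesOver K R W)
    (ℓ : ℕ) (_ : ℓ.Prime) (_ : (ℓ : IsLocalRing.ResidueField R) ≠ 0)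
    (A : Over (Spec (CommRingCat.of K))) [GrpObj A] [IsProper A.hom] [GeometricallyIntegral A.hom],
    ∃ π' : OpenSubgroup (Ω ≃ₐ[K] Ω), ∀ (ν : ℕ) (σ τ : Ω ≃ₐ[K] Ω), σ ∈ π' → τ ∈ π' →
      SGA7.IsInertia W σ → SGA7.IsInertia W τ →
        ∀ x : SGA7.Pts Ω A, x ^ (ℓ ^ ν) = 1 → SGA7.dev σ (SGA7.dev τ x) = 1

theorem natCast_ne_zero_of_isLocalHom {R S : Type u} [CommRing R] [IsLocalRing R] [CommRing S] [IsLocalRing S]
    [Algebra R S] {n : ℕ} (h : (n : IsLocalRing.ResidueField R) ≠ 0) : (n : IsLocalRing.ResidueField S) ≠ 0 := by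
  have h1 : IsUnit (n : R) := by
    by_contra hn
    apply h
    rw [← map_natCast (IsLocalRing.residue R), IsLocalRing.residue_eq_zero_iff]
    exact hn
  have h2 : IsUnit (n : S) := by
    have := h1.map (algebraMap R S)
    rwa [map_natCast] at this
  intro h0
  rw [← map_natCast (IsLocalRing.residue S), IsLocalRing.residue_eq_zero_iff] at h0
  exact h0 h2

/-- Semistable reduction over a totally ramified Galois extension of degree `m` when the `m`-th powers of the
inertia elements act unipotently. -/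
theorem semistable_of_pow (h49 : SSOfUnip.{u}) (h50 : OpenLevelTwo.{u})
    (R K Ω : Type u) [CommRing R] [IsDomain R]
    [IsDiscreteValuationRing R] [Field K] [Algebra R K] [IsFractionRing R K] [Field Ω] [Algebra K Ω] [IsSepClosure K Ω]
    (W : ValuationSubring Ω) (hW : SGA7.LiesOver K R W)
    (A : Over (Spec (CommRingCat.of K))) [GrpObj A] [IsProper A.hom] [GeometricallyIntegral A.hom]
    (m ℓ : ℕ) (hℓ : ℓ.Prime) (hmℓ : ((m * ℓ : ℕ) : IsLocalRing.ResidueField R) ≠ 0)
    (h : ∀ σ : Ω ≃ₐ[K] Ω, SGA7.IsInertia W σ →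
      ∃ N : ℕ, ∀ (ν : ℕ) (x : SGA7.Pts Ω A), x ^ (ℓ ^ ν) = 1 → (SGA7.dev (σ ^ m))^[N] x = 1)
    (K' : Type u) [Field K'] [Algebra K K'] [Algebra R K'] [IsScalarTower R K K'] [FiniteDimensional K K']
    [IsGalois K K'] (hdeg : Module.finrank K K' = m)
    (P : Ideal ↥(integralClosure R K')) [P.IsMaximal]
    (hP : P.ramificationIdx R = m) :
    SGA7.HasSemistableReduction ↥(integralClosure R K') K'
      (Red.bc (Spec.map (CommRingCat.ofHom (algebraMap K K'))) A) := by
  have hgal : IsGalois K Ω := inferInstance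
  have hsc : IsSepClosed Ω := IsSepClosure.sep_closed K
  have hcomm : IsCommMonObj A := isCommMonObj_of_isProper_of_geometricallyIntegral A
  have hmk : (m : IsLocalRing.ResidueField R) ≠ 0 := fun h0 => hmℓ (by rw [Nat.cast_mul, h0, MulZeroClass.zero_mul])
  have hℓk : (ℓ : IsLocalRing.ResidueField R) ≠ 0 := fun h0 => hmℓ (by rw [Nat.cast_mul, h0, MulZeroClass.mul_zero])
  have hmv : W.valuation (m : Ω) = 1 := Core.val_natCast (R := R) W hW hmk
  have hℓv : W.valuation (ℓ : Ω) = 1 := Core.val_natCast (R := R) W hW hℓk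
  rw [← hdeg] at hP
  have hdvr := K567.Total.isDVR R K K' P hP
  have hfr : IsFractionRing (integralClosure R K') K' :=
    IsIntegralClosure.isFractionRing_of_finite_extension R K K' _
  -- embed `K'` in `Ω`
  let emb : K' →ₐ[K] Ω := IsSepClosed.lift
  let _ : Algebra K' Ω := emb.toRingHom.toAlgebra
  have t1 : IsScalarTower K K' Ω := IsScalarTower.of_algebraMap_eq fun x => (emb.commutes x).symm
  have hsc' : IsSepClosure K' Ω := ⟨hsc, Algebra.isSeparable_tower_top_of_isSeparable K K' Ω⟩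
  have hW' : SGA7.LiesOver K' (integralClosure R K') W :=
    Groth.Agent.Sga7.H734.OverInt.liesOver (K := K) W hW
  have hℓk' : (ℓ : IsLocalRing.ResidueField (integralClosure R K')) ≠ 0 := natCast_ne_zero_of_isLocalHom hℓk
  have hp : IsProper (Red.bc (BaseExt.fKL K K') A).hom := by
    dsimp
    infer_instance
  have hgi : GeometricallyIntegral (Red.bc (BaseExt.fKL K K') A).hom := by
    dsimp
    infer_instance
  refine h49 (integralClosure R K') K' Ω W hW' ℓ hℓ hℓk' (Red.bc (BaseExt.fKL K K') A) ?_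
  obtain ⟨U, hU⟩ := h50 R K Ω W hW ℓ hℓ hℓk A
  -- the image of `K'`
  let L : IntermediateField K Ω := emb.fieldRange
  let e : K' ≃ₐ[K] L := AlgEquiv.ofInjectiveField emb
  have he : ∀ x : K', ((e x : L) : Ω) = algebraMap K' Ω x := fun x => rfl
  have hLf : FiniteDimensional K L := e.toLinearEquiv.finiteDimensional
  have hLg : IsGalois K L := IsGalois.of_algEquiv e
  have hLd : Module.finrank K L = m := by rw [← hdeg]; exact e.toLinearEquiv.finrank_eq.symm
  have hsurj : ∀ g : L ≃ₐ[K] L, ∃ σ : Ω ≃ₐ[K] Ω, SGA7.IsInertia W σ ∧ ∀ x : L, σ x = (g x : L) := by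
    intro g
    obtain ⟨σ, hσ, hσg⟩ := K567.Total.exists_inertia_lift R K K' (Ω := Ω) W hW P hP ((e.trans g).trans e.symm)
    refine ⟨σ, hσ, fun x => ?_⟩
    obtain ⟨y, rfl⟩ := e.surjective x
    rw [he, hσg, ← he]
    simp
  have key := K567.UnipPow.unip_of_fix (A := A) (R := R) hW hℓ hℓv hmv U
    (fun σ hσU hσ => (unip_iff σ).2 ⟨2, fun ν x hx => hU ν σ σ hσU hσU hσ hσ x hx⟩)
    (fun σ hσ => (unip_iff _).2 (h σ hσ)) L hLd hsurj
  intro σ hσ
  have hσL : σ.restrictScalars K ∈ L.fixingSubgroup := by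
    rw [IntermediateField.mem_fixingSubgroup_iff]
    rintro _ ⟨x, rfl⟩
    exact σ.commutes x
  obtain ⟨N, hN⟩ := (unip_iff _).1 (key (σ.restrictScalars K) hσ hσL)
  refine ⟨N, fun ν x hx => ?_⟩
  apply (BaseExt.ptsEquiv K K' Ω A).injective
  rw [BaseExt.ptsEquiv_dev_iterate, map_one]
  apply hN ν
  rw [← map_pow, hx, map_one]

end K567.TotalRed
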