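import Groth.Agent.SGA7.K567.TotalRed
import Groth.Agent.Sga7.H733.LevelTwoOfOpen

/-!
# Inertia trivial on the two-torsion: squares of inertia elements are unipotent
-/

set_option autoImplicit false
set_option linter.unusedSectionVars false

universe u

open CategoryTheory AlgebraicGeometry MonObj
open SGA7 Groth.Agent.Sga7.H733.PtsBasic Groth.Agent.Sga7.H733.LevelTwoGrp
open Groth.Agent.Sga7.H733.LevelTwoAlg

namespace K567.Quad

variable {K : Type u} [Field K] {Ω : Type u} [Field Ω] [Algebra K Ω] [IsSepClosure K Ω]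
  (W : ValuationSubring Ω)
  (A : Over (Spec (CommRingCat.of K))) [GrpObj A] [IsProper A.hom] [GeometricallyIntegral A.hom]

theorem sq_unip (h2 : (2 : K) ≠ 0)
    (π' : OpenSubgroup (Ω ≃ₐ[K] Ω))
    (hπ : ∀ (ν : ℕ) (σ τ : Ω ≃ₐ[K] Ω), σ ∈ π' → τ ∈ π' →
      SGA7.IsInertia W σ → SGA7.IsInertia W τ →
        ∀ x : SGA7.Pts Ω A, x ^ (2 ^ ν) = 1 → SGA7.dev σ (SGA7.dev τ x) = 1)
    (h : InertiaTrivialOn W A 2) (σ : Ω ≃ₐ[K] Ω) (hσ : IsInertia W σ) :
    ∀ (ν : ℕ) (x : Pts Ω A), x ^ (2 ^ ν) = 1 → (dev (σ ^ 2))^[2] x = 1 := by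
  haveI : IsSepClosed Ω := IsSepClosure.sep_closed K
  haveI : IsCommMonObj A := isCommMonObj_of_isProper_of_geometricallyIntegral A
  letI : CommGroup (Pts Ω A) := Hom.commGroup
  intro ν x hx
  set s := σ ^ 2 with hs
  have hsI : IsInertia W s := isInertia_pow hσ 2
  obtain ⟨m, hm, hσm⟩ := exists_pow_mem π' s
  have hdv : ∀ (σ : Ω ≃ₐ[K] Ω), dv (galHom A σ) = dev (A := A) σ := fun σ => rfl
  have hiter : ∀ (σ : Ω ≃ₐ[K] Ω) (m : ℕ), (galHom A σ)^[m] = galHom A (σ ^ m) := by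
    intro σ m
    funext x
    exact (galAct_pow σ m x).symm
  have hfour : ∀ x : Pts Ω A, x ^ 4 = 1 → galHom A s x = x := by
    intro x hx
    have h1 : galAct σ (x ^ 2) = x ^ 2 := h σ hσ _ (by rw [← pow_mul]; exact hx)
    rw [galAct_npow] at h1
    have h3 : (galAct σ x * x⁻¹) ^ 2 = 1 := by rw [mul_pow, h1, ← mul_pow, mul_inv_cancel, _root_.one_pow]
    have h4 : galAct σ (galAct σ x * x⁻¹) = galAct σ x * x⁻¹ := h σ hσ _ h3
    rw [galAct_mul', galAct_inv, mul_inv_eq_iff_eq_mul] at h4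
    have h5 : galAct s x = galAct σ (galAct σ x) := by rw [hs, pow_two, galAct_mul]
    rw [galHom_apply, h5, h4]
    have h6 : galAct σ x * x⁻¹ * galAct σ x = (galAct σ x * x⁻¹) ^ 2 * x := by
      rw [pow_two, _root_.mul_assoc (galAct σ x * x⁻¹) (galAct σ x * x⁻¹) x, _root_.mul_assoc (galAct σ x) x⁻¹ x,
        inv_mul_cancel, _root_.mul_one]
    rw [h6, h3, _root_.one_mul]
  have key := levelTwo (P := Pts Ω A) Nat.prime_two
    (fun x _ => exists_pow_eq A (n := 2) (by exact_mod_cast h2) x) (galHom A s) (galHom A s)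
    hm hm (Or.inl ⟨4, ⟨Nat.prime_two, Or.inr ⟨rfl, rfl⟩⟩, hfour⟩)
    (Or.inl ⟨4, ⟨Nat.prime_two, Or.inr ⟨rfl, rfl⟩⟩, hfour⟩) (by
      rintro x ⟨ν, hx⟩
      rw [hiter]
      exact hπ ν _ _ hσm hσm (isInertia_pow hsI m) (isInertia_pow hsI m) x hx) x ⟨ν, hx⟩
  exact key

end K567.Quad
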