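import Groth.Agent.SGA7.K567.NSp
import Groth.Agent.Sga7.H753.NerField
import Groth.Agent.Sga7.H750.NeronMain
import Groth.Agent.Sga7.H620.NOSFinal
import Groth.Agent.Sga7.H620.TorsCount
import Groth.Agent.Sga7.H481.InertiaField
import Groth.Agent.Sga7.H254.S4054Cond

/-!
# Abelian varieties with potentially good reduction: specialization to the special fibre

`exists_special`: `A` an abelian variety over the fraction field `K` of a discrete valuation ring, `W` a valuation ring
of a separable closure `Ω` over it; suppose that an open subgroup of inertia acts trivially on the `l`-power torsion. Then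
there are an abelian variety `B` over the residue field of `W`, a homomorphism `sp : A(Ω) → B(κ)`, bijective on the
torsion of order invertible in `κ`, compatible with a ring homomorphism `End_K(A) → End(B)`, and through which
every inertia element acts by an endomorphism of `B`.
-/

set_option autoImplicit false
set_option linter.unusedSectionVars false

universe u

open CategoryTheory CategoryTheory.Limits MonoidalCategory CartesianMonoidalCategory AlgebraicGeometry MonObj

namespace K567.PotGood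

open Groth.Agent.Sga7.H753.BaseExt Groth.Agent.Sga7.H753.NerFix Groth.Agent.Sga7.H753.NerGeo
open Groth.Agent.Sga7.H753.Core Groth.Agent.Sga7.H753.Wild Groth.Agent.Sga7.H753.NerField
open Groth.Agent.Sga7.H481 Groth.Agent.Sga7.H753

theorem geometricallyIntegral_comp {X Y Z : Scheme.{u}} (f : X ⟶ Y) [IsIso f] (g : Y ⟶ Z)
    (h : GeometricallyIntegral g) : GeometricallyIntegral (f ≫ g) := by
  have h1 : MorphismProperty.IsStableUnderBaseChange @GeometricallyIntegral.{u} := inferInstance
  have h2 : MorphismProperty.RespectsIso @GeometricallyIntegral.{u} :=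
    MorphismProperty.IsStableUnderBaseChange.respectsIso
  exact (MorphismProperty.cancel_left_of_respectsIso @GeometricallyIntegral.{u} f g).2 h

/-- The data on the special fibre. -/
structure Special {K Ω : Type u} [Field K] [Field Ω] [Algebra K Ω] (W : ValuationSubring Ω)
    (A : Over (Spec (CommRingCat.of K))) [GrpObj A] [IsCommMonObj A]
    (B : Over (Spec (CommRingCat.of (IsLocalRing.ResidueField W)))) [GrpObj B] [IsCommMonObj B] where
  /-- the specialization -/
  sp : SGA7.Pts Ω A →* (𝟙_ (Over (Spec (CommRingCat.of (IsLocalRing.ResidueField W)))) ⟶ B)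
  /-- endomorphisms -/
  θ : EndAV.End A →+* EndAV.End B
  inj : ∀ (m : ℕ) (x : SGA7.Pts Ω A), (m : IsLocalRing.ResidueField W) ≠ 0 → x ^ m = 1 → sp x = 1 → x = 1
  surj : ∀ (m : ℕ) (y : 𝟙_ (Over (Spec (CommRingCat.of (IsLocalRing.ResidueField W)))) ⟶ B),
    (m : IsLocalRing.ResidueField W) ≠ 0 → y ^ m = 1 → ∃ x, x ^ m = 1 ∧ sp x = y
  sp_comp : ∀ (φ : EndAV.End A) (x : SGA7.Pts Ω A), sp (x ≫ φ.toHom) = sp x ≫ (θ φ).toHom
  sp_gal : ∀ (σ : Ω ≃ₐ[K] Ω), SGA7.IsInertia W σ → ∃ u : EndAV.End B, ∀ x : SGA7.Pts Ω A,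
    sp (SGA7.galAct σ x) = sp x ≫ u.toHom

theorem exists_special (R K Ω : Type u) [CommRing R] [IsDomain R] [IsDiscreteValuationRing R] [Field K]
    [Algebra R K] [IsFractionRing R K] [Field Ω] [Algebra K Ω] [IsSepClosure K Ω]
    (W : ValuationSubring Ω) (hW : SGA7.LiesOver K R W)
    (l : ℕ) (hl : l.Prime) (hlp : (l : IsLocalRing.ResidueField R) ≠ 0)
    (A : Over (Spec (CommRingCat.of K))) [GrpObj A] [IsCommMonObj A] [IsProper A.hom] [GeometricallyIntegral A.hom]
    (U : OpenSubgroup (Ω ≃ₐ[K] Ω)) (hU : ∀ σ ∈ U, SGA7.IsInertia W σ →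
      ∀ (ν : ℕ) (x : SGA7.Pts Ω A), x ^ (l ^ ν) = 1 → SGA7.galAct σ x = x) :
    IsAlgClosed (IsLocalRing.ResidueField W) ∧
    ∃ (B : Over (Spec (CommRingCat.of (IsLocalRing.ResidueField W)))) (_ : GrpObj B) (_ : IsCommMonObj B)
      (_ : IsProper B.hom) (_ : GeometricallyIntegral B.hom), Nonempty (Special W A B) := by
  have hgal : IsGalois K Ω := IsSepClosure.isGalois
  obtain ⟨E, hEf, hEn, hE⟩ := (krullTopology_mem_nhds_one_iff_of_normal K Ω
    (U : Set (Ω ≃ₐ[K] Ω))).1 (U.isOpen.mem_nhds U.one_mem)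
  have hdvr := isDVR_tr (R := R) W E hW
  have hsep : IsSepClosure E Ω := ⟨IsSepClosure.sep_closed K, Algebra.isSeparable_tower_top_of_isSeparable K E Ω⟩
  have hLO := liesOver_tr W E
  have hdvr1 : IsDiscreteValuationRing (R₁ W E) := InertiaField.isDiscreteValuationRing_Rnr hLO
  have hstr : EtCoh.IsStrictlyHenselianLocalRing (R₁ W E) :=
    InertiaField.isStrictlyHenselianLocalRing_Rnr hLO
  have hh1 : HenselianLocalRing (R₁ W E) := hstr.1
  have hh2 : IsSepClosed (IsLocalRing.ResidueField (R₁ W E)) := hstr.2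
  have hLO1 : SGA7.LiesOver (K₁ W E) (R₁ W E) W := InertiaField.liesOver_Rnr E W
  have hsep1 : IsSepClosure (K₁ W E) Ω := InertiaField.isSepClosure_Knr E W
  have hsc : IsSepClosed Ω := IsSepClosure.sep_closed K
  have hv := Core.val_natCast W hW hlp
  have hres : ∀ {p : ℕ}, W.valuation (p : Ω) = 1 → (p : IsLocalRing.ResidueField (R₁ W E)) ≠ 0 := by
    intro p hp h0
    rw [← map_natCast (IsLocalRing.residue (R₁ W E)), IsLocalRing.residue_eq_zero_iff] at h0
    have h1 := hLO1.2 _ h0
    rw [map_natCast, map_natCast, hp] at h1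
    exact lt_irrefl _ h1
  have hWh := InertiaField.strictlyHenselian_valuationSubring W
  have hκ : IsAlgClosed (IsLocalRing.ResidueField W) := isAlgClosed_residueField W (by
    obtain ⟨ϖ, hϖ⟩ := IsDiscreteValuationRing.exists_irreducible R
    intro h0
    have h1 := hW.2 ϖ hϖ.not_isUnit
    have h2 : (⟨algebraMap K Ω (algebraMap R K ϖ), hW.1 ϖ⟩ : W) ∈ IsLocalRing.maximalIdeal W :=
      (ValuationSubring.valuation_lt_one_iff _ _).2 h1
    rw [h0, Ideal.mem_bot] at h2
    have h3 : algebraMap K Ω (algebraMap R K ϖ) = 0 := congrArg Subtype.val h2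
    rw [map_eq_zero_iff _ (algebraMap K Ω).injective, map_eq_zero_iff _ (IsFractionRing.injective R K)] at h3
    exact hϖ.ne_zero h3)
  refine ⟨hκ, ?_⟩
  -- the abelian variety over `K₁`
  have hP : IsProper (Red.bc (fKL K (K₁ W E)) A).hom :=
    inferInstanceAs (IsProper (pullback.snd A.hom (fKL K (K₁ W E))))
  have hG : GeometricallyIntegral (Red.bc (fKL K (K₁ W E)) A).hom :=
    inferInstanceAs (GeometricallyIntegral (pullback.snd A.hom (fKL K (K₁ W E))))
  have htow : IsScalarTower K (K₁ W E) Ω := IsScalarTower.of_algebraMap_eq (fun _ => rfl)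
  obtain ⟨N, _, e, he, hN⟩ := Groth.Agent.Sga7.H750.NeronMain.neAll (R₁ W E) (K₁ W E) (Red.bc (fKL K (K₁ W E)) A)
  -- properness
  have hw : e.hom.left ≫ (Red.bc (fKL K (K₁ W E)) A).hom = ((SGA7.genFib (R₁ W E) (K₁ W E)).obj N).hom := Over.w e.hom
  have hei : IsIso e.hom.left := inferInstanceAs (IsIso ((Over.forget _).map e.hom))
  have hP' : IsProper ((SGA7.genFib (R₁ W E) (K₁ W E)).obj N).hom := by
    rw [← hw]
    infer_instance
  have hG' : GeometricallyIntegral ((SGA7.genFib (R₁ W E) (K₁ W E)).obj N).hom := by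
    rw [← hw]
    exact geometricallyIntegral_comp _ _ hG
  obtain ⟨hNp, hNc⟩ := Groth.Agent.Sga7.H620.NOSFinal.isProper_and_connected (R₁ W E) (K₁ W E) Ω l hl (hres hv) N hN
    (fun ν σ x hx => by
      refine Groth.Agent.Sga7.H254.S4054Cond.galAct_of_iso e he (l ^ ν) σ (fun y hy => ?_) x hx
      apply (ptsEquiv K (K₁ W E) Ω A).injective
      rw [ptsEquiv_galAct]
      have h1 : σ.restrictScalars K ∈ (U : Set (Ω ≃ₐ[K] Ω)) := by
        apply hE
        rw [SetLike.mem_coe, IntermediateField.mem_fixingSubgroup_iff]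
        intro z hz
        exact σ.commutes (algebraMap E (K₁ W E) ⟨z, hz⟩)
      have h2 : SGA7.IsInertia W (σ.restrictScalars K) := InertiaField.isInertia_Knr (K := E) hLO σ
      exact hU _ h1 h2 ν _ (by rw [← map_pow, hy, map_one]))
  -- the tower
  let _ : Algebra (R₁ W E) Ω := ((algebraMap (K₁ W E) Ω).comp (algebraMap (R₁ W E) (K₁ W E))).toAlgebra
  have : IsScalarTower (R₁ W E) (K₁ W E) Ω := IsScalarTower.of_algebraMap_eq (fun _ => rfl)
  let _ : Algebra (R₁ W E) W :=
    (((algebraMap (K₁ W E) Ω).comp (algebraMap (R₁ W E) (K₁ W E))).codRestrict W.toSubring hLO1.1).toAlgebra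
  have : IsScalarTower (R₁ W E) W Ω := IsScalarTower.of_algebraMap_eq (fun _ => rfl)
  have hgal1 : IsGalois (K₁ W E) Ω := IsSepClosure.isGalois
  have hWh' : HenselianLocalRing W := hWh.1
  -- commutativity
  have hc1 : IsCommMonObj (Red.bc (fKL K (K₁ W E)) A) :=
    inferInstanceAs (IsCommMonObj ((Over.pullback (fKL K (K₁ W E))).obj A))
  have hcomm : ∀ (T : Over (Spec (CommRingCat.of (K₁ W E)))) (a b : T ⟶ (SGA7.genFib (R₁ W E) (K₁ W E)).obj N),
      a * b = b * a := by
    intro T a b
    have h1 : (a * b) ≫ e.hom = (b * a) ≫ e.hom := by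
      rw [MonObj.mul_comp, MonObj.mul_comp, mul_comm]
    exact (cancel_mono e.hom).1 h1
  have hc2 : IsCommMonObj ((SGA7.genFib (R₁ W E) (K₁ W E)).obj N) := by
    refine ⟨?_⟩
    rw [mul_eq_mul, MonObj.comp_mul, hcomm]
    congr 1
    · simp
    · simp
  have hc3 : IsCommMonObj N := NerFix.isCommMonObj N hN
  have hc4 : IsCommMonObj (Red.bc (qm (R₁ W E) (IsLocalRing.ResidueField W)) N) :=
    inferInstanceAs (IsCommMonObj ((Over.pullback (qm (R₁ W E) (IsLocalRing.ResidueField W))).obj N))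
  have hsm : Smooth N.hom := hN.1
  have i1 : Smooth (Red.bc (qm (R₁ W E) (IsLocalRing.ResidueField W)) N).hom :=
    inferInstanceAs (Smooth (pullback.snd N.hom (qm (R₁ W E) (IsLocalRing.ResidueField W))))
  have i2 : IsProper (Red.bc (qm (R₁ W E) (IsLocalRing.ResidueField W)) N).hom :=
    inferInstanceAs (IsProper (pullback.snd N.hom (qm (R₁ W E) (IsLocalRing.ResidueField W))))
  have i3 : ConnectedSpace (Red.bc (qm (R₁ W E) (IsLocalRing.ResidueField W)) N).left :=
    hNc (IsLocalRing.ResidueField W) (qm (R₁ W E) (IsLocalRing.ResidueField W))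
  have i4 := Groth.Agent.Sga7.H620.TorsCount.geometricallyIntegral_of_smooth_connected
    (Red.bc (qm (R₁ W E) (IsLocalRing.ResidueField W)) N)
  obtain ⟨sp, θ, h1, h2, h3, h4⟩ := NSp.exists_sp (k := K) (K := K₁ W E) (R := R₁ W E) (Ω := Ω) (W := W)
    (N := N) (A := A) e hN
  have hunit : ∀ {m : ℕ}, (m : IsLocalRing.ResidueField W) ≠ 0 → IsUnit (m : R₁ W E) := by
    intro m hm
    by_contra hcon
    apply hm
    have h5 : algebraMap (R₁ W E) (IsLocalRing.ResidueField W) (m : R₁ W E) = 0 := by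
      have h6 : IsLocalRing.residue W (algebraMap (R₁ W E) W (m : R₁ W E)) = 0 := by
        rw [IsLocalRing.residue_eq_zero_iff]
        exact (ValuationSubring.valuation_lt_one_iff _ _).2 (hLO1.2 _ hcon)
      exact h6
    rwa [map_natCast] at h5
  refine ⟨Red.bc (qm (R₁ W E) (IsLocalRing.ResidueField W)) N, inferInstance, hc4, i2, i4, ⟨⟨sp, θ, ?_, ?_, h3, ?_⟩⟩⟩
  · exact fun m x hm hx => h1 m x (hunit hm) hx
  · exact fun m y hm hy => h2 m y (hunit hm) hy
  · intro σ hσ
    exact h4 σ hσ (sR E hσ) (tK E hσ) (fun _ => rfl) (fun x => σ.apply_symm_apply _)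

end K567.PotGood
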