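import Groth.Agent.SGA7.K567.CMDiv
import Groth.Agent.SGA7.K567.PotGood
import Groth.Agent.SGA7.K566.PtsUnip

/-!
# Inertia elements of order three on abelian varieties with complex multiplication
-/

set_option autoImplicit false
set_option linter.unusedSectionVars false
universe u

open CategoryTheory Limits MonoidalCategory CartesianMonoidalCategory AlgebraicGeometry Polynomial Module
open scoped MonObj TensorProduct

namespace K567.CMMain

open K567.CMUnip K567.PotGood K566.UnipDef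

section closed

variable {k : Type u} [Field k] [IsAlgClosed k] {B : Over (Spec (CommRingCat.of k))} [GrpObj B] [IsCommMonObj B]
  [IsProper B.hom] [GeometricallyIntegral B.hom]

/-- Endomorphisms agreeing on the `l`-power torsion are equal. -/
theorem end_ext (l : ℕ) [hlp : Fact l.Prime] (hl : (l : k) ≠ 0) (φ ψ : EndAV.End B)
    (h : ∀ (n : ℕ) (y : 𝟙_ (Over (Spec (CommRingCat.of k))) ⟶ B), y ^ (l ^ n) = 1 → y ≫ φ.toHom = y ≫ ψ.toHom) :
    φ = ψ := by
  apply K510.TateHom.injective_tateMap (l := l) hl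
  refine LinearMap.ext fun x => AbDual.TateMod.ext fun n => ?_
  exact congrArg Additive.ofMul (h n _ (congrArg Additive.toMul (x.torsion n)))

theorem eq_of_nsmul {n : ℕ} (hn : n ≠ 0) {a b : EndAV.End B} (h : n • a = n • b) : a = b := by
  have h1 : n • (a - b) = 0 := by rw [nsmul_sub, h, sub_self]
  exact sub_eq_zero.1 (K510.TateHom.eq_zero_of_nsmul hn h1)

omit [IsAlgClosed k] in
theorem eq_of_nsmul' {n : ℕ} (hn : n ≠ 0) {a b : EndAV.End B} (h : n • a = n • b) : a = b := by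
  have h1 : n • (a - b) = 0 := by rw [nsmul_sub, h, sub_self]
  exact sub_eq_zero.1 (K510.TateHom.eq_zero_of_nsmul hn h1)

omit [IsAlgClosed k] [IsProper B.hom] [GeometricallyIntegral B.hom] in
theorem pow_comp'' {T : Over (Spec (CommRingCat.of k))} (x : T ⟶ B) (f : B ⟶ B) [IsMonHom f] (n : ℕ) :
    (x ≫ f) ^ n = (x ^ n) ≫ f := by
  rw [MonObj.pow_comp]

theorem toEnd0_injective : Function.Injective (EndAV.toEnd0 (A := B)) := by
  rw [injective_iff_map_eq_zero]
  intro x hx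
  obtain ⟨n, hn, h⟩ := K521.MinChar.exists_zsmul_eq_zero x hx
  exact K510.TateHom.eq_zero_of_zsmul hn h

end closed

section main

variable {K Ω : Type u} [Field K] [Field Ω] [Algebra K Ω] {W : ValuationSubring Ω}
  {A : Over (Spec (CommRingCat.of K))} [GrpObj A] [IsCommMonObj A] [IsProper A.hom] [GeometricallyIntegral A.hom]
  {B : Over (Spec (CommRingCat.of (IsLocalRing.ResidueField W)))} [GrpObj B] [IsCommMonObj B] [IsProper B.hom]
  [GeometricallyIntegral B.hom] (S : Special W A B)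

/-- the residue field of `W` -/
local notation "κ" => IsLocalRing.ResidueField W

theorem ne_zero_of_residue {l : ℕ} (h : (l : κ) ≠ 0) : (l : K) ≠ 0 := by
  intro h0
  apply h
  have h1 : ((l : W) : Ω) = 0 := by
    have h2 : ((l : W) : Ω) = (l : Ω) := map_natCast W.subtype l
    rw [h2, ← map_natCast (algebraMap K Ω), h0, map_zero]
  have h3 : (l : W) = 0 := Subtype.ext h1
  rw [← map_natCast (IsLocalRing.residue W), h3, map_zero]

include S

/-- The dimensions agree. -/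
theorem dim_eq [IsSepClosed Ω] [IsAlgClosed κ] {g g' : ℕ} (hg : topologicalKrullDim A.left = g)
    (hg' : topologicalKrullDim B.left = g') {l : ℕ} (hl : l.Prime) (hlκ : (l : κ) ≠ 0) : g' = g := by
  have h1 := SympTors.card_tors A Ω g hg l (ne_zero_of_residue hlκ)
  have h2 : Nat.card {y : 𝟙_ (Over (Spec (CommRingCat.of κ))) ⟶ B // y ^ l = 1} = l ^ (2 * g') :=
    Groth.Agent.Etcore.AbTors.card_torsion B g' hg' l hlκ
  have h3 : Nat.card {x : SGA7.Pts Ω A // x ^ l = 1} =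
      Nat.card {y : 𝟙_ (Over (Spec (CommRingCat.of κ))) ⟶ B // y ^ l = 1} := by
    refine Nat.card_congr (Equiv.ofBijective (fun x => ⟨S.sp x.1, by rw [← map_pow, x.2, map_one]⟩) ⟨?_, ?_⟩)
    · intro x y hxy
      apply Subtype.ext
      have h4 : S.sp x.1 = S.sp y.1 := congrArg Subtype.val hxy
      have h5 : x.1 * (y.1)⁻¹ = 1 := by
        apply S.inj l _ hlκ
        · rw [mul_pow, x.2, inv_pow, y.2, inv_one, _root_.mul_one]
        · rw [map_mul, map_inv, h4, mul_inv_cancel]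
      exact mul_inv_eq_one.1 h5
    · rintro ⟨y, hy⟩
      obtain ⟨x, hx, hxy⟩ := S.surj l y hlκ hy
      exact ⟨⟨x, hx⟩, Subtype.ext hxy⟩
  rw [h1, h2] at h3
  have h4 : 2 * g = 2 * g' := Nat.pow_right_injective hl.two_le h3
  omega

omit [IsProper A.hom] [GeometricallyIntegral A.hom] in
/-- The endomorphism induced by `σ` commutes with the endomorphisms defined over `K`. -/
theorem commute_u [IsAlgClosed κ] {l : ℕ} [hlp : Fact l.Prime] (hlκ : (l : κ) ≠ 0) {σ : Ω ≃ₐ[K] Ω}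
    {u : EndAV.End B} (hu : ∀ x : SGA7.Pts Ω A, S.sp (SGA7.galAct σ x) = S.sp x ≫ u.toHom) (φ : EndAV.End A) :
    Commute (S.θ φ) u := by
  apply end_ext l hlκ
  intro n y hy
  obtain ⟨x, -, rfl⟩ := S.surj (l ^ n) y (by rw [Nat.cast_pow]; exact pow_ne_zero _ hlκ) hy
  rw [EndAV.End.toHom_mul, EndAV.End.toHom_mul, ← Category.assoc, ← Category.assoc, ← hu, ← S.sp_comp, ← S.sp_comp,
    ← hu, galAct_comp]

omit [IsCommMonObj A] [IsProper A.hom] [GeometricallyIntegral A.hom] S in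
theorem galAct_mul' (σ τ : Ω ≃ₐ[K] Ω) (x : SGA7.Pts Ω A) :
    SGA7.galAct (σ * τ) x = SGA7.galAct σ (SGA7.galAct τ x) := by
  have h1 : SGA7.specAut (K := K) (σ * τ) = SGA7.specAut σ ≫ SGA7.specAut τ := by
    apply Over.OverMorphism.ext
    change Spec.map _ = Spec.map _ ≫ Spec.map _
    rw [← Spec.map_comp, ← CommRingCat.ofHom_comp]
    rfl
  simp only [SGA7.galAct, h1, Category.assoc]

omit [IsCommMonObj A] [IsProper A.hom] [GeometricallyIntegral A.hom] S in
theorem galAct_one' (x : SGA7.Pts Ω A) : SGA7.galAct (1 : Ω ≃ₐ[K] Ω) x = x := by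
  have h1 : SGA7.specAut (1 : Ω ≃ₐ[K] Ω) = 𝟙 _ := by
    apply Over.OverMorphism.ext
    change Spec.map (CommRingCat.ofHom (RingHom.id Ω)) = 𝟙 _
    rw [CommRingCat.ofHom_id, Spec.map_id]
  simp only [SGA7.galAct, h1, Category.id_comp]

omit [IsProper A.hom] [GeometricallyIntegral A.hom] [IsProper B.hom] [GeometricallyIntegral B.hom] in
theorem sp_galAct_pow {σ : Ω ≃ₐ[K] Ω} {u : EndAV.End B}
    (hu : ∀ x : SGA7.Pts Ω A, S.sp (SGA7.galAct σ x) = S.sp x ≫ u.toHom) (n : ℕ) (x : SGA7.Pts Ω A) :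
    S.sp (SGA7.galAct (σ ^ n) x) = S.sp x ≫ (u ^ n).toHom := by
  induction n with
  | zero =>
    rw [_root_.pow_zero, _root_.pow_zero, galAct_one']
    exact (Category.comp_id _).symm
  | succ n ih =>
    rw [pow_succ' σ, galAct_mul', hu, ih, EndAV.End.toHom_pow_succ, Category.assoc]

omit [IsProper A.hom] [GeometricallyIntegral A.hom] in
theorem u_pow_eq_one [IsAlgClosed κ] {l : ℕ} [hlp : Fact l.Prime] (hlκ : (l : κ) ≠ 0) {σ : Ω ≃ₐ[K] Ω}
    {u : EndAV.End B} (hu : ∀ x : SGA7.Pts Ω A, S.sp (SGA7.galAct σ x) = S.sp x ≫ u.toHom) (m : ℕ)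
    (h : ∀ (n : ℕ) (x : SGA7.Pts Ω A), x ^ (l ^ n) = 1 → SGA7.galAct (σ ^ m) x = x) : u ^ m = 1 := by
  apply end_ext l hlκ
  intro n y hy
  obtain ⟨x, hx, rfl⟩ := S.surj (l ^ n) y (by rw [Nat.cast_pow]; exact pow_ne_zero _ hlκ) hy
  rw [← sp_galAct_pow S hu, h n x hx]
  exact (Category.comp_id _).symm

/-- Denominators prime to `p` can be removed. -/
theorem exists_pow_nsmul [IsSepClosed Ω] {p : ℕ} (hp : ∀ l : ℕ, l.Prime → l ≠ p → (l : κ) ≠ 0)
    (E : Subalgebra ℚ (EndAV.End0 A)) (u : EndAV.End B) (m : ℕ) (hm : m ≠ 0) (ψ : EndAV.End A)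
    (hψ : EndAV.toEnd0 ψ ∈ E) (h : m • u = S.θ ψ) :
    ∃ (j : ℕ) (ψ' : EndAV.End A), EndAV.toEnd0 ψ' ∈ E ∧ (p ^ j) • u = S.θ ψ' := by
  induction m using Nat.strong_induction_on generalizing ψ with
  | _ m ih =>
    by_cases hall : ∀ l : ℕ, l.Prime → l ∣ m → l = p
    · have h1 := Nat.eq_prime_pow_of_unique_prime_dvd hm (fun {d} hd hdm => hall d hd hdm)
      exact ⟨m.primeFactorsList.length, ψ, hψ, by rw [← h1]; exact h⟩
    · push Not at hall
      obtain ⟨l, hl, hlm, hlp⟩ := hall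
      obtain ⟨m', rfl⟩ := hlm
      have hlκ := hp l hl hlp
      obtain ⟨ψ', rfl⟩ := CMDiv.exists_eq_nsmul (Ω := Ω) A (ne_zero_of_residue (K := K) hlκ) ψ (fun x hx => by
        apply S.inj l _ hlκ
        · rw [pow_comp', hx]
          exact MonObj.one_comp _
        · rw [S.sp_comp, ← h]
          have h1 : S.sp x ≫ ((l * m') • u).toHom = (S.sp x ^ (l * m')) ≫ u.toHom := by
            rw [EndAV.End.toHom_nsmul, MonObj.comp_pow]
            exact (pow_comp'' _ _ _)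
          rw [h1, pow_mul, ← map_pow, hx, map_one, one_pow]
          exact MonObj.one_comp _)
      have hm' : m' ≠ 0 := by
        rintro rfl
        exact hm (Nat.mul_zero l)
      have hlt : m' < l * m' := by
        have := hl.two_le
        have h5 : 0 < m' := Nat.pos_of_ne_zero hm'
        nlinarith
      refine ih m' hlt hm' ψ' ?_ ?_
      · rw [map_nsmul] at hψ
        have h2 : EndAV.toEnd0 ψ' = ((l : ℚ)⁻¹) • (l • EndAV.toEnd0 ψ') := by
          rw [← Nat.cast_smul_eq_nsmul ℚ, smul_smul, inv_mul_cancel₀ (Nat.cast_ne_zero.2 hl.ne_zero), one_smul]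
        rw [h2]
        exact E.smul_mem hψ _
      · apply eq_of_nsmul' hl.ne_zero
        rw [← mul_smul, h, map_nsmul]

/-- **The endomorphism induced by an inertia element of order dividing three is trivial.** -/
theorem u_eq_one [IsSepClosed Ω] [IsAlgClosed κ] {g : ℕ} (hg : topologicalKrullDim A.left = g)
    (E : Subalgebra ℚ (EndAV.End0 A)) (hE : IsField ↥E) (hEfin : Module.Finite ℚ ↥E)
    (hdeg : Module.finrank ℚ ↥E = 2 * g) {p : ℕ} (hp0 : p ≠ 0) (hp : ∀ l : ℕ, l.Prime → l ≠ p → (l : κ) ≠ 0)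
    (hμ : ∀ y : EndAV.End0 A, y ∈ E →
      (∃ (j : ℕ) (φ : EndAV.End A), EndAV.toEnd0 φ ∈ E ∧ ((p : ℚ) ^ j) • y = EndAV.toEnd0 φ) → y ^ 2 + y + 1 ≠ 0)
    {l : ℕ} [hlp : Fact l.Prime] (hlκ : (l : κ) ≠ 0) {σ : Ω ≃ₐ[K] Ω}
    {u : EndAV.End B} (hu : ∀ x : SGA7.Pts Ω A, S.sp (SGA7.galAct σ x) = S.sp x ≫ u.toHom) (h3 : u ^ 3 = 1) :
    u = 1 := by
  obtain ⟨φ, f, hφE, hf, hfd, hφ, -⟩ := exists_gen E hE hEfin
  rw [hdeg] at hfd
  have hg0 := finrank_ne_zero A E hE hEfin hdeg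
  obtain ⟨g', hg'⟩ := K520.HomFg.exists_dim B
  obtain rfl := dim_eq S hg hg' hlp.out hlκ
  have h1 : aeval (EndAV.toEnd0 (S.θ φ)) f = 0 := by
    rw [aeval_end0Map, hφ, map_zero]
  obtain ⟨n, q, hn, hq⟩ := CMTate.exists_aeval hg' hg0 hf hfd h1 u (commute_u S hlκ hu φ)
  have h2 : n • u = S.θ (aeval φ q) := by
    rw [hq, aeval_def, aeval_def, Polynomial.hom_eval₂]
    congr 1
    exact RingHom.ext_int _ _
  have h4 : EndAV.toEnd0 (aeval φ q) ∈ E := by
    rw [← Polynomial.aeval_algHom_apply, ← Polynomial.aeval_map_algebraMap ℚ]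
    have h5 : Algebra.adjoin ℚ {EndAV.toEnd0 φ} ≤ E := Algebra.adjoin_le (by
      rintro _ rfl
      exact hφE)
    exact h5 (Polynomial.aeval_mem_adjoin_singleton ℚ (EndAV.toEnd0 φ))
  obtain ⟨ψ, hψE, hψ⟩ : ∃ ψ : EndAV.End A, EndAV.toEnd0 ψ ∈ E ∧ n.natAbs • u = S.θ ψ := by
    rcases Int.natAbs_eq n with h5 | h5
    · refine ⟨_, h4, ?_⟩
      rw [← h2, ← natCast_zsmul, ← h5]
    · refine ⟨-aeval φ q, by rw [map_neg]; exact E.neg_mem h4, ?_⟩
      rw [map_neg, ← h2, ← natCast_zsmul, ← neg_smul]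
      congr 1
      omega
  obtain ⟨j, ψ', hψ'E, hψ'⟩ := exists_pow_nsmul S hp E u n.natAbs (Int.natAbs_ne_zero.2 hn) ψ hψE hψ
  have hpj : ((p : ℚ) ^ j) ≠ 0 := pow_ne_zero _ (Nat.cast_ne_zero.2 hp0)
  let y : EndAV.End0 A := ((p : ℚ) ^ j)⁻¹ • EndAV.toEnd0 ψ'
  have hyE : y ∈ E := E.smul_mem hψ'E _
  have hy := hμ y hyE ⟨j, ψ', hψ'E, by
    change ((p : ℚ) ^ j) • (((p : ℚ) ^ j)⁻¹ • EndAV.toEnd0 ψ') = _
    rw [smul_smul, mul_inv_cancel₀ hpj, one_smul]⟩
  have hTy : end0Map S.θ y = EndAV.toEnd0 u := by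
    change end0Map S.θ (((p : ℚ) ^ j)⁻¹ • EndAV.toEnd0 ψ') = _
    rw [map_smul, end0Map_toEnd0, ← hψ', map_nsmul, ← Nat.cast_smul_eq_nsmul ℚ, Nat.cast_pow, smul_smul,
      inv_mul_cancel₀ hpj, one_smul]
  have hnt := CMTate.nontrivial_end0 hg' hg0
  let _ : Field E := hE.toField
  let T : E →+* EndAV.End0 B := (end0Map S.θ).toRingHom.comp E.val.toRingHom
  have hT : Function.Injective T := T.injective
  let y' : E := ⟨y, hyE⟩
  have hTy' : T y' = EndAV.toEnd0 u := hTy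
  have h5 : y' ^ 3 = 1 := by
    apply hT
    rw [map_pow, hTy', ← map_pow, h3, map_one, map_one]
  have h6 : (y' - 1) * (y' ^ 2 + y' + 1) = 0 := by
    have : (y' - 1) * (y' ^ 2 + y' + 1) = y' ^ 3 - 1 := by ring
    rw [this, h5, sub_self]
  rcases mul_eq_zero.1 h6 with h7 | h7
  · apply toEnd0_injective
    rw [← hTy', sub_eq_zero.1 h7, map_one, map_one]
  · exact absurd (congrArg Subtype.val h7) hy

end main

end K567.CMMain
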