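import Groth.Prelude.Def_SGA7IX
import Mathlib.Data.Nat.Factorization.Basic
import Mathlib.Data.Nat.Factorization.Induction
import Mathlib.AlgebraicGeometry.Geometrically.Integral

/-!
# Two places: glue for the two-place statements
-/

set_option autoImplicit false

universe u

open CategoryTheory AlgebraicGeometry MonObj

namespace K567.TwoPlaces

theorem dvd_ordCompl {p r k n : ℕ} (hp : p = 0 ∨ p.Prime) (hr : r.Prime) (hrp : r ≠ p) (h : r ^ k ∣ n) :
    r ^ k ∣ ordCompl[p] n := by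
  rcases hp with rfl | hp
  · simpa using h
  · have h1 : Nat.Coprime (r ^ k) (ordProj[p] n) :=
      Nat.Coprime.pow _ _ ((Nat.coprime_primes hr hp).2 hrp)
    have h2 : ordProj[p] n * ordCompl[p] n = n := Nat.ordProj_mul_ordCompl_eq_self n p
    rw [← h2] at h
    exact h1.dvd_of_dvd_mul_left h

theorem arith {n : ℕ} (hn : 0 < n) {p q : ℕ} (hp : p = 0 ∨ p.Prime) (hq : q = 0 ∨ q.Prime) (hpq : p ≠ q)
    (h1 : ordCompl[p] n ≤ 4) (h2 : ordCompl[q] n ≤ 4) : n ∣ 12 ∧ ((3 < p ∨ 3 < q) → n ≤ 4) := by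
  have key : ∀ r k : ℕ, r.Prime → r ^ k ∣ n → r ^ k ≤ 4 := by
    intro r k hr hrk
    by_cases hrp : r = p
    · have hrq : r ≠ q := fun h => hpq (hrp.symm.trans h)
      exact (Nat.le_of_dvd (Nat.ordCompl_pos q hn.ne') (dvd_ordCompl hq hr hrq hrk)).trans h2
    · exact (Nat.le_of_dvd (Nat.ordCompl_pos p hn.ne') (dvd_ordCompl hp hr hrp hrk)).trans h1
  refine ⟨?_, ?_⟩
  · rw [Nat.dvd_iff_prime_pow_dvd_dvd]
    intro r k hr hrk
    have h3 := key r k hr hrk
    have h4 : 0 < r ^ k := pow_pos hr.pos k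
    generalize r ^ k = s at *
    interval_cases s <;> decide
  · have aux : ∀ p : ℕ, (p = 0 ∨ p.Prime) → ordCompl[p] n ≤ 4 → 3 < p → n ≤ 4 := by
      intro p hp h1 h3
      have hpp : p.Prime := hp.resolve_left (by omega)
      have h4 := key p (n.factorization p) hpp (Nat.ordProj_dvd n p)
      have h5 : n.factorization p = 0 := by
        by_contra h0
        have h6 : p ^ 1 ≤ p ^ n.factorization p := Nat.pow_le_pow_right hpp.pos (Nat.one_le_iff_ne_zero.2 h0)
        rw [pow_one] at h6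
        have h7 : p = 4 := by omega
        rw [h7] at hpp
        exact absurd hpp (by decide)
      rwa [h5, pow_zero, Nat.div_one] at h1
    rintro (h3 | h3)
    · exact aux p hp h1 h3
    · exact aux q hq h2 h3

theorem cast_ordCompl_ne_zero {k : Type*} [Field k] (p : ℕ) [CharP k p] {n : ℕ} (hn : 0 < n) :
    ((ordCompl[p] n : ℕ) : k) ≠ 0 := by
  rw [Ne, CharP.cast_eq_zero_iff k p]
  rcases CharP.char_is_prime_or_zero k p with hp | rfl
  · exact Nat.not_dvd_ordCompl hp hn.ne'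
  · rw [zero_dvd_iff]
    exact (Nat.ordCompl_pos 0 hn.ne').ne'

/-- the statement S18601 -/
def FiveSS : Prop := ∀ (R K Ω : Type u) [CommRing R] [IsDomain R]
    [IsDiscreteValuationRing R] [Field K] [Algebra R K] [IsFractionRing R K] [Field Ω] [Algebra K Ω] [IsSepClosure K Ω]
    (W : ValuationSubring Ω) (_ : SGA7.LiesOver K R W)
    (n : ℕ) (_ : 5 ≤ n) (_ : (n : IsLocalRing.ResidueField R) ≠ 0)
    (A : Over (Spec (CommRingCat.of K))) [GrpObj A] [IsProper A.hom] [GeometricallyIntegral A.hom]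
    (_ : ∀ σ : Ω ≃ₐ[K] Ω, SGA7.IsInertia W σ → ∀ x : SGA7.Pts Ω A, x ^ n = 1 → SGA7.dev σ (SGA7.dev σ x) = 1),
    SGA7.HasSemistableReduction R K A

/-- the statement S18603 -/
def EllSS : Prop := ∀ (R K Ω : Type u) [CommRing R] [IsDomain R]
    [IsDiscreteValuationRing R] [Field K] [Algebra R K] [IsFractionRing R K] [Field Ω] [Algebra K Ω] [IsSepClosure K Ω]
    (E : Over (Spec (CommRingCat.of K))) [GrpObj E] [IsProper E.hom] [GeometricallyIntegral E.hom]
    (_ : topologicalKrullDim ↥E.left = 1)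
    (x : SGA7.Pts Ω E) (_ : ∀ σ : Ω ≃ₐ[K] Ω, SGA7.galAct σ x = x)
    (n : ℕ) (_ : orderOf x = n) (_ : 5 ≤ n) (_ : (n : IsLocalRing.ResidueField R) ≠ 0),
    SGA7.HasSemistableReduction R K E

section one

variable {R K Ω : Type u} [CommRing R] [IsDomain R] [IsDiscreteValuationRing R] [Field K] [Algebra R K]
  [IsFractionRing R K] [Field Ω] [Algebra K Ω] [IsSepClosure K Ω]

theorem le_four_of_torsion (h5 : FiveSS.{u}) (W : ValuationSubring Ω) (hW : SGA7.LiesOver K R W)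
    (p : ℕ) [CharP (IsLocalRing.ResidueField R) p]
    (A : Over (Spec (CommRingCat.of K))) [GrpObj A] [IsProper A.hom] [GeometricallyIntegral A.hom]
    (h : ¬ SGA7.HasSemistableReduction R K A) (n : ℕ) (hn : 0 < n)
    (hI : ∀ σ : Ω ≃ₐ[K] Ω, SGA7.IsInertia W σ → ∀ x : SGA7.Pts Ω A, x ^ n = 1 → SGA7.dev σ (SGA7.dev σ x) = 1) :
    ordCompl[p] n ≤ 4 := by
  by_contra h4
  refine h (h5 R K Ω W hW (ordCompl[p] n) (by omega)
    (cast_ordCompl_ne_zero p hn) A fun σ hσ x hx => hI σ hσ x ?_)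
  obtain ⟨c, hc⟩ := Nat.ordCompl_dvd n p
  rw [hc, pow_mul, hx, one_pow]

theorem le_four_of_point (h5 : EllSS.{u})
    (p : ℕ) [CharP (IsLocalRing.ResidueField R) p]
    (E : Over (Spec (CommRingCat.of K))) [GrpObj E] [IsProper E.hom] [GeometricallyIntegral E.hom]
    (hdim : topologicalKrullDim ↥E.left = 1)
    (h : ¬ SGA7.HasSemistableReduction R K E)
    (hact : ∀ (σ : Ω ≃ₐ[K] Ω) (y : SGA7.Pts Ω E) (j : ℕ), SGA7.galAct σ (y ^ j) = SGA7.galAct σ y ^ j)
    (x : SGA7.Pts Ω E) (hx : ∀ σ : Ω ≃ₐ[K] Ω, SGA7.galAct σ x = x) (n : ℕ) (hxn : orderOf x = n) (hn : 0 < n) :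
    ordCompl[p] n ≤ 4 := by
  by_contra h4
  have h2 : ordProj[p] n * ordCompl[p] n = n := Nat.ordProj_mul_ordCompl_eq_self n p
  refine h (h5 R K Ω E hdim (x ^ (ordProj[p] n)) (fun σ => by rw [hact, hx]) (ordCompl[p] n) ?_ (by omega)
    (cast_ordCompl_ne_zero p hn))
  have h3 : 0 < ordProj[p] n := Nat.ordProj_pos n p
  rw [orderOf_pow' x h3.ne', hxn, Nat.gcd_eq_right (Nat.ordProj_dvd n p)]

end one

end K567.TwoPlaces
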