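import Groth.Agent.SGA7.K567.SympCount
import Mathlib.NumberTheory.LSeries.PrimesInAP
import Mathlib.NumberTheory.Multiplicity
import Mathlib.NumberTheory.Basic
import Mathlib.RingTheory.ZMod.UnitsCyclic
import Mathlib.FieldTheory.Finite.Basic
import Mathlib.Data.Nat.Totient

/-!
# The greatest common divisor of the orders of the symplectic groups over prime fields
-/

set_option autoImplicit false

namespace K567.SympVal

open Finset SympCount

/-- a prime which is a primitive root modulo `r ^ 2` -/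
theorem exists_prime {r : ℕ} (hr : r.Prime) (h2 : r ≠ 2) (B : ℕ) :
    ∃ l : ℕ, B < l ∧ l.Prime ∧ ∀ j : ℕ, 0 < j →
      padicValNat r (l ^ j - 1) = if r - 1 ∣ j then 1 + padicValNat r (j / (r - 1)) else 0 := by
  have : Fact r.Prime := ⟨hr⟩
  have hr1 : 1 < r := hr.one_lt
  have hodd : Odd r := hr.odd_of_ne_two h2
  have : NeZero (r ^ 2) := ⟨pow_ne_zero _ hr.ne_zero⟩
  have hcyc : IsCyclic (ZMod (r ^ 2))ˣ := ZMod.isCyclic_units_of_prime_pow r hr h2 2
  obtain ⟨u, hu⟩ := hcyc.exists_generator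
  have hord : orderOf u = r * (r - 1) := by
    rw [orderOf_eq_card_of_forall_mem_zpowers hu, Nat.card_eq_fintype_card, ZMod.card_units_eq_totient,
      Nat.totient_prime_pow hr (by norm_num)]
    norm_num
  obtain ⟨l, hl, hlp, hlu⟩ := Nat.forall_exists_prime_gt_and_eq_mod u.isUnit (max B r)
  have hlB : B < l := lt_of_le_of_lt (le_max_left _ _) hl
  have hlr : r < l := lt_of_le_of_lt (le_max_right _ _) hl
  refine ⟨l, hlB, hlp, ?_⟩
  have hl1 : ∀ j, 1 ≤ l ^ j := fun j => Nat.one_le_pow _ _ hlp.pos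
  have hr2 : ∀ j, r ^ 2 ∣ l ^ j - 1 ↔ r * (r - 1) ∣ j := by
    intro j
    rw [← hord, orderOf_dvd_iff_pow_eq_one, ← ZMod.natCast_eq_zero_iff, Nat.cast_sub (hl1 j), Nat.cast_pow, hlu,
      Nat.cast_one, sub_eq_zero, ← Units.val_pow_eq_pow_val, Units.val_eq_one]
  have hrj : ∀ j, r ∣ l ^ j - 1 → r - 1 ∣ j := by
    intro j hj
    have h1 : (r : ℤ) ∣ ((l ^ j : ℕ) : ℤ) - 1 := by
      rw [← Nat.cast_one, ← Nat.cast_sub (hl1 j)]
      exact Int.natCast_dvd_natCast.2 hj
    have h3 := dvd_sub_pow_of_dvd_sub h1 1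
    rw [pow_one, one_pow] at h3
    have h4 : r ^ 2 ∣ l ^ (j * r) - 1 := by
      apply Int.natCast_dvd_natCast.1
      rw [Nat.cast_sub (hl1 _), pow_mul]
      exact_mod_cast h3
    rw [hr2, mul_comm j] at h4
    exact Nat.dvd_of_mul_dvd_mul_left hr.pos h4
  have hlr' : ¬ r ∣ l := fun h => by
    have := (Nat.prime_dvd_prime_iff_eq hr hlp).1 h
    omega
  have hfer : r ∣ l ^ (r - 1) - 1 := by
    rw [← ZMod.natCast_eq_zero_iff, Nat.cast_sub (hl1 _), Nat.cast_pow, Nat.cast_one, sub_eq_zero]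
    apply ZMod.pow_card_sub_one_eq_one
    rwa [Ne, ZMod.natCast_eq_zero_iff]
  have hgt : 1 < l ^ (r - 1) := Nat.one_lt_pow (by omega) hlp.one_lt
  have hv : padicValNat r (l ^ (r - 1) - 1) = 1 := by
    have hne : l ^ (r - 1) - 1 ≠ 0 := by omega
    apply le_antisymm
    · by_contra hcon
      push Not at hcon
      have h5 : r ^ 2 ∣ l ^ (r - 1) - 1 := (padicValNat_dvd_iff_le hne).2 hcon
      rw [hr2] at h5
      have h6 := Nat.le_of_dvd (by omega) h5
      have h7 : 2 * (r - 1) ≤ r * (r - 1) := Nat.mul_le_mul_right _ hr.two_le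
      omega
    · apply (padicValNat_dvd_iff_le hne).1
      rwa [pow_one]
  intro j hj
  split_ifs with hd
  · obtain ⟨c, rfl⟩ := hd
    have hc : c ≠ 0 := by rintro rfl; simp at hj
    rw [pow_mul, Nat.mul_div_cancel_left _ (by omega)]
    have h8 := padicValNat.pow_sub_pow (p := r) hodd (x := l ^ (r - 1)) (y := 1) hgt hfer
      (fun h => hlr' (hr.dvd_of_dvd_pow h)) hc
    rw [one_pow, hv] at h8
    exact h8
  · exact padicValNat.eq_zero_of_not_dvd fun h => hd (hrj j h)

/-- the case of the prime two -/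
theorem exists_prime_two (B : ℕ) :
    ∃ l : ℕ, B < l ∧ l.Prime ∧ ∀ j : ℕ, 0 < j → padicValNat 2 (l ^ (2 * j) - 1) = 3 + padicValNat 2 j := by
  have hc : Nat.Coprime 3 8 := by decide
  obtain ⟨l, hl, hlp, hmod⟩ := Nat.forall_exists_prime_gt_and_modEq (max B 2) (by norm_num : (8 : ℕ) ≠ 0) hc
  have hlB : B < l := lt_of_le_of_lt (le_max_left _ _) hl
  have hl2 : 2 < l := lt_of_le_of_lt (le_max_right _ _) hl
  refine ⟨l, hlB, hlp, fun j hj => ?_⟩
  have hm : l % 8 = 3 := hmod
  have h2 : ¬ 2 ∣ l := by omega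
  have h1 := padicValNat.pow_two_sub_one (x := l) (n := 2 * j) (by omega) h2 (by omega) (even_two_mul j)
  have h3 : padicValNat 2 (l + 1) = 2 := by
    obtain ⟨c, hc⟩ : ∃ c, l + 1 = 2 ^ 2 * c := ⟨(l + 1) / 4, by omega⟩
    have hc2 : ¬ 2 ∣ c := by omega
    rw [hc, padicValNat.mul (by norm_num) (by omega), padicValNat.prime_pow, padicValNat.eq_zero_of_not_dvd hc2]
  have h4 : padicValNat 2 (l - 1) = 1 := by
    obtain ⟨c, hc⟩ : ∃ c, l - 1 = 2 ^ 1 * c := ⟨(l - 1) / 2, by omega⟩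
    have hc2 : ¬ 2 ∣ c := by omega
    rw [hc, padicValNat.mul (by norm_num) (by omega), padicValNat.prime_pow, padicValNat.eq_zero_of_not_dvd hc2]
  have h5 : padicValNat 2 (2 * j) = 1 + padicValNat 2 j := by
    rw [padicValNat.mul (by norm_num) (by omega), padicValNat.self (by norm_num)]
  omega

theorem sum_dvd {h : ℕ} (hh : 0 < h) (f : ℕ → ℕ) (g : ℕ) :
    ∑ i ∈ range g, (if h ∣ i + 1 then f ((i + 1) / h) else 0) = ∑ j ∈ Icc 1 (g / h), f j := by
  induction g with
  | zero => simp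
  | succ g ih =>
    rw [sum_range_succ, ih, Nat.succ_div]
    split_ifs with hd
    · rw [Finset.sum_Icc_succ_top (Nat.le_add_left 1 _)]
    · rfl

theorem num_ne_zero {q : ℕ} (hq : 1 < q) (n : ℕ) : num q n ≠ 0 := by
  rw [num, Finset.prod_ne_zero_iff]
  intro i _
  have h1 : 1 < q ^ (2 * i + 2) := Nat.one_lt_pow (by omega) hq
  exact Nat.mul_ne_zero (by omega) (pow_ne_zero _ (by omega))

/-- the valuation of the number -/
theorem val_num {r l : ℕ} (hr : r.Prime) (hl : l.Prime) (hrl : r < l) (g : ℕ) :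
    padicValNat r (num l g) = ∑ i ∈ range g, padicValNat r (l ^ (2 * (i + 1)) - 1) := by
  have : Fact r.Prime := ⟨hr⟩
  have hl1 := hl.one_lt
  induction g with
  | zero => simp [num_zero]
  | succ g ih =>
    have h1 : 1 < l ^ (2 * g + 2) := Nat.one_lt_pow (by omega) hl1
    have h2 : l ^ (2 * g + 1) ≠ 0 := pow_ne_zero _ (by omega)
    have h3 : padicValNat r (l ^ (2 * g + 1)) = 0 := by
      apply padicValNat.eq_zero_of_not_dvd
      intro h
      have := (Nat.prime_dvd_prime_iff_eq hr hl).1 (hr.dvd_of_dvd_pow h)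
      omega
    rw [sum_range_succ, num_succ, padicValNat.mul (Nat.mul_ne_zero (by omega) h2) (num_ne_zero hl1 _),
      padicValNat.mul (by omega) h2, h3, ih, add_zero, add_comm]
    rfl

theorem val_fact (g : ℕ) : ∑ i ∈ range g, (3 + padicValNat 2 (i + 1)) = 3 * g + padicValNat 2 g.factorial := by
  induction g with
  | zero => simp
  | succ g ih =>
    rw [sum_range_succ, ih, Nat.factorial_succ, padicValNat.mul (by omega) (Nat.factorial_ne_zero g)]
    ring

/-- the final bound -/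
theorem dvd_bound {N g B : ℕ} (hN : ∀ l : ℕ, l.Prime → B < l → N ∣ num l g) :
    N ∣ 2 ^ (3 * g + padicValNat 2 g.factorial) *
        ∏ p ∈ (Icc 3 (2 * g + 1)).filter Nat.Prime,
          p ^ ((2 * g) / (p - 1) + ∑ i ∈ Icc 1 ((2 * g) / (p - 1)), padicValNat p i) := by
  rw [Nat.dvd_iff_prime_pow_dvd_dvd]
  intro r k hr hk
  have : Fact r.Prime := ⟨hr⟩
  by_cases h2 : r = 2
  · subst h2
    obtain ⟨l, hl, hlp, hv⟩ := exists_prime_two (max B 2)
    have h3 := hk.trans (hN l hlp (lt_of_le_of_lt (le_max_left _ _) hl))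
    rw [padicValNat_dvd_iff_le (num_ne_zero hlp.one_lt g),
      val_num hr hlp (lt_of_le_of_lt (le_max_right _ _) hl),
      Finset.sum_congr rfl (fun i _ => hv (i + 1) (Nat.succ_pos i)), val_fact] at h3
    exact (pow_dvd_pow 2 h3).trans (dvd_mul_right _ _)
  · obtain ⟨l, hl, hlp, hv⟩ := exists_prime hr h2 (max B r)
    have h3 := hk.trans (hN l hlp (lt_of_le_of_lt (le_max_left _ _) hl))
    have hr3 : 3 ≤ r := by
      have := hr.two_le
      omega
    obtain ⟨h, hh⟩ : ∃ h, r - 1 = 2 * h := by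
      have := hr.odd_of_ne_two h2
      obtain ⟨h, hh⟩ := this
      exact ⟨h, by omega⟩
    have hh0 : 0 < h := by omega
    rw [padicValNat_dvd_iff_le (num_ne_zero hlp.one_lt g),
      val_num hr hlp (lt_of_le_of_lt (le_max_right _ _) hl),
      Finset.sum_congr rfl (fun i _ => hv (2 * (i + 1)) (by omega)), hh] at h3
    have h4 : ∀ i ∈ range g, (if 2 * h ∣ 2 * (i + 1) then 1 + padicValNat r (2 * (i + 1) / (2 * h)) else 0) =
        (if h ∣ i + 1 then (fun j => 1 + padicValNat r j) ((i + 1) / h) else 0) := by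
      intro i _
      rw [Nat.mul_div_mul_left _ _ (by norm_num)]
      by_cases hd : h ∣ i + 1
      · rw [if_pos hd, if_pos (Nat.mul_dvd_mul_left 2 hd)]
      · rw [if_neg hd, if_neg (fun h' => hd (Nat.dvd_of_mul_dvd_mul_left (by norm_num) h'))]
    rw [Finset.sum_congr rfl h4, sum_dvd hh0 (fun j => 1 + padicValNat r j), Finset.sum_add_distrib, Finset.sum_const, Nat.card_Icc,
      Nat.add_sub_cancel, smul_eq_mul, mul_one] at h3
    have h5 : (2 * g) / (r - 1) = g / h := by rw [hh, Nat.mul_div_mul_left _ _ (by norm_num)]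
    by_cases hrg : r ≤ 2 * g + 1
    · have h6 : r ∈ (Icc 3 (2 * g + 1)).filter Nat.Prime := by
        rw [mem_filter, mem_Icc]
        exact ⟨⟨hr3, hrg⟩, hr⟩
      have h7 := Finset.dvd_prod_of_mem
        (fun p => p ^ ((2 * g) / (p - 1) + ∑ i ∈ Icc 1 ((2 * g) / (p - 1)), padicValNat p i)) h6
      beta_reduce at h7
      rw [h5] at h7
      exact ((pow_dvd_pow r h3).trans h7).trans (dvd_mul_left _ _)
    · have h8 : g / h = 0 := Nat.div_eq_of_lt (by omega)
      rw [h8] at h3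
      have h9 : k = 0 := by simpa using h3
      rw [h9, pow_zero]
      exact one_dvd _

end K567.SympVal
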