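import Groth.Agent.SGA7.K567.SympTors
import Groth.Agent.SGA7.K567.SympVal
import Groth.Agent.SGA7.K567.TotalRed
import Groth.Agent.Sga7.H733.LevelTwoOfOpen
import Groth.Agent.Sga7.H734.Inert
import Groth.Agent.Sga7.H274.ValExt
import Groth.Agent.Sga4h.TameExt
import Groth.Agent.Sga4h.WildPro
import Mathlib.FieldTheory.Galois.Infinite

/-!
# The field of semistable reduction over a strictly henselian discrete valuation ring
-/

set_option autoImplicit false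
set_option linter.unusedSectionVars false
universe u

open CategoryTheory CategoryTheory.Limits AlgebraicGeometry MonObj
open SGA7 Groth.Agent.Sga7.H733.PtsBasic Groth.Agent.Sga7.H733.LevelTwoGrp
open Groth.Agent.Sga7.H733.LevelTwoAlg

namespace K567.SSField

theorem mul_sub_one' {E : Type*} [Ring E] (a b : E) : a * b - 1 = (a - 1) * (b - 1) + (a - 1) + (b - 1) := by
  noncomm_ring

/-- the statement S4049 -/
def SSIff : Prop :=
  ∀ (R K Ω : Type u) [CommRing R] [IsDomain R] [IsDiscreteValuationRing R] [Field K]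
    [Algebra R K] [IsFractionRing R K] [Field Ω] [Algebra K Ω] [IsSepClosure K Ω]
    (W : ValuationSubring Ω) (_ : SGA7.LiesOver K R W)
    (ℓ : ℕ) (_ : ℓ.Prime) (_ : (ℓ : IsLocalRing.ResidueField R) ≠ 0)
    (A : Over (Spec (CommRingCat.of K))) [GrpObj A] [IsProper A.hom] [GeometricallyIntegral A.hom],
    SGA7.HasSemistableReduction R K A ↔ SGA7.InertiaUnipotentOn W A ℓ

section grp

variable {K Ω : Type u} [Field K] [Field Ω] [Algebra K Ω] [IsSepClosure K Ω]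
  (A : Over (Spec (CommRingCat.of K))) [GrpObj A] [IsProper A.hom] [GeometricallyIntegral A.hom]

/-- unipotence of one element -/
def UnipE (ℓ : ℕ) (σ : Ω ≃ₐ[K] Ω) : Prop :=
  ∃ m : ℕ, ∀ (ν : ℕ) (x : Pts Ω A), x ^ (ℓ ^ ν) = 1 → (dev σ)^[m] x = 1

variable {ℓ : ℕ} (hℓ : ℓ.Prime) (hℓK : (ℓ : K) ≠ 0) (U : OpenSubgroup (Ω ≃ₐ[K] Ω))
  (hU : ∀ (ν : ℕ) (σ τ : Ω ≃ₐ[K] Ω), σ ∈ U → τ ∈ U →
        ∀ x : SGA7.Pts Ω A, x ^ (ℓ ^ ν) = 1 → SGA7.dev σ (SGA7.dev τ x) = 1)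

include hℓ hℓK hU in
theorem level_two {σ τ : Ω ≃ₐ[K] Ω}
    (hs : (∃ q, Adm ℓ q ∧ ∀ x : Pts Ω A, x ^ q = 1 → galAct σ x = x) ∨ UnipE A ℓ σ)
    (ht : (∃ q, Adm ℓ q ∧ ∀ x : Pts Ω A, x ^ q = 1 → galAct τ x = x) ∨ UnipE A ℓ τ)
    (ν : ℕ) (x : Pts Ω A) (hx : x ^ (ℓ ^ ν) = 1) : dev σ (dev τ x) = 1 := by
  haveI : IsSepClosed Ω := IsSepClosure.sep_closed K
  haveI : IsCommMonObj A := isCommMonObj_of_isProper_of_geometricallyIntegral A
  letI : CommGroup (Pts Ω A) := Hom.commGroup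
  obtain ⟨m, hm, hσm⟩ := exists_pow_mem U σ
  obtain ⟨n, hn, hτn⟩ := exists_pow_mem U τ
  have hnice' : ∀ σ : Ω ≃ₐ[K] Ω,
      ((∃ q, Adm ℓ q ∧ ∀ x : Pts Ω A, x ^ q = 1 → galAct σ x = x) ∨ UnipE A ℓ σ) →
      (∃ q, Adm ℓ q ∧ ∀ x : Pts Ω A, x ^ q = 1 → galHom A σ x = x) ∨
        (∃ k : ℕ, ∀ x ∈ tp (Pts Ω A) ℓ, (dv (galHom A σ))^[k] x = 1) := by
    rintro σ (h | ⟨k, hk⟩)
    · exact Or.inl h
    · exact Or.inr ⟨k, fun x ⟨ν, hx⟩ => hk ν x hx⟩
  have hiter : ∀ (σ : Ω ≃ₐ[K] Ω) (m : ℕ), (galHom A σ)^[m] = galHom A (σ ^ m) := by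
    intro σ m
    funext x
    exact (galAct_pow σ m x).symm
  refine levelTwo (P := Pts Ω A) hℓ (fun x _ => exists_pow_eq A hℓK x) (galHom A σ) (galHom A τ)
    hm hn (hnice' σ hs) (hnice' τ ht) ?_ x ⟨ν, hx⟩
  rintro x ⟨ν, hx⟩
  rw [hiter, hiter]
  exact hU ν (σ ^ m) (τ ^ n) hσm hτn x hx

/-- the subgroup of unipotent elements -/
def Gu : Subgroup (Ω ≃ₐ[K] Ω) :=
  haveI : IsCommMonObj A := isCommMonObj_of_isProper_of_geometricallyIntegral A
  have conv : ∀ σ τ : Ω ≃ₐ[K] Ω, UnipE A ℓ σ → UnipE A ℓ τ →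
      (Groth.Agent.Sga7.H753.Unip.galTors A ℓ σ - 1) * (Groth.Agent.Sga7.H753.Unip.galTors A ℓ τ - 1) = 0 := by
    intro σ τ hs ht
    refine DFunLike.ext _ _ fun x => Subtype.ext ?_
    obtain ⟨x, ν, hx⟩ := x
    have h1 := level_two A hℓ hℓK U hU (Or.inr hs) (Or.inr ht) ν (Additive.toMul x) hx
    have h2 : ∀ (σ : Ω ≃ₐ[K] Ω) (y : Groth.Agent.Sga7.H753.Unip.tors (SGA7.Pts Ω A) ℓ),
        (((Groth.Agent.Sga7.H753.Unip.galTors A ℓ σ - 1) y : Groth.Agent.Sga7.H753.Unip.tors (SGA7.Pts Ω A) ℓ) :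
          Additive (SGA7.Pts Ω A)) =
          Additive.ofMul (SGA7.dev σ (Additive.toMul (y : Additive (SGA7.Pts Ω A)))) := by
      intro σ y
      have := Groth.Agent.Sga7.H753.Unip.coe_sub_one_pow σ 1 y
      rwa [pow_one] at this
    change (((Groth.Agent.Sga7.H753.Unip.galTors A ℓ σ - 1) ((Groth.Agent.Sga7.H753.Unip.galTors A ℓ τ - 1)
      ⟨x, ν, hx⟩) : Groth.Agent.Sga7.H753.Unip.tors (SGA7.Pts Ω A) ℓ) : Additive (SGA7.Pts Ω A)) = 0
    rw [h2, h2]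
    exact congrArg Additive.ofMul h1
  { carrier := {σ | UnipE A ℓ σ}
    one_mem' := (Groth.Agent.Sga7.H753.Unip.unip_iff (A := A) (ℓ := ℓ) 1).1 Groth.Agent.Sga7.H753.Unip.Unip.one
    mul_mem' := fun {σ τ} hs ht => by
      apply (Groth.Agent.Sga7.H753.Unip.unip_iff (A := A) (ℓ := ℓ) (σ * τ)).1
      refine ⟨2, ?_⟩
      have h1 : Groth.Agent.Sga7.H753.Unip.galTors A ℓ (σ * τ) - 1 =
          (Groth.Agent.Sga7.H753.Unip.galTors A ℓ σ - 1) * (Groth.Agent.Sga7.H753.Unip.galTors A ℓ τ - 1) +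
          (Groth.Agent.Sga7.H753.Unip.galTors A ℓ σ - 1) + (Groth.Agent.Sga7.H753.Unip.galTors A ℓ τ - 1) := by
        rw [map_mul]
        exact mul_sub_one' _ _
      rw [h1, conv σ τ hs ht, _root_.zero_add, pow_two, _root_.add_mul, _root_.mul_add, _root_.mul_add,
        conv σ σ hs hs, conv σ τ hs ht, conv τ σ ht hs, conv τ τ ht ht]
      simp
    inv_mem' := fun {σ} hs =>
      (Groth.Agent.Sga7.H753.Unip.unip_iff (A := A) (ℓ := ℓ) σ⁻¹).1
        ((Groth.Agent.Sga7.H753.Unip.unip_iff (A := A) (ℓ := ℓ) σ).2 hs).inv }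

theorem mem_Gu {σ : Ω ≃ₐ[K] Ω} : σ ∈ Gu A hℓ hℓK U hU ↔ UnipE A ℓ σ := Iff.rfl

theorem unipE_of_level_two {σ : Ω ≃ₐ[K] Ω}
    (h : ∀ (ν : ℕ) (x : Pts Ω A), x ^ (ℓ ^ ν) = 1 → dev σ (dev σ x) = 1) : UnipE A ℓ σ := ⟨2, h⟩

theorem le_Gu : (U : Subgroup (Ω ≃ₐ[K] Ω)) ≤ Gu A hℓ hℓK U hU := fun σ hσ =>
  unipE_of_level_two A fun ν x hx => hU ν σ σ hσ hσ x hx

theorem mem_Gu_of_trivial (h2 : ℓ ≠ 2) {σ : Ω ≃ₐ[K] Ω}
    (h : ∀ x : Pts Ω A, x ^ ℓ = 1 → galAct σ x = x) : σ ∈ Gu A hℓ hℓK U hU :=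
  have h1 : (∃ q, Adm ℓ q ∧ ∀ x : Pts Ω A, x ^ q = 1 → galAct σ x = x) ∨ UnipE A ℓ σ :=
    Or.inl ⟨ℓ, ⟨hℓ, Or.inl ⟨h2, rfl⟩⟩, h⟩
  unipE_of_level_two A fun ν x hx => level_two A hℓ hℓK U hU h1 h1 ν x hx

theorem normal_Gu : (Gu A hℓ hℓK U hU).Normal := by
  haveI : IsCommMonObj A := isCommMonObj_of_isProper_of_geometricallyIntegral A
  refine ⟨fun σ hs g => ?_⟩
  rw [mem_Gu] at hs ⊢
  apply (Groth.Agent.Sga7.H753.Unip.unip_iff (A := A) (ℓ := ℓ) _).1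
  obtain ⟨m, hm⟩ := (Groth.Agent.Sga7.H753.Unip.unip_iff (A := A) (ℓ := ℓ) _).2 hs
  refine ⟨m, ?_⟩
  have h0 : Groth.Agent.Sga7.H753.Unip.galTors A ℓ g * Groth.Agent.Sga7.H753.Unip.galTors A ℓ g⁻¹ = 1 := by
    rw [← map_mul, mul_inv_cancel, map_one]
  have h0' : Groth.Agent.Sga7.H753.Unip.galTors A ℓ g⁻¹ * Groth.Agent.Sga7.H753.Unip.galTors A ℓ g = 1 := by
    rw [← map_mul, inv_mul_cancel, map_one]
  have h1 : ∀ m : ℕ, (Groth.Agent.Sga7.H753.Unip.galTors A ℓ (g * σ * g⁻¹) - 1) ^ m =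
      Groth.Agent.Sga7.H753.Unip.galTors A ℓ g * (Groth.Agent.Sga7.H753.Unip.galTors A ℓ σ - 1) ^ m *
        Groth.Agent.Sga7.H753.Unip.galTors A ℓ g⁻¹ := by
    intro m
    induction m with
    | zero => rw [pow_zero, pow_zero, _root_.mul_one, h0]
    | succ m ih =>
      have h2 : Groth.Agent.Sga7.H753.Unip.galTors A ℓ (g * σ * g⁻¹) - 1 =
          Groth.Agent.Sga7.H753.Unip.galTors A ℓ g * (Groth.Agent.Sga7.H753.Unip.galTors A ℓ σ - 1) *
            Groth.Agent.Sga7.H753.Unip.galTors A ℓ g⁻¹ := by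
        rw [map_mul, map_mul, mul_sub, sub_mul, _root_.mul_one, h0]
      rw [pow_succ, ih, h2, pow_succ]
      simp only [_root_.mul_assoc]
      rw [← _root_.mul_assoc (Groth.Agent.Sga7.H753.Unip.galTors A ℓ g⁻¹) (Groth.Agent.Sga7.H753.Unip.galTors A ℓ g),
        h0', _root_.one_mul]
  rw [h1, hm, MulZeroClass.mul_zero, MulZeroClass.zero_mul]

end grp

section field

variable {K Ω : Type u} [Field K] [Field Ω] [Algebra K Ω] [IsGalois K Ω]

/-- the field fixed by an open normal subgroup -/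
theorem exists_field (H : Subgroup (Ω ≃ₐ[K] Ω)) (hH : IsOpen (H : Set (Ω ≃ₐ[K] Ω))) (hn : H.Normal) :
    ∃ (L : IntermediateField K Ω) (_ : FiniteDimensional K L), IsGalois K L ∧ L.fixingSubgroup = H ∧
      Module.finrank K L = H.index := by
  let Hc : ClosedSubgroup (Ω ≃ₐ[K] Ω) := ⟨H, Subgroup.isClosed_of_isOpen H hH⟩
  have h1 : (IntermediateField.fixedField (H : Subgroup (Ω ≃ₐ[K] Ω))).fixingSubgroup = H :=
    InfiniteGalois.fixingSubgroup_fixedField Hc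
  have hfin : FiniteDimensional K (IntermediateField.fixedField H) := by
    apply (InfiniteGalois.isOpen_iff_finite _).1
    rw [h1]
    exact hH
  have hgal : IsGalois K (IntermediateField.fixedField H) := by
    apply (InfiniteGalois.normal_iff_isGalois _).1
    rw [h1]
    exact hn
  refine ⟨IntermediateField.fixedField H, hfin, hgal, h1, ?_⟩
  rw [← IsGalois.card_aut_eq_finrank]
  have h2 := IntermediateField.restrictNormalHom_ker (K := K) (L := Ω) (IntermediateField.fixedField H)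
  rw [h1] at h2
  have h3 : Function.Surjective (AlgEquiv.restrictNormalHom (F := K) (K₁ := Ω) (IntermediateField.fixedField H)) :=
    AlgEquiv.restrictNormalHom_surjective Ω
  have h4 := Subgroup.index_ker (AlgEquiv.restrictNormalHom (F := K) (K₁ := Ω) (IntermediateField.fixedField H))
  rw [MonoidHom.range_eq_top.2 h3, h2, Subgroup.card_top] at h4
  exact h4.symm

end field

section red

variable {R K Ω : Type u} [CommRing R] [IsDomain R] [IsDiscreteValuationRing R]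
  (hR : EtCoh.IsStrictlyHenselianLocalRing R) [Field K] [Algebra R K] [IsFractionRing R K]
  [Field Ω] [Algebra K Ω] [Algebra R Ω] [IsScalarTower R K Ω] [IsSepClosure K Ω]
  (A : Over (Spec (CommRingCat.of K))) [GrpObj A] [IsProper A.hom] [GeometricallyIntegral A.hom]

include hR in
/-- Semistable reduction over a finite extension in terms of Galois. -/
theorem ss_iff (h49 : SSIff.{u}) (W : ValuationSubring Ω) (hW : SGA7.LiesOver K R W) {ℓ : ℕ} (hℓ : ℓ.Prime)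
    (hℓk : (ℓ : IsLocalRing.ResidueField R) ≠ 0) (L : IntermediateField K Ω) [FiniteDimensional K L] :
    SGA7.HasSemistableReduction ↥(integralClosure R ↥L) ↥L
        (Red.bc (Spec.map (CommRingCat.ofHom (algebraMap K ↥L))) A) ↔
      ∀ σ ∈ L.fixingSubgroup, UnipE A ℓ σ := by
  have hgal : IsGalois K Ω := inferInstance
  have hsc : IsSepClosed Ω := IsSepClosure.sep_closed K
  have hdvr := Groth.Agent.Sga4h.TameExt.isDiscreteValuationRing R K L hR
  have hfr := Groth.Agent.Sga4h.TameExt.isFractionRing R K L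
  have hsc' : IsSepClosure L Ω := ⟨hsc, Algebra.isSeparable_tower_top_of_isSeparable K L Ω⟩
  have hW' : SGA7.LiesOver L (integralClosure R L) W :=
    Groth.Agent.Sga7.H734.OverInt.liesOver (K := K) W hW
  have hℓk' : (ℓ : IsLocalRing.ResidueField (integralClosure R L)) ≠ 0 :=
    K567.TotalRed.natCast_ne_zero_of_isLocalHom hℓk
  have hp : IsProper (Red.bc (Groth.Agent.Sga7.H753.BaseExt.fKL K L) A).hom := by
    dsimp
    infer_instance
  have hgi : GeometricallyIntegral (Red.bc (Groth.Agent.Sga7.H753.BaseExt.fKL K L) A).hom := by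
    dsimp
    infer_instance
  refine (h49 (integralClosure R L) L Ω W hW' ℓ hℓ hℓk' (Red.bc (Groth.Agent.Sga7.H753.BaseExt.fKL K L) A)).trans ?_
  obtain ⟨hR1, hR2⟩ := hR
  constructor
  · intro h σ hσ
    have hσ' : ∀ x : L, σ (x : Ω) = x := fun x => (IntermediateField.mem_fixingSubgroup_iff _ _).1 hσ x x.2
    let τ : Ω ≃ₐ[L] Ω := AlgEquiv.ofRingEquiv (f := (σ : Ω ≃+* Ω)) hσ'
    have hτ : SGA7.IsInertia W τ := fun x hx =>
      Groth.Agent.Sga7.H734.Inert.isInertia (R := R) W hW σ x hx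
    obtain ⟨m, hm⟩ := h τ hτ
    have h1 : τ.restrictScalars K = σ := AlgEquiv.ext fun x => rfl
    refine ⟨m, ?_⟩
    have h2 := (Groth.Agent.Sga7.H753.BaseExt.unipotent_iff τ ℓ m).1 hm
    rwa [h1] at h2
  · intro h τ _
    obtain ⟨m, hm⟩ := h (τ.restrictScalars K) (by
      rw [IntermediateField.mem_fixingSubgroup_iff]
      intro x hx
      exact τ.commutes ⟨x, hx⟩)
    exact ⟨m, (Groth.Agent.Sga7.H753.BaseExt.unipotent_iff τ ℓ m).2 hm⟩

include hR in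
theorem exists_root (K : Type u) [Field K] [Algebra R K] [IsFractionRing R K] (Ω : Type u) [Field Ω] [Algebra K Ω]
    [Algebra R Ω] [IsScalarTower R K Ω] {l : ℕ} (hl : IsUnit (l : R)) (z : Ω) (hz : z ^ l = 1) :
    z ∈ Set.range (algebraMap K Ω) := by
  have hfs : FaithfulSMul R Ω := by
    rw [faithfulSMul_iff_algebraMap_injective, IsScalarTower.algebraMap_eq R K Ω]
    exact (algebraMap K Ω).injective.comp (IsFractionRing.injective R K)
  obtain ⟨r, hr⟩ := Groth.Agent.Sga4h.WildPro.exists_eq_mul R hR l hl (Ω := Ω) (x := z) (y := 1) (a := 1)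
    one_ne_zero hz (one_pow l)
  exact ⟨algebraMap R K r, by rw [hr, _root_.mul_one, ← IsScalarTower.algebraMap_apply]⟩

include hR in
/-- **The field of semistable reduction.** -/
theorem main (h49 : SSIff.{u}) (h50 : K567.TotalRed.OpenLevelTwo.{u}) (g : ℕ) (hg : topologicalKrullDim A.left = g) :
    ∃ (K' : IntermediateField K Ω) (_ : FiniteDimensional K ↥K'), IsGalois K ↥K' ∧
      Module.finrank K ↥K' ∣ 2 ^ (3 * g + padicValNat 2 g.factorial) *
        ∏ p ∈ (Finset.Icc 3 (2 * g + 1)).filter Nat.Prime,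
          p ^ ((2 * g) / (p - 1) + ∑ i ∈ Finset.Icc 1 ((2 * g) / (p - 1)), padicValNat p i) ∧
      SGA7.HasSemistableReduction ↥(integralClosure R ↥K') ↥K'
        (Red.bc (Spec.map (CommRingCat.ofHom (algebraMap K ↥K'))) A) := by
  have hgal : IsGalois K Ω := inferInstance
  have hsc : IsSepClosed Ω := IsSepClosure.sep_closed K
  haveI hcomm : IsCommMonObj A := isCommMonObj_of_isProper_of_geometricallyIntegral A
  obtain ⟨W, hW⟩ := Groth.Agent.Sga7.H274.ValExt.exists_liesOver K R Ω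
  have hin : ∀ σ : Ω ≃ₐ[K] Ω, SGA7.IsInertia W σ := by
    obtain ⟨hR1, hR2⟩ := hR
    exact fun σ => Groth.Agent.Sga7.H734.Inert.isInertia (R := R) W hW σ
  have hunit : ∀ {l : ℕ}, (l : IsLocalRing.ResidueField R) ≠ 0 → IsUnit (l : R) := by
    intro l hl
    by_contra hn
    apply hl
    rw [← map_natCast (IsLocalRing.residue R), IsLocalRing.residue_eq_zero_iff]
    exact hn
  have hKne : ∀ {l : ℕ}, (l : IsLocalRing.ResidueField R) ≠ 0 → (l : K) ≠ 0 := by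
    intro l hl
    have := (hunit hl).map (algebraMap R K)
    rw [map_natCast] at this
    exact this.ne_zero
  -- the unipotent subgroup for each `l`
  have hopen : ∀ l : ℕ, l.Prime → (l : IsLocalRing.ResidueField R) ≠ 0 → ∃ H : Subgroup (Ω ≃ₐ[K] Ω),
      (∀ σ, σ ∈ H ↔ UnipE A l σ) ∧ IsOpen (H : Set (Ω ≃ₐ[K] Ω)) ∧ H.Normal ∧
      (l ≠ 2 → ∀ σ : Ω ≃ₐ[K] Ω, (∀ x : Pts Ω A, x ^ l = 1 → galAct σ x = x) → σ ∈ H) := by
    intro l hl hlk
    obtain ⟨U, hU⟩ := h50 R K Ω W hW l hl hlk A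
    have hU' : ∀ (ν : ℕ) (σ τ : Ω ≃ₐ[K] Ω), σ ∈ U → τ ∈ U →
        ∀ x : SGA7.Pts Ω A, x ^ (l ^ ν) = 1 → SGA7.dev σ (SGA7.dev τ x) = 1 :=
      fun ν σ τ hσ hτ x hx => hU ν σ τ hσ hτ (hin σ) (hin τ) x hx
    exact ⟨Gu A hl (hKne hlk) U hU', fun σ => mem_Gu A hl (hKne hlk) U hU',
      Subgroup.isOpen_mono (le_Gu A hl (hKne hlk) U hU') U.isOpen, normal_Gu A hl (hKne hlk) U hU',
      fun h2 σ h => mem_Gu_of_trivial A hl (hKne hlk) U hU' h2 h⟩
  -- independence of `l`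
  have hind : ∀ (l l' : ℕ) (_ : l.Prime) (_ : l'.Prime) (_ : (l : IsLocalRing.ResidueField R) ≠ 0)
      (_ : (l' : IsLocalRing.ResidueField R) ≠ 0) (σ : Ω ≃ₐ[K] Ω), UnipE A l σ → UnipE A l' σ := by
    intro l l' hl hl' hlk hlk' σ hσ
    obtain ⟨H, hH, hHo, hHn, -⟩ := hopen l hl hlk
    obtain ⟨L, hLf, hLg, hLH, -⟩ := exists_field H hHo hHn
    have h1 := (ss_iff hR A h49 W hW hl hlk L).2 fun τ hτ => (hH τ).1 (hLH ▸ hτ)
    exact (ss_iff hR A h49 W hW hl' hlk' L).1 h1 σ (by rw [hLH]; exact (hH σ).2 hσ)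
  -- the residue characteristic
  obtain ⟨p, hp⟩ := CharP.exists (IsLocalRing.ResidueField R)
  have hbig : ∀ l : ℕ, l.Prime → p < l → (l : IsLocalRing.ResidueField R) ≠ 0 := by
    intro l hl hpl h0
    rw [CharP.cast_eq_zero_iff _ p] at h0
    rcases CharP.char_is_prime_or_zero (IsLocalRing.ResidueField R) p with h | h
    · have := (Nat.prime_dvd_prime_iff_eq h hl).1 h0
      omega
    · rw [h, zero_dvd_iff] at h0
      exact hl.ne_zero h0
  obtain ⟨l₀, hl₀, hl₀p⟩ := Nat.exists_infinite_primes (p + 1)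
  have hl₀k := hbig l₀ hl₀p (by omega)
  obtain ⟨H, hH, hHo, hHn, -⟩ := hopen l₀ hl₀p hl₀k
  obtain ⟨L, hLf, hLg, hLH, hLd⟩ := exists_field H hHo hHn
  refine ⟨L, hLf, hLg, ?_, (ss_iff hR A h49 W hW hl₀p hl₀k L).2 fun τ hτ => (hH τ).1 (hLH ▸ hτ)⟩
  obtain ⟨C, hC⟩ := SympTors.index_dvd (Ω := Ω) A g hg
  refine SympVal.dvd_bound (B := max C (max p 2)) fun l hl hlB => ?_
  have h1 : C < l := lt_of_le_of_lt (le_max_left _ _) hlB
  have h2 : p < l := lt_of_le_of_lt ((le_max_left p 2).trans (le_max_right C _)) hlB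
  have h3 : 2 < l := lt_of_le_of_lt ((le_max_right p 2).trans (le_max_right C _)) hlB
  have hlk := hbig l hl h2
  rw [hLd]
  refine hC l hl h1 (hKne hlk) (fun z hz => exists_root hR K (AlgebraicClosure Ω) (hunit hlk) z hz) H ?_
  intro σ hσ
  obtain ⟨H', hH', -, -, ht⟩ := hopen l hl hlk
  exact (hH σ).2 (hind l l₀ hl hl₀p hlk hl₀k σ ((hH' σ).1 (ht (by omega) σ hσ)))

end red

end K567.SSField
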