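import Groth.Agent.SGA7.K567.Uniq
import Mathlib.FieldTheory.KummerPolynomial
import Mathlib.RingTheory.Polynomial.Eisenstein.IsIntegral

/-!
# Existence and uniqueness of the tame extension of degree `r`

`K` is the fraction field of a discrete valuation ring, every automorphism of its separable closure is an inertia
element, `r` is prime to the residue characteristic: there is exactly one Galois extension of degree `r`.
-/

set_option autoImplicit false
set_option linter.unusedSectionVars false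

universe u

open scoped Pointwise
open Groth.Agent.Sga7.H753 Polynomial IntermediateField

namespace K567.TameExt

open Wild K567.Tame K567.Uniq

/-- `X ^ r - π` is irreducible. -/
theorem irreducible_X_pow_sub (R K : Type u) [CommRing R] [IsDomain R] [IsDiscreteValuationRing R] [Field K]
    [Algebra R K] [IsFractionRing R K] {π : R} (hπ : Irreducible π) {r : ℕ} (hr : 0 < r) :
    Irreducible (X ^ r - C (algebraMap R K π) : K[X]) := by
  have hmon : (X ^ r - C π : R[X]).Monic := monic_X_pow_sub_C π hr.ne'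
  have hdeg : (X ^ r - C π : R[X]).natDegree = r := natDegree_X_pow_sub_C
  have h1 : (X ^ r - C π : R[X]).IsEisensteinAt (Ideal.span {π}) := by
    constructor
    · rw [hmon.leadingCoeff, Ideal.mem_span_singleton]
      exact fun h => hπ.not_isUnit (isUnit_of_dvd_one h)
    · intro n hn
      rw [hdeg] at hn
      rw [coeff_sub, coeff_X_pow, if_neg hn.ne, zero_sub, coeff_C]
      split_ifs with h
      · exact neg_mem (Ideal.mem_span_singleton_self π)
      · rw [neg_zero]; exact Ideal.zero_mem _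
    · rw [coeff_sub, coeff_X_pow, if_neg (Nat.pos_iff_ne_zero.1 hr).symm, zero_sub, coeff_C_zero,
        Ideal.span_singleton_pow, neg_mem_iff, Ideal.mem_span_singleton]
      rintro ⟨c, hc⟩
      apply hπ.not_isUnit
      have h2 : π * 1 = π * (π * c) := by rw [mul_one, ← mul_assoc, ← pow_two]; exact hc
      exact IsUnit.of_mul_eq_one c (mul_left_cancel₀ hπ.ne_zero h2).symm
  have hprime : (Ideal.span {π} : Ideal R).IsPrime := by
    rw [Ideal.span_singleton_prime hπ.ne_zero]
    exact hπ.prime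
  have h2 : Irreducible (X ^ r - C π : R[X]) :=
    h1.irreducible hprime hmon.isPrimitive (by rw [hdeg]; exact hr)
  have h3 := (hmon.irreducible_iff_irreducible_map_fraction_map (K := K)).1 h2
  rwa [Polynomial.map_sub, Polynomial.map_pow, map_X, map_C] at h3

section

variable {R K Ω : Type u} [CommRing R] [IsDomain R] [IsDiscreteValuationRing R] [Field K] [Algebra R K]
  [IsFractionRing R K] [Field Ω] [Algebra K Ω] [IsSepClosure K Ω]

/-- Roots of unity of order prime to the residue characteristic are fixed by inertia. -/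
theorem map_eq_of_pow_eq_one {W : ValuationSubring Ω} {r : ℕ} (hr : W.valuation (r : Ω) = 1) {ζ : Ω}
    (hζ : ζ ^ r = 1) {σ : Ω ≃ₐ[K] Ω} (hσ : SGA7.IsInertia W σ) : σ ζ = ζ := by
  have hr0 : r ≠ 0 := by
    rintro rfl
    rw [Nat.cast_zero, map_zero] at hr
    exact zero_ne_one hr
  have hζ0 : ζ ≠ 0 := by
    rintro rfl
    rw [zero_pow hr0] at hζ
    exact zero_ne_one hζ
  have hv : W.valuation ζ = 1 := Groth.Agent.Sga7.H743.TameVal.val_eq_one_of_pow_eq_one hr0 hζ
  have h1 : (σ ζ / ζ) ^ r ^ 1 = 1 := by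
    rw [pow_one, div_pow, ← map_pow, hζ, map_one, div_one]
  have h2 : W.valuation (σ ζ / ζ - 1) < 1 := by
    have h3 := (hσ ζ ((W.valuation_le_one_iff _).1 hv.le)).2
    have h4 : σ ζ / ζ - 1 = (σ ζ - ζ) / ζ := by field_simp
    rw [h4, map_div₀, hv, div_one]
    exact h3
  have h5 := Groth.Agent.Sga7.H743.TameVal.eq_one_of_pow_eq_one hr h1 h2
  rwa [div_eq_one_iff_eq hζ0] at h5

variable (W : ValuationSubring Ω) (hW : SGA7.LiesOver K R W) (hI : ∀ σ : Ω ≃ₐ[K] Ω, SGA7.IsInertia W σ)
include hW hI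

/-- Existence. -/
theorem exists_ext {r : ℕ} (hr : 0 < r) (hrk : (r : IsLocalRing.ResidueField R) ≠ 0) :
    ∃ L : IntermediateField K Ω, Module.finrank K L = r ∧ IsGalois K L := by
  have hsc : IsSepClosed Ω := IsSepClosure.sep_closed K
  have hgal : IsGalois K Ω := inferInstance
  have hv : W.valuation (r : Ω) = 1 := Core.val_natCast (R := R) W hW hrk
  have hrΩ : NeZero (r : Ω) := ⟨by rw [← Valuation.ne_zero_iff W.valuation, hv]; exact one_ne_zero⟩
  obtain ⟨π, hπ⟩ := IsDiscreteValuationRing.exists_irreducible R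
  obtain ⟨x, hx⟩ := IsSepClosed.exists_pow_nat_eq (algebraMap K Ω (algebraMap R K π)) r
  have hirr := irreducible_X_pow_sub R K hπ hr
  have hx0 : x ≠ 0 := by
    rintro rfl
    rw [zero_pow hr.ne'] at hx
    have h1 := (map_eq_zero (algebraMap K Ω)).1 hx.symm
    exact hπ.ne_zero ((map_eq_zero_iff _ (IsFractionRing.injective R K)).1 h1)
  have hmin : minpoly K x = X ^ r - C (algebraMap R K π) := by
    symm
    apply minpoly.eq_of_irreducible_of_monic hirr
    · rw [map_sub, map_pow, aeval_X, aeval_C, hx, sub_self]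
    · exact monic_X_pow_sub_C _ hr.ne'
  have hint : IsIntegral K x := Algebra.IsIntegral.isIntegral x
  refine ⟨K⟮x⟯, ?_, ?_⟩
  · rw [IntermediateField.adjoin.finrank hint, hmin, natDegree_X_pow_sub_C]
  · have hnorm : Normal K K⟮x⟯ := by
      rw [IntermediateField.normal_iff_forall_map_le']
      intro σ
      rw [IntermediateField.adjoin_map, IntermediateField.adjoin_le_iff]
      rintro _ ⟨y, hy, rfl⟩
      rw [Set.mem_singleton_iff.1 hy]
      have h1 : (σ x / x) ^ r = 1 := by
        rw [div_pow, ← map_pow, hx, AlgEquiv.commutes, div_self]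
        rw [← hx]
        exact pow_ne_zero r hx0
      have h2 : ∀ τ : Ω ≃ₐ[K] Ω, τ (σ x / x) = σ x / x := fun τ => map_eq_of_pow_eq_one hv h1 (hI τ)
      have h3 : σ x / x ∈ (⊥ : IntermediateField K Ω) := (InfiniteGalois.mem_bot_iff_fixed _).2 h2
      have h4 : σ x / x ∈ K⟮x⟯ := (bot_le : (⊥ : IntermediateField K Ω) ≤ K⟮x⟯) h3
      have h5 : (σ : Ω →ₐ[K] Ω) x = (σ x / x) * x := by
        rw [div_mul_cancel₀ _ hx0]
        rfl
      rw [SetLike.mem_coe, h5]
      exact mul_mem h4 (IntermediateField.mem_adjoin_simple_self K x)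
    exact { }

/-- Every automorphism of a subextension comes from inertia. -/
theorem surj (L : IntermediateField K Ω) [Normal K L] (g : L ≃ₐ[K] L) :
    ∃ σ : Ω ≃ₐ[K] Ω, SGA7.IsInertia W σ ∧ ∀ x : L, σ x = (g x : L) :=
  ⟨g.liftNormal Ω, hI _, fun x => AlgEquiv.liftNormal_commutes g Ω x⟩

theorem fixingSubgroup_le {r : ℕ} (hrk : (r : IsLocalRing.ResidueField R) ≠ 0) (L L' : IntermediateField K Ω)
    [FiniteDimensional K L] [IsGalois K L] [FiniteDimensional K L'] [IsGalois K L']
    (h : Module.finrank K L = r) (h' : Module.finrank K L' = r) :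
    L.fixingSubgroup ≤ L'.fixingSubgroup := by
  have hgal : IsGalois K Ω := inferInstance
  have hv : W.valuation (r : Ω) = 1 := Core.val_natCast (R := R) W hW hrk
  have hpow : ∀ (F : IntermediateField K Ω) [FiniteDimensional K F] [IsGalois K F],
      Module.finrank K F = r → ∀ (σ : Ω ≃ₐ[K] Ω), σ ^ r ∈ F.fixingSubgroup := by
    intro F _ _ hF σ
    rw [IntermediateField.mem_fixingSubgroup_iff]
    intro z hz
    have h1 := AlgEquiv.restrictNormal_commutes (σ ^ r) F ⟨z, hz⟩
    have h2 : (σ ^ r).restrictNormal F = 1 := by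
      have h3 := map_pow (AlgEquiv.restrictNormalHom (F := K) (K₁ := Ω) F) σ r
      have h4 : (AlgEquiv.restrictNormalHom (F := K) (K₁ := Ω) F) σ ^ r = 1 := by
        rw [← hF, ← IsGalois.card_aut_eq_finrank]
        exact pow_card_eq_one'
      exact h3.trans h4
    rw [h2] at h1
    exact h1.symm
  let H : Subgroup (Ω ≃ₐ[K] Ω) := L.fixingSubgroup ⊓ L'.fixingSubgroup
  obtain ⟨τ, hτI, hτ⟩ := exists_gen_mod (R := R) W hW (L ⊔ L') H
    (fun σ _ hσ => ⟨(IntermediateField.mem_fixingSubgroup_iff _ _).2 fun z hz => hσ z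
        ((le_sup_left : L ≤ L ⊔ L') hz), (IntermediateField.mem_fixingSubgroup_iff _ _).2 fun z hz => hσ z
        ((le_sup_right : L' ≤ L ⊔ L') hz)⟩) hv
    (fun σ _ => ⟨hpow L h σ, hpow L' h' σ⟩)
  intro σ hσ
  obtain ⟨j, hj⟩ := hτ σ (hI σ)
  have h1 : τ ^ j ∈ L.fixingSubgroup := by
    have h2 : τ ^ j = σ * ((τ ^ j)⁻¹ * σ)⁻¹ := by group
    rw [h2]
    exact mul_mem hσ (inv_mem hj.1)
  have h2 : r ∣ j := by
    rw [← h]
    exact dvd_of_fix W L H (fun σ hσ => (IntermediateField.mem_fixingSubgroup_iff _ _).1 hσ.1)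
      (surj W hW hI L) hτ ((IntermediateField.mem_fixingSubgroup_iff _ _).1 h1)
  obtain ⟨c, rfl⟩ := h2
  have h3 : σ = (τ ^ r) ^ c * ((τ ^ (r * c))⁻¹ * σ) := by
    rw [← pow_mul]
    group
  rw [h3]
  exact mul_mem (pow_mem (hpow L' h' τ) c) hj.2

/-- Uniqueness. -/
theorem eq_of_finrank_eq {r : ℕ} (hrk : (r : IsLocalRing.ResidueField R) ≠ 0) (L L' : IntermediateField K Ω)
    [FiniteDimensional K L] [IsGalois K L] [FiniteDimensional K L'] [IsGalois K L']
    (h : Module.finrank K L = r) (h' : Module.finrank K L' = r) : L = L' := by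
  have hgal : IsGalois K Ω := inferInstance
  rw [← InfiniteGalois.fixedField_fixingSubgroup L, ← InfiniteGalois.fixedField_fixingSubgroup L']
  congr 1
  exact le_antisymm (fixingSubgroup_le W hW hI hrk L L' h h') (fixingSubgroup_le W hW hI hrk L' L h' h)

end

end K567.TameExt
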