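import Groth.Agent.SGA7.K567.CMUnip
import Groth.Agent.AbVar.K510.Factor

/-!
# Divisibility of endomorphisms over a field

`exists_eq_nsmul`: an endomorphism of an abelian variety over `K` killing the `N`-torsion points over a separably closed
extension (`N` invertible in `K`) is divisible by `N` in `End_K(A)`.
-/

set_option autoImplicit false
universe u

open CategoryTheory Limits MonoidalCategory CartesianMonoidalCategory AlgebraicGeometry Polynomial Module
open scoped MonObj TensorProduct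

namespace K567.CMDiv

open K567.CMUnip

theorem map_one_pow {S S' : Scheme.{u}} (f : S' ⟶ S) (G : Over S) [GrpObj G] (m : ℕ) :
    (Over.pullback f).map ((𝟙 G : G ⟶ G) ^ m) = (𝟙 ((Over.pullback f).obj G)) ^ m := by
  induction m with
  | zero =>
    rw [_root_.pow_zero, _root_.pow_zero]
    exact Functor.map_one _
  | succ m ih =>
    rw [_root_.pow_succ, _root_.pow_succ, ← ih]
    refine (Functor.map_mul _ _ _).trans ?_
    rw [CategoryTheory.Functor.map_id]

variable {K : Type u} [Field K] (Ω' : Type u) [Field Ω'] [Algebra K Ω']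
  (A : Over (Spec (CommRingCat.of K))) [GrpObj A] [IsCommMonObj A] [IsProper A.hom] [GeometricallyIntegral A.hom]
  {Ω : Type u} [Field Ω] [Algebra K Ω] (j : SGA7.Pts Ω A →* SGA7.Pts Ω' A)
  (hjs : ∀ (n : ℕ), (n : K) ≠ 0 → ∀ y : SGA7.Pts Ω' A, y ^ n = 1 → ∃ x, x ^ n = 1 ∧ j x = y)
  (hjc : ∀ (x : SGA7.Pts Ω A) (φ : A ⟶ A), j (x ≫ φ) = j x ≫ φ)

include hjs hjc in
theorem exists_desc' [IsAlgClosed Ω'] {N : ℕ} (hN : (N : K) ≠ 0) (φ : A ⟶ A) [IsMonHom φ]
    (h : ∀ x : SGA7.Pts Ω A, x ^ N = 1 → x ≫ φ = 1) :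
    ∃ φ' : A ⟶ A, IsMonHom φ' ∧ (𝟙 A ^ N : A ⟶ A) ≫ φ' = φ := by
  have hN0 : N ≠ 0 := by rintro rfl; exact hN Nat.cast_zero
  have hmon : IsMonHom (𝟙 A ^ N : A ⟶ A) := Groth.Agent.Grpsch.KerMul.isMonHom_id_pow N
  obtain ⟨F, gF, i, hi, hic, hpb⟩ := K510.KerLemmas.exists_closedKernel (𝟙 A ^ N : A ⟶ A)
  have i1 := isProper_Ab Ω' A
  have i2 := geometricallyIntegral_Ab Ω' A
  have i3 : IsCommMonObj (Ab Ω' A) := isCommMonObj_of_isProper_of_geometricallyIntegral (Ab Ω' A)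
  have hN' : (N : Ω') ≠ 0 := by
    rw [← map_natCast (algebraMap K Ω'), Ne, map_eq_zero]; exact hN
  have hφ' : IsMonHom ((Over.pullback (fb K Ω')).map φ) := inferInstance
  obtain ⟨ψ, hψ, hψ'⟩ := K510.Factor.exists_desc (Ab Ω' A) (Ab Ω' A) ((Over.pullback (fb K Ω')).map φ) N hN'
    (fun y hy => by
      obtain ⟨z, rfl⟩ := (K521.BcTate.ptsEquiv (fb K Ω') A).surjective y
      rw [← map_pow, MulEquiv.map_eq_one_iff] at hy
      obtain ⟨x, hx, rfl⟩ := hjs N hN z hy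
      have h1 : K521.BcTate.toPt (fb K Ω') A (j x ≫ φ) =
        K521.BcTate.toPt (fb K Ω') A (j x) ≫ (Over.pullback (fb K Ω')).map φ :=
        K521.BcTate.toPt_comp (fb K Ω') A (j x) φ
      have h2 : K521.BcTate.toPt (fb K Ω') A (j x ≫ φ) = 1 := by
        rw [← hjc, h x hx, map_one]
        exact map_one (K521.BcTate.ptsEquiv (fb K Ω') A)
      exact h1.symm.trans h2)
  have hiφ : i ≫ φ = 1 := by
    have hfl : Flat (fb K Ω') := inferInstance
    have hsurj : Surjective (fb K Ω') := inferInstance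
    apply K520.HomFg.map_injective (fb K Ω')
    change (Over.pullback (fb K Ω')).map (i ≫ φ) = (Over.pullback (fb K Ω')).map 1
    have h1 : i ≫ (𝟙 A ^ N : A ⟶ A) = 1 := by
      have := K510.KerLemmas.ker_comp hpb (𝟙 F)
      rwa [Category.id_comp] at this
    have h2 : (Over.pullback (fb K Ω')).map i ≫ (𝟙 (Ab Ω' A) ^ N : Ab Ω' A ⟶ Ab Ω' A) = 1 := by
      rw [← map_one_pow, ← Functor.map_comp, h1]
      exact Functor.map_one _
    have h3 : (Over.pullback (fb K Ω')).map (1 : F ⟶ A) = 1 := Functor.map_one (Over.pullback (fb K Ω'))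
    rw [Functor.map_comp, ← hψ', ← Category.assoc, h2, MonObj.one_comp, h3]
  have het : Etale (𝟙 A ^ N : A ⟶ A).left := by
    have h1 := Groth.Agent.Grpsch.AbBC.etale_zpow A (d := (N : ℤ)) (by rwa [Int.cast_natCast])
    rwa [zpow_natCast] at h1
  have hflat : Flat (𝟙 A ^ N : A ⟶ A).left := inferInstance
  have hsurj : Surjective (𝟙 A ^ N : A ⟶ A).left :=
    Groth.Agent.Grpsch.MulFin.surjective_pow A N (Nat.pos_of_ne_zero hN0)
  have hfp : LocallyOfFinitePresentation (𝟙 A ^ N : A ⟶ A).left := inferInstance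
  exact K510.KerLemmas.exists_desc_hom i (𝟙 A ^ N : A ⟶ A) hpb φ hiφ

/-- **Divisibility.** -/
theorem exists_eq_nsmul [IsSepClosed Ω] {N : ℕ} (hN : (N : K) ≠ 0) (φ : EndAV.End A)
    (h : ∀ x : SGA7.Pts Ω A, x ^ N = 1 → x ≫ φ.toHom = 1) : ∃ φ' : EndAV.End A, φ = N • φ' := by
  obtain ⟨φ', h1, h2⟩ := exists_desc' (AlgebraicClosure Ω) A (SympTors.jm A)
    (fun n hn y hy => SympTors.jm_surj A hn y hy) (jm_comp A) hN φ.toHom h
  refine ⟨EndAV.End.of φ', EndAV.End.ext ?_⟩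
  rw [EndAV.End.toHom_nsmul, ← h2, EndAV.End.toHom_of, MonObj.pow_comp, Category.id_comp]

end K567.CMDiv
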