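import Mathlib.GroupTheory.GroupAction.Quotient
import Mathlib.LinearAlgebra.SesquilinearForm.Basic
import Mathlib.LinearAlgebra.FiniteDimensional.Basic
import Mathlib.FieldTheory.Finite.Basic
import Mathlib.Algebra.BigOperators.Fin

/-!
# The order of a finite group of isometries of an alternating form over a finite field

A finite group acting faithfully by isometries on a nondegenerate alternating space with `q ^ (2 n)` elements over a
field with `q` elements has order dividing `∏ i < n, (q ^ (2 i + 2) - 1) q ^ (2 i + 1)`.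
-/

set_option autoImplicit false

namespace K567.SympCount

open Finset MulAction

/-- If all stabilisers have order dividing `m`, the group order divides `|X| m`. -/
theorem card_dvd {H X : Type*} [Group H] [Finite H] [Finite X] [MulAction H X] (m : ℕ)
    (h : ∀ x : X, Nat.card (stabilizer H x) ∣ m) : Nat.card H ∣ Nat.card X * m := by
  classical
  have hf : Finite (Quotient (orbitRel H X)) := Quotient.finite _
  cases nonempty_fintype (Quotient (orbitRel H X))
  rw [Nat.card_congr (selfEquivSigmaOrbitsQuotientStabilizer H X), Nat.card_sigma, Finset.sum_mul]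
  refine Finset.dvd_sum fun ω _ => ?_
  obtain ⟨c, hc⟩ := h ω.out
  have h1 := (stabilizer H ω.out).card_mul_index
  rw [Subgroup.index] at h1
  rw [hc, ← mul_assoc, mul_comm (Nat.card (H ⧸ _)), h1]
  exact dvd_mul_right _ _

/-- the number -/
def num (q n : ℕ) : ℕ := ∏ i ∈ range n, ((q ^ (2 * i + 2) - 1) * q ^ (2 * i + 1))

theorem num_zero (q : ℕ) : num q 0 = 1 := by simp [num]

theorem num_succ (q n : ℕ) : num q (n + 1) = (q ^ (2 * n + 2) - 1) * q ^ (2 * n + 1) * num q n := by
  rw [num, prod_range_succ, mul_comm, num]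

variable {F : Type*} [Field F] [Finite F] {V : Type*} [AddCommGroup V] [Module F V] [Finite V]

/-- the hyperbolic pairs -/
def Hyp (B : V →ₗ[F] V →ₗ[F] F) : Type _ := {p : V × V // B p.1 p.2 = 1}

instance (B : V →ₗ[F] V →ₗ[F] F) : Finite (Hyp B) := Subtype.finite

omit [Finite F] [Finite V] in
/-- a fibre of a nonzero linear form -/
theorem card_fibre (f : V →ₗ[F] F) (hf : f ≠ 0) (c : F) :
    Nat.card F * Nat.card {v : V // f v = c} = Nat.card V := by
  classical
  obtain ⟨v₁, hv₁⟩ : ∃ v, f v = 1 := by
    obtain ⟨v, hv⟩ : ∃ v, f v ≠ 0 := by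
      by_contra h
      push Not at h
      exact hf (LinearMap.ext h)
    exact ⟨(f v)⁻¹ • v, by rw [map_smul, smul_eq_mul, inv_mul_cancel₀ hv]⟩
  rw [← Nat.card_prod]
  refine Nat.card_congr
    { toFun := fun p => p.2.1 + (p.1 - c) • v₁
      invFun := fun v => ⟨f v, v - (f v - c) • v₁, by
        rw [map_sub, map_smul, hv₁, smul_eq_mul, mul_one, sub_sub_cancel]⟩
      left_inv := ?_
      right_inv := ?_ }
  · rintro ⟨a, v, rfl⟩
    have h1 : f (v + (a - f v) • v₁) = a := by
      rw [map_add, map_smul, hv₁, smul_eq_mul, mul_one, add_sub_cancel]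
    refine Prod.ext h1 (Subtype.ext ?_)
    change v + (a - f v) • v₁ - (f (v + (a - f v) • v₁) - f v) • v₁ = v
    rw [h1, add_sub_cancel_right]
  · intro v
    change v - (f v - c) • v₁ + (f v - c) • v₁ = v
    rw [sub_add_cancel]

theorem card_hyp (B : V →ₗ[F] V →ₗ[F] F) (hnd : ∀ x : V, (∀ y, B x y = 0) → x = 0) {m : ℕ}
    (hV : Nat.card V = Nat.card F ^ (m + 1)) :
    Nat.card (Hyp B) = (Nat.card F ^ (m + 1) - 1) * Nat.card F ^ m := by
  classical
  cases nonempty_fintype V
  have hq : 0 < Nat.card F := Nat.card_pos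
  have e : Hyp B ≃ Σ x : V, {y : V // B x y = 1} :=
    { toFun := fun p => ⟨p.1.1, p.1.2, p.2⟩
      invFun := fun p => ⟨(p.1, p.2.1), p.2.2⟩
      left_inv := fun _ => rfl
      right_inv := fun _ => rfl }
  have h0 : ∀ x : V, Nat.card {y : V // B x y = 1} = if x = 0 then 0 else Nat.card F ^ m := by
    intro x
    split_ifs with hx
    · subst hx
      have : IsEmpty {y : V // B 0 y = 1} := ⟨fun y => by
        have h4 := y.2
        simp at h4⟩
      exact Nat.card_of_isEmpty
    · have h1 := card_fibre (B x) (fun h => hx (hnd x fun y => by rw [h]; rfl)) 1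
      rw [hV, pow_succ'] at h1
      exact Nat.eq_of_mul_eq_mul_left hq h1
  rw [Nat.card_congr e, Nat.card_sigma, Finset.sum_congr rfl (fun x _ => h0 x), Finset.sum_ite,
    Finset.sum_const_zero, zero_add, Finset.sum_const, smul_eq_mul]
  congr 1
  rw [← hV, Finset.filter_ne' , Finset.card_erase_of_mem (Finset.mem_univ _), Finset.card_univ,
    Nat.card_eq_fintype_card]

variable {H : Type*} [Group H]

/-- the action on the hyperbolic pairs -/
@[instance_reducible]
def hypAction (B : V →ₗ[F] V →ₗ[F] F) (ρ : H →* (V ≃ₗ[F] V)) (hρ : ∀ h x y, B (ρ h x) (ρ h y) = B x y) :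
    MulAction H (Hyp B) where
  smul h p := ⟨(ρ h p.1.1, ρ h p.1.2), by rw [hρ]; exact p.2⟩
  one_smul p := Subtype.ext (by
    change (ρ 1 p.1.1, ρ 1 p.1.2) = p.1
    rw [map_one]; rfl)
  mul_smul h h' p := Subtype.ext (by
    change (ρ (h * h') p.1.1, ρ (h * h') p.1.2) = (ρ h (ρ h' p.1.1), ρ h (ρ h' p.1.2))
    rw [map_mul]; rfl)

/-- the orthogonal of a hyperbolic pair -/
def orth (B : V →ₗ[F] V →ₗ[F] F) (e f : V) : Submodule F V := LinearMap.ker (B e) ⊓ LinearMap.ker (B f)

omit [Finite F] [Finite V] in
theorem mem_orth (B : V →ₗ[F] V →ₗ[F] F) {e f x : V} : x ∈ orth B e f ↔ B e x = 0 ∧ B f x = 0 := Iff.rfl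

omit [Finite F] [Finite V] in
theorem sub_mem_orth (B : V →ₗ[F] V →ₗ[F] F) (halt : ∀ x, B x x = 0) {e f : V} (hef : B e f = 1) (v : V) :
    v - (B v f • e + B e v • f) ∈ orth B e f := by
  have hsw : ∀ x y, B x y = -B y x := by
    intro x y
    have h1 := halt (x + y)
    simp only [map_add, LinearMap.add_apply, halt, zero_add, add_zero] at h1
    exact eq_neg_of_add_eq_zero_right h1
  rw [mem_orth]
  simp only [map_sub, map_add, map_smul, smul_eq_mul, halt, hef, mul_zero, mul_one, zero_add, add_zero, sub_self,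
    true_and]
  rw [hsw f e, hef, hsw v f]
  ring

omit [Finite F] [Finite V] in
theorem card_orth (B : V →ₗ[F] V →ₗ[F] F) (halt : ∀ x, B x x = 0) {e f : V} (hef : B e f = 1) :
    Nat.card F * Nat.card F * Nat.card (orth B e f) = Nat.card V := by
  have hsw : ∀ x y, B x y = -B y x := by
    intro x y
    have h1 := halt (x + y)
    simp only [map_add, LinearMap.add_apply, halt, zero_add, add_zero] at h1
    exact eq_neg_of_add_eq_zero_right h1
  rw [← Nat.card_prod, ← Nat.card_prod]
  refine Nat.card_congr
    { toFun := fun p => p.2.1 + (p.1.1 • e + p.1.2 • f)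
      invFun := fun v => ⟨(B v f, B e v), ⟨_, sub_mem_orth B halt hef v⟩⟩
      left_inv := ?_
      right_inv := ?_ }
  · rintro ⟨⟨a, b⟩, v, hv⟩
    rw [mem_orth] at hv
    have h1 : B (v + (a • e + b • f)) f = a := by
      simp only [map_add, map_smul, LinearMap.add_apply, LinearMap.smul_apply, halt, hef, smul_eq_mul, mul_one,
        mul_zero, add_zero]
      rw [hsw v f, hv.2, neg_zero, zero_add]
    have h2 : B e (v + (a • e + b • f)) = b := by
      simp only [map_add, map_smul, halt, hef, smul_eq_mul, mul_one, mul_zero, zero_add]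
      rw [hv.1, zero_add]
    refine Prod.ext (Prod.ext h1 h2) (Subtype.ext ?_)
    change v + (a • e + b • f) - (B (v + (a • e + b • f)) f • e + B e (v + (a • e + b • f)) • f) = v
    rw [h1, h2, add_sub_cancel_right]
  · intro v
    exact sub_add_cancel _ _

omit [Finite F] [Finite V] in
theorem orth_nondeg (B : V →ₗ[F] V →ₗ[F] F) (halt : ∀ x, B x x = 0) (hnd : ∀ x : V, (∀ y, B x y = 0) → x = 0)
    {e f : V} (hef : B e f = 1) (x : V) (hx : x ∈ orth B e f) (h : ∀ y ∈ orth B e f, B x y = 0) : x = 0 := by
  have hsw : ∀ x y, B x y = -B y x := by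
    intro x y
    have h1 := halt (x + y)
    simp only [map_add, LinearMap.add_apply, halt, zero_add, add_zero] at h1
    exact eq_neg_of_add_eq_zero_right h1
  refine hnd x fun y => ?_
  have h1 := h _ (sub_mem_orth B halt hef y)
  rw [mem_orth] at hx
  rw [map_sub, map_add, map_smul, map_smul, hsw x e, hx.1, hsw x f, hx.2, neg_zero, smul_zero, smul_zero, add_zero,
    sub_zero] at h1
  exact h1

theorem main (n : ℕ) : ∀ (V : Type*) [AddCommGroup V] [Module F V] [Finite V] (B : V →ₗ[F] V →ₗ[F] F)
    (_ : ∀ x, B x x = 0) (_ : ∀ x : V, (∀ y, B x y = 0) → x = 0) (_ : Nat.card V = Nat.card F ^ (2 * n))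
    (H : Type*) [Group H] [Finite H] (ρ : H →* (V ≃ₗ[F] V)) (_ : Function.Injective ρ)
    (_ : ∀ h x y, B (ρ h x) (ρ h y) = B x y), Nat.card H ∣ num (Nat.card F) n := by
  induction n with
  | zero =>
    intro V _ _ _ B _ _ hV H _ _ ρ hρi _
    rw [mul_zero, pow_zero, Nat.card_eq_one_iff_unique] at hV
    have : Subsingleton V := hV.1
    have : Subsingleton H := ⟨fun a b => hρi (LinearEquiv.ext fun x => Subsingleton.elim _ _)⟩
    rw [num_zero, Nat.card_unique]
  | succ n ih =>
    intro V _ _ _ B halt hnd hV H _ _ ρ hρi hρ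
    have hq : 0 < Nat.card F := Nat.card_pos
    let _ := hypAction B ρ hρ
    have h1 := card_hyp B hnd (m := 2 * n + 1) hV
    have h2 : 2 * n + 1 + 1 = 2 * n + 2 := rfl
    rw [num_succ, ← h2, ← h1]
    refine card_dvd (X := Hyp B) _ fun p => ?_
    let e := p.1.1
    let f := p.1.2
    have hef : B e f = 1 := p.2
    have hst : ∀ s : stabilizer H p, ρ s e = e ∧ ρ s f = f := by
      rintro ⟨s, hs⟩
      have h4 := congrArg Subtype.val (mem_stabilizer_iff (G := H) (α := Hyp B) |>.1 hs)
      exact ⟨congrArg (fun z : V × V => z.1) h4, congrArg (fun z : V × V => z.2) h4⟩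
    have hmap : ∀ (s : stabilizer H p) (x : V), x ∈ orth B e f → ρ s x ∈ orth B e f := by
      intro s x hx
      rw [mem_orth] at hx ⊢
      have h5 := hρ s e x
      have h6 := hρ s f x
      rw [(hst s).1] at h5
      rw [(hst s).2] at h6
      exact ⟨h5.trans hx.1, h6.trans hx.2⟩
    let ρ' : stabilizer H p →* (orth B e f ≃ₗ[F] orth B e f) :=
      { toFun := fun s =>
          { toFun := fun x => ⟨ρ s x, hmap s x x.2⟩
            invFun := fun x => ⟨ρ (s⁻¹ : stabilizer H p) x, hmap s⁻¹ x x.2⟩
            map_add' := fun x y => Subtype.ext (map_add (ρ s) (x : V) (y : V))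
            map_smul' := fun c x => Subtype.ext (map_smul (ρ s) c (x : V))
            left_inv := fun x => Subtype.ext (by
              change (ρ (s : H)⁻¹ * ρ s) (x : V) = x
              rw [← map_mul, inv_mul_cancel, map_one]; rfl)
            right_inv := fun x => Subtype.ext (by
              change (ρ (s : H) * ρ (s : H)⁻¹) (x : V) = x
              rw [← map_mul, mul_inv_cancel, map_one]; rfl) }
        map_one' := LinearEquiv.ext fun x => Subtype.ext (by
          change ρ 1 (x : V) = x
          rw [map_one]; rfl)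
        map_mul' := fun s t => LinearEquiv.ext fun x => Subtype.ext (by
          change ρ ((s : H) * t) (x : V) = ρ s (ρ t x)
          rw [map_mul]; rfl) }
    have hρ'i : Function.Injective ρ' := by
      intro s t hst'
      apply Subtype.ext
      apply hρi
      refine LinearEquiv.ext fun v => ?_
      have h7 : v = (v - (B v f • e + B e v • f)) + (B v f • e + B e v • f) := (sub_add_cancel _ _).symm
      have h8 := congrArg (fun g : orth B e f ≃ₗ[F] orth B e f => ((g ⟨_, sub_mem_orth B halt hef v⟩ : orth B e f) : V))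
        hst'
      change ρ s (v - (B v f • e + B e v • f)) = ρ t (v - (B v f • e + B e v • f)) at h8
      rw [h7]
      simp only [map_add, map_smul, (hst s).1, (hst s).2, (hst t).1, (hst t).2]
      rw [h8]
    refine ih (orth B e f) (B.domRestrict₁₂ (orth B e f) (orth B e f)) (fun x => halt x) (fun x hx => ?_) ?_
      (stabilizer H p) ρ' hρ'i (fun s x y => hρ s x y)
    · exact Subtype.ext (orth_nondeg B halt hnd hef x x.2 fun y hy => hx ⟨y, hy⟩)
    · have h9 := card_orth B halt hef
      rw [hV] at h9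
      have h10 : Nat.card F ^ (2 * (n + 1)) = Nat.card F * Nat.card F * Nat.card F ^ (2 * n) := by ring
      rw [h10] at h9
      exact Nat.eq_of_mul_eq_mul_left (Nat.mul_pos hq hq) h9

end K567.SympCount
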