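import Groth.Agent.AbVar.K515.TateE
import Groth.Agent.Grpsch.MulFin
import Groth.Agent.Sga7.H753.WildFix
import Groth.Agent.SGA7.K567.SympCount
import Mathlib.FieldTheory.IsAlgClosed.AlgebraicClosure
import Mathlib.RingTheory.RootsOfUnity.AlgebraicallyClosed
import Mathlib.Algebra.Module.ZMod

/-!
# The action of Galois on the `l`-torsion of an abelian variety is symplectic

`index_dvd`: for `l` large, any subgroup containing the elements acting trivially on the `l`-torsion has index dividing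
the product `∏ i < g, (l ^ (2 i + 2) - 1) l ^ (2 i + 1)`, when the ground field contains the `l`-th roots of unity.
-/

set_option autoImplicit false
universe u

open CategoryTheory CategoryTheory.Limits MonoidalCategory CartesianMonoidalCategory
  AlgebraicGeometry MonObj
open Groth.Agent.Sga7.H761.TransSig Groth.Agent.Grpsch.PicGrp Groth.Agent.Grpsch.Cube
open Groth.Agent.Sga67.TorsionLift
open K515.Bc K515.Geo K515.TateE

noncomputable section

namespace K567.SympTors

variable {K Ω : Type u} [Field K] [Field Ω] [Algebra K Ω] (A : Over (Spec (CommRingCat.of K))) [GrpObj A]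

/-- points in the algebraic closure -/
def jm : SGA7.Pts Ω A →* SGA7.Pts (AlgebraicClosure Ω) A where
  toFun x := spMap (IsScalarTower.toAlgHom K Ω (AlgebraicClosure Ω)) ≫ x
  map_one' := MonObj.comp_one _
  map_mul' := MonObj.comp_mul _

theorem jm_injective : Function.Injective (jm (K := K) (Ω := Ω) A) := by
  intro x y h
  have h1 := congrArg (fun f => f.left) h
  change (spMap (IsScalarTower.toAlgHom K Ω (AlgebraicClosure Ω)) ≫ x).left =
    (spMap (IsScalarTower.toAlgHom K Ω (AlgebraicClosure Ω)) ≫ y).left at h1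
  rw [Over.comp_left, Over.comp_left] at h1
  change Spec.map (CommRingCat.ofHom (algebraMap Ω (AlgebraicClosure Ω))) ≫ x.left =
    Spec.map (CommRingCat.ofHom (algebraMap Ω (AlgebraicClosure Ω))) ≫ y.left at h1
  have h2 : Epi (Spec.map (CommRingCat.ofHom (algebraMap Ω (AlgebraicClosure Ω)))) := by
    have : Flat (Spec.map (CommRingCat.ofHom (algebraMap Ω (AlgebraicClosure Ω)))) := by
      infer_instance
    have : Surjective (Spec.map (CommRingCat.ofHom (algebraMap Ω (AlgebraicClosure Ω)))) := by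
      infer_instance
    exact Flat.epi_of_flat_of_surjective _
  ext1
  exact (cancel_epi _).1 h1

/-- an extension of an automorphism to the algebraic closure -/
def ext (σ : Ω ≃ₐ[K] Ω) : AlgebraicClosure Ω ≃ₐ[K] AlgebraicClosure Ω :=
  AlgEquiv.ofRingEquiv (f := IsAlgClosure.equivOfEquiv (AlgebraicClosure Ω) (AlgebraicClosure Ω)
    (σ : Ω ≃+* Ω)) (fun r => by
      rw [IsScalarTower.algebraMap_apply K Ω (AlgebraicClosure Ω), IsAlgClosure.equivOfEquiv_algebraMap]
      congr 1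
      exact σ.commutes r)

theorem ext_apply (σ : Ω ≃ₐ[K] Ω) (x : Ω) : ext σ (algebraMap Ω (AlgebraicClosure Ω) x) =
    algebraMap Ω (AlgebraicClosure Ω) (σ x) :=
  IsAlgClosure.equivOfEquiv_algebraMap (AlgebraicClosure Ω) (AlgebraicClosure Ω) (σ : Ω ≃+* Ω) x

theorem jm_galAct (σ : Ω ≃ₐ[K] Ω) (x : SGA7.Pts Ω A) :
    jm A (SGA7.galAct σ x) = SGA7.galAct (ext σ) (jm A x) := by
  change spMap (IsScalarTower.toAlgHom K Ω (AlgebraicClosure Ω)) ≫ spMap (σ : Ω →ₐ[K] Ω) ≫ x =
    spMap (ext σ : AlgebraicClosure Ω →ₐ[K] AlgebraicClosure Ω) ≫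
      spMap (IsScalarTower.toAlgHom K Ω (AlgebraicClosure Ω)) ≫ x
  rw [← Category.assoc, ← Category.assoc, spMap_comp, spMap_comp]
  congr 2
  refine AlgHom.ext fun y => ?_
  exact (ext_apply σ y).symm

variable [IsProper A.hom] [GeometricallyIntegral A.hom]

theorem card_tors (Ω : Type u) [Field Ω] [Algebra K Ω] [IsSepClosed Ω] (g : ℕ)
    (hg : topologicalKrullDim A.left = g) (n : ℕ) (hn : (n : K) ≠ 0) :
    Nat.card {x : SGA7.Pts Ω A // x ^ n = 1} = n ^ (2 * g) := by
  have hn' : (n : Ω) ≠ 0 := by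
    intro h0
    apply hn
    apply (algebraMap K Ω).injective
    rw [map_natCast, h0, map_zero]
  have hg' : topologicalKrullDim (bc Ω A).left = g := (dim_bc Ω A).trans hg
  rw [← card_torsion g hg' n hn']
  refine Nat.card_congr (Equiv.subtypeEquiv (ptE Ω).symm.toEquiv fun x => ?_)
  change x ^ n = 1 ↔ ((ptE Ω).symm x) ^ n = 1
  rw [← map_pow, MulEquiv.map_eq_one_iff]

theorem jm_surj [IsSepClosed Ω] {n : ℕ} (hn : (n : K) ≠ 0)
    (y : SGA7.Pts (AlgebraicClosure Ω) A) (hy : y ^ n = 1) : ∃ x : SGA7.Pts Ω A, x ^ n = 1 ∧ jm A x = y := by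
  obtain ⟨g, hg⟩ := Groth.Agent.Sga7.H742.P1Dim.exists_dim A
  let f : {x : SGA7.Pts Ω A // x ^ n = 1} → {x : SGA7.Pts (AlgebraicClosure Ω) A // x ^ n = 1} :=
    fun x => ⟨jm A x.1, by rw [← map_pow, x.2, map_one]⟩
  have hf : Function.Injective f := fun a b hab => Subtype.ext (jm_injective A (congrArg Subtype.val hab))
  have h1 := card_tors A Ω g hg n hn
  have h2 := card_tors A (AlgebraicClosure Ω) g hg n hn
  have hn0 : 0 < n := Nat.pos_of_ne_zero (by rintro rfl; exact hn Nat.cast_zero)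
  have hpos : 0 < n ^ (2 * g) := pow_pos hn0 _
  have : Finite {x : SGA7.Pts (AlgebraicClosure Ω) A // x ^ n = 1} :=
    Nat.finite_of_card_ne_zero (by rw [h2]; exact hpos.ne')
  have : Finite {x : SGA7.Pts Ω A // x ^ n = 1} := Finite.of_injective f hf
  have hb : Function.Bijective f := (Nat.bijective_iff_injective_and_card f).2 ⟨hf, by rw [h1, h2]⟩
  obtain ⟨x, hx⟩ := hb.2 ⟨y, hy⟩
  exact ⟨x.1, x.2, congrArg Subtype.val hx⟩

/-- finiteness of `K(L)` -/
theorem finite_KL (Ω : Type u) [Field Ω] [Algebra K Ω] (M : A.left.Modules) (hM : CohB1.IsAmple M) :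
    (KL (LΩ Ω (mk M hM.1)) : Set (Pt (bc Ω A))).Finite := by
  have hMΩ : CohB1.IsAmple ((Scheme.Modules.pullback (pr Ω A)).obj M) := by
    have : IsAffineHom (pr Ω A) := MorphismProperty.IsStableUnderBaseChange.of_isPullback (P := @IsAffineHom)
      (isPullback_pr Ω A).flip (inferInstanceAs (IsAffineHom (Spec.map _)))
    exact Groth.Agent.Sga5.AmpleFib.isAmple_pullback _ hM
  have hfin := Groth.Agent.Sga7.H270.FinStab.finite_stab Ω (bc Ω A) _ hMΩ
  refine hfin.subset fun w hw => ?_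
  have h1 : pl (t w) (LΩ Ω (mk M hM.1)) = LΩ Ω (mk M hM.1) := mem_KL.mp hw
  have h2 : (Groth.Agent.Sga7.H730.Tr.tr w : bc Ω A ⟶ bc Ω A) = t w := by
    rw [t]
    change (toUnit _ ≫ w) * 𝟙 _ = _
    exact mul_comm _ _
  change Nonempty _
  rw [h2]
  exact (mk_eq_iff _ _).mp h1

section form

variable [IsCommMonObj A]

variable (Ω) in
/-- the `l`-torsion -/
abbrev TT (l : ℕ) : Subgroup (SGA7.Pts Ω A) := (powMonoidHom l : SGA7.Pts Ω A →* SGA7.Pts Ω A).ker

omit [IsProper A.hom] [GeometricallyIntegral A.hom] in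
theorem nsmul_TT (l : ℕ) (x : Additive (TT Ω A l)) : l • x = 0 := by
  apply Additive.toMul.injective
  exact Subtype.ext x.toMul.2

variable (Ω) in
/-- the module structure -/
@[instance_reducible]
def modTT (l : ℕ) : Module (ZMod l) (Additive (TT Ω A l)) := AddCommGroup.zmodModule (nsmul_TT A l)

variable (Ω) in
/-- the action on the torsion points -/
def act (l : ℕ) : letI := modTT Ω A l
    (Ω ≃ₐ[K] Ω) →* (Additive (TT Ω A l) ≃ₗ[ZMod l] Additive (TT Ω A l)) :=
  letI := modTT Ω A l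
  have hker : ∀ (σ : Ω ≃ₐ[K] Ω) (x : TT Ω A l), (SGA7.galAct σ (x : SGA7.Pts Ω A)) ^ l = 1 := fun σ x => by
    rw [← galAct_pow, show (x : SGA7.Pts Ω A) ^ l = 1 from x.2]
    exact MonObj.comp_one _
  let f : (Ω ≃ₐ[K] Ω) → (Additive (TT Ω A l) →+ Additive (TT Ω A l)) := fun σ =>
    { toFun := fun x => Additive.ofMul ⟨SGA7.galAct σ (x.toMul : SGA7.Pts Ω A), hker σ x.toMul⟩
      map_zero' := Additive.toMul.injective (Subtype.ext (MonObj.comp_one _))
      map_add' := fun x y => Additive.toMul.injective (Subtype.ext (MonObj.comp_mul _ _ _)) }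
  have hf : ∀ σ τ x, f (σ * τ) x = f σ (f τ x) := fun σ τ x =>
    Additive.toMul.injective (Subtype.ext (Groth.Agent.Sga7.H753.WildFix.galAct_mul σ τ _))
  have hf1 : ∀ x, f 1 x = x := fun x =>
    Additive.toMul.injective (Subtype.ext (Groth.Agent.Sga7.H753.WildFix.galAct_one _))
  { toFun := fun σ =>
      { (f σ).toZModLinearMap l with
        invFun := fun x => f σ⁻¹ x
        left_inv := fun x => by
          change f σ⁻¹ (f σ x) = x
          rw [← hf, inv_mul_cancel, hf1]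
        right_inv := fun x => by
          change f σ (f σ⁻¹ x) = x
          rw [← hf, mul_inv_cancel, hf1] }
    map_one' := LinearEquiv.ext hf1
    map_mul' := fun σ τ => LinearEquiv.ext (hf σ τ) }


theorem act_apply (l : ℕ) (σ : Ω ≃ₐ[K] Ω) (x : Additive (TT Ω A l)) :
    letI := modTT Ω A l
    (((act Ω A l σ x : Additive (TT Ω A l)).toMul : TT Ω A l) : SGA7.Pts Ω A) =
      SGA7.galAct σ ((x.toMul : TT Ω A l) : SGA7.Pts Ω A) := rfl

section one

variable {l : ℕ} {ζ : (AlgebraicClosure Ω)ˣ} (L : Pic A.left)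

theorem eN_mem [NeZero l] (hζ : IsPrimitiveRoot ζ l) (x y : TT Ω A l) :
    eN (AlgebraicClosure Ω) L l (jm A (x : SGA7.Pts Ω A)) (jm A (y : SGA7.Pts Ω A)) ∈ Subgroup.zpowers ζ := by
  rw [hζ.zpowers_eq, mem_rootsOfUnity]
  have hx : jm A (x : SGA7.Pts Ω A) ^ l = 1 := by
    rw [← map_pow, show (x : SGA7.Pts Ω A) ^ l = 1 from x.2, map_one]
  have hy : jm A (y : SGA7.Pts Ω A) ^ l = 1 := by
    rw [← map_pow, show (y : SGA7.Pts Ω A) ^ l = 1 from y.2, map_one]
  exact eN_pow hx hy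

/-- the form with values in the group generated by a root of unity -/
def ev [NeZero l] (hζ : IsPrimitiveRoot ζ l) (x y : Additive (TT Ω A l)) : Additive (Subgroup.zpowers ζ) :=
  Additive.ofMul ⟨eN (AlgebraicClosure Ω) L l (jm A (y.toMul : SGA7.Pts Ω A)) (jm A (x.toMul : SGA7.Pts Ω A)),
    eN_mem A L hζ y.toMul x.toMul⟩

theorem jm_pow (x : Additive (TT Ω A l)) : jm A ((x.toMul : TT Ω A l) : SGA7.Pts Ω A) ^ l = 1 := by
  rw [← map_pow, show ((x.toMul : TT Ω A l) : SGA7.Pts Ω A) ^ l = 1 from x.toMul.2, map_one]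

/-- the form -/
def formAdd [NeZero l] (hζ : IsPrimitiveRoot ζ l) :
    Additive (TT Ω A l) →+ Additive (TT Ω A l) →+ ZMod l :=
  AddMonoidHom.mk' (fun x => AddMonoidHom.mk' (fun y => hζ.zmodEquivZPowers.symm (ev A L hζ x y)) (fun y y' => by
    rw [← map_add]
    congr 1
    apply Additive.toMul.injective
    apply Subtype.ext
    change eN (AlgebraicClosure Ω) L l (jm A ((y.toMul : SGA7.Pts Ω A) * (y'.toMul : SGA7.Pts Ω A))) _ = _
    rw [map_mul]
    exact eN_mul_left (jm_pow A y) (jm_pow A y') (jm_pow A x))) (fun x x' => by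
    ext y
    change hζ.zmodEquivZPowers.symm (ev A L hζ (x + x') y) =
      hζ.zmodEquivZPowers.symm (ev A L hζ x y) + hζ.zmodEquivZPowers.symm (ev A L hζ x' y)
    rw [← map_add]
    congr 1
    apply Additive.toMul.injective
    apply Subtype.ext
    change eN (AlgebraicClosure Ω) L l _ (jm A ((x.toMul : SGA7.Pts Ω A) * (x'.toMul : SGA7.Pts Ω A))) = _
    rw [map_mul]
    exact eN_mul_right (jm_pow A y) (jm_pow A x) (jm_pow A x'))

theorem formAdd_apply [NeZero l] (hζ : IsPrimitiveRoot ζ l) (x y : Additive (TT Ω A l)) :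
    formAdd A L hζ x y = hζ.zmodEquivZPowers.symm (ev A L hζ x y) := rfl

theorem formAdd_self [NeZero l] (hζ : IsPrimitiveRoot ζ l) (x : Additive (TT Ω A l)) :
    formAdd A L hζ x x = 0 := by
  rw [formAdd_apply]
  have h1 : ev A L hζ x x = 0 := by
    apply Additive.toMul.injective
    apply Subtype.ext
    exact eN_self (jm_pow A x)
  rw [h1, map_zero]

theorem formAdd_act [NeZero l] (hζ : IsPrimitiveRoot ζ l)
    (hζK : (ζ : AlgebraicClosure Ω) ∈ Set.range (algebraMap K (AlgebraicClosure Ω)))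
    (σ : Ω ≃ₐ[K] Ω) (x y x' y' : Additive (TT Ω A l))
    (hx : ((x'.toMul : TT Ω A l) : SGA7.Pts Ω A) = SGA7.galAct σ ((x.toMul : TT Ω A l) : SGA7.Pts Ω A))
    (hy : ((y'.toMul : TT Ω A l) : SGA7.Pts Ω A) = SGA7.galAct σ ((y.toMul : TT Ω A l) : SGA7.Pts Ω A)) :
    formAdd A L hζ x' y' = formAdd A L hζ x y := by
  rw [formAdd_apply, formAdd_apply]
  congr 1
  apply Additive.toMul.injective
  apply Subtype.ext
  change eN (AlgebraicClosure Ω) L l (jm A (y'.toMul : SGA7.Pts Ω A)) (jm A (x'.toMul : SGA7.Pts Ω A)) =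
    eN (AlgebraicClosure Ω) L l (jm A (y.toMul : SGA7.Pts Ω A)) (jm A (x.toMul : SGA7.Pts Ω A))
  rw [hx, hy, jm_galAct, jm_galAct, eN_gal (SympTors.ext σ) (jm_pow A y) (jm_pow A x)]
  obtain ⟨i, hi⟩ := eN_mem A L hζ y.toMul x.toMul
  obtain ⟨z, hz⟩ := hζK
  beta_reduce at hi
  rw [← hi, map_zpow]
  congr 1
  apply Units.ext
  rw [← hz]
  change (SympTors.ext σ) (ζ : AlgebraicClosure Ω) = _
  rw [← hz, AlgEquiv.commutes]

end one

/-- **The main statement of the file.** -/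
theorem index_dvd [IsSepClosed Ω] (g : ℕ) (hg : topologicalKrullDim A.left = g) :
    ∃ C : ℕ, ∀ l : ℕ, l.Prime → C < l → (l : K) ≠ 0 →
      (∀ z : AlgebraicClosure Ω, z ^ l = 1 → z ∈ Set.range (algebraMap K (AlgebraicClosure Ω))) →
      ∀ Γ : Subgroup (Ω ≃ₐ[K] Ω),
        (∀ σ : Ω ≃ₐ[K] Ω, (∀ x : SGA7.Pts Ω A, x ^ l = 1 → SGA7.galAct σ x = x) → σ ∈ Γ) →
        Γ.index ∣ SympCount.num l g := by
  obtain ⟨M, hM, hsym⟩ := Groth.Agent.Grpsch.MulFin.exists_symm_ample A
  have hfin := (finite_KL A (AlgebraicClosure Ω) M hM).to_subtype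
  refine ⟨Nat.card (KL (LΩ (AlgebraicClosure Ω) (mk M hM.1))), fun l hl hC hlK hμ Γ hΓ => ?_⟩
  have : Fact l.Prime := ⟨hl⟩
  have hlb : (l : AlgebraicClosure Ω) ≠ 0 := by
    intro h0
    apply hlK
    apply (algebraMap K (AlgebraicClosure Ω)).injective
    rw [map_natCast, h0, map_zero]
  have : NeZero (l : AlgebraicClosure Ω) := ⟨hlb⟩
  obtain ⟨z, hz⟩ := HasEnoughRootsOfUnity.exists_primitiveRoot (AlgebraicClosure Ω) l
  have hz0 : z ≠ 0 := hz.ne_zero hl.ne_zero
  let ζ : (AlgebraicClosure Ω)ˣ := Units.mk0 z hz0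
  have hζ : IsPrimitiveRoot ζ l := IsPrimitiveRoot.coe_units_iff.1 hz
  have hζK : (ζ : AlgebraicClosure Ω) ∈ Set.range (algebraMap K (AlgebraicClosure Ω)) := hμ z hz.pow_eq_one
  let _ := modTT Ω A l
  have hcard : Nat.card (Additive (TT Ω A l)) = l ^ (2 * g) := card_tors A Ω g hg l hlK
  have hfinT : Finite (Additive (TT Ω A l)) :=
    Nat.finite_of_card_ne_zero (by rw [hcard]; exact (pow_pos hl.pos _).ne')
  let B : Additive (TT Ω A l) →ₗ[ZMod l] Additive (TT Ω A l) →ₗ[ZMod l] ZMod l :=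
    (((AddMonoidHom.toZModLinearMapEquiv l : (Additive (TT Ω A l) →+ ZMod l) ≃+ _).toAddMonoidHom).comp
      (formAdd A (mk M hM.1) hζ)).toZModLinearMap l
  have hB : ∀ x y, B x y = formAdd A (mk M hM.1) hζ x y := fun _ _ => rfl
  have hker : (act Ω A l).ker ≤ Γ := by
    intro σ hσ
    refine hΓ σ fun x hx => ?_
    have h1 := DFunLike.congr_fun (MonoidHom.mem_ker.1 hσ) (Additive.ofMul (⟨x, hx⟩ : TT Ω A l))
    exact congrArg (fun y : Additive (TT Ω A l) => ((y.toMul : TT Ω A l) : SGA7.Pts Ω A)) h1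
  refine (Subgroup.index_dvd_of_le hker).trans ?_
  rw [Subgroup.index_ker]
  have hfinE : Finite (Additive (TT Ω A l) ≃ₗ[ZMod l] Additive (TT Ω A l)) :=
    Finite.of_injective (fun e => (e : Additive (TT Ω A l) → Additive (TT Ω A l))) DFunLike.coe_injective
  have key := SympCount.main (F := ZMod l) g (Additive (TT Ω A l)) B
    (fun x => by rw [hB]; exact formAdd_self A _ hζ x) ?_
    (by rw [hcard, Nat.card_zmod]) (act Ω A l).range ((act Ω A l).range.subtype) Subtype.val_injective ?_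
  · rwa [Nat.card_zmod] at key
  · intro x hx
    have h1 : (ptE (AlgebraicClosure Ω)).symm (jm A ((x.toMul : TT Ω A l) : SGA7.Pts Ω A)) ∈
        KL (LΩ (AlgebraicClosure Ω) (mk M hM.1)) := by
      refine mem_KL_of_eN hsym l hlb (jm_pow A x) fun y hy => ?_
      obtain ⟨y', hy', rfl⟩ := jm_surj A (n := l) hlK y hy
      have h2 := hx (Additive.ofMul (⟨y', hy'⟩ : TT Ω A l))
      rw [hB, formAdd_apply, map_eq_zero_iff _ hζ.zmodEquivZPowers.symm.injective] at h2
      exact congrArg (fun w : Additive (Subgroup.zpowers ζ) => ((w.toMul : Subgroup.zpowers ζ) :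
        (AlgebraicClosure Ω)ˣ)) h2
    have h2 : (⟨_, h1⟩ : KL (LΩ (AlgebraicClosure Ω) (mk M hM.1))) ^
        Nat.card (KL (LΩ (AlgebraicClosure Ω) (mk M hM.1))) = 1 := pow_card_eq_one'
    have h3 := congrArg Subtype.val h2
    change (ptE (AlgebraicClosure Ω)).symm (jm A ((x.toMul : TT Ω A l) : SGA7.Pts Ω A)) ^
        Nat.card (KL (LΩ (AlgebraicClosure Ω) (mk M hM.1))) = 1 at h3
    rw [← map_pow, MulEquiv.map_eq_one_iff, ← map_pow] at h3
    have h4 : ((x.toMul : TT Ω A l) : SGA7.Pts Ω A) ^ Nat.card (KL (LΩ (AlgebraicClosure Ω) (mk M hM.1))) = 1 :=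
      jm_injective A (h3.trans (map_one _).symm)
    have h5 : ((x.toMul : TT Ω A l) : SGA7.Pts Ω A) ^ l = 1 := x.toMul.2
    have h6 : Nat.Coprime (Nat.card (KL (LΩ (AlgebraicClosure Ω) (mk M hM.1)))) l :=
      (Nat.coprime_of_lt_prime Nat.card_pos.ne' hC hl).symm
    have h7 : orderOf ((x.toMul : TT Ω A l) : SGA7.Pts Ω A) = 1 :=
      Nat.dvd_one.1 (h6 ▸ Nat.dvd_gcd (orderOf_dvd_of_pow_eq_one h4) (orderOf_dvd_of_pow_eq_one h5))
    rw [orderOf_eq_one_iff] at h7
    exact Additive.toMul.injective (Subtype.ext h7)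
  · rintro ⟨_, σ, rfl⟩ x y
    rw [hB, hB]
    exact formAdd_act A _ hζ hζK σ x y _ _ (act_apply A l σ x) (act_apply A l σ y)

end form

end K567.SympTors
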