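import Groth.Agent.SGA7.K567.CMTate
import Groth.Agent.SGA7.K567.SympTors
import Groth.Agent.SGA7.K566.TateFacts
import Groth.Agent.AbVar.K520.HomFg
import Groth.Agent.AbVar.K515.TateRank
import Groth.Agent.AbVar.K521.BcTate
import Mathlib.FieldTheory.PrimitiveElement

/-!
# Unipotent Galois elements on abelian varieties with complex multiplication act trivially

`A` an abelian variety of dimension `g` over `K`, `E` a subfield of `End⁰(A)` of degree `2g`: an element `σ` of
`Aut_K(Ω)` acting unipotently on the `l`-power torsion acts trivially on it.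
-/

set_option autoImplicit false
universe u

open CategoryTheory Limits MonoidalCategory CartesianMonoidalCategory AlgebraicGeometry Polynomial Module
open scoped MonObj TensorProduct

namespace K567.CMUnip

open K520.DegDvd K515.TateRank

section bc

variable {S S' : Scheme.{u}} (f : S' ⟶ S) (A : Over S) [GrpObj A] [IsCommMonObj A]
  [IsCommMonObj ((Over.pullback f).obj A)]

/-- Base change of endomorphisms. -/
noncomputable def bcEnd : EndAV.End A →+* EndAV.End ((Over.pullback f).obj A) where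
  toFun φ := EndAV.End.of ((Over.pullback f).map φ.toHom)
  map_one' := EndAV.End.ext ((Over.pullback f).map_id A)
  map_mul' φ ψ := EndAV.End.ext ((Over.pullback f).map_comp ψ.toHom φ.toHom)
  map_zero' := EndAV.Hom.ext (Functor.map_one (Over.pullback f) (X := A) (M := A))
  map_add' φ ψ := EndAV.Hom.ext (K520.HomFg.map_mul f φ.toHom ψ.toHom)

theorem bcEnd_toHom (φ : EndAV.End A) : (bcEnd f A φ).toHom = (Over.pullback f).map φ.toHom := rfl

end bc

section end0

variable {k : Type u} [Field k] {A : Over (Spec (CommRingCat.of k))} [GrpObj A] [IsCommMonObj A]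
  {k' : Type u} [Field k'] {B : Over (Spec (CommRingCat.of k'))} [GrpObj B] [IsCommMonObj B]

/-- A ring homomorphism of endomorphism rings extends to the rational endomorphism algebras. -/
noncomputable def end0Map (θ : EndAV.End A →+* EndAV.End B) : EndAV.End0 A →ₐ[ℚ] EndAV.End0 B :=
  (extend k A (algebraMap ℚ (EndAV.End0 B)) (fun q c => Algebra.commutes q c)
    ((EndAV.toEnd0 (A := B)).toRingHom.comp θ)).toRatAlgHom

theorem end0Map_toEnd0 (θ : EndAV.End A →+* EndAV.End B) (φ : EndAV.End A) :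
    end0Map θ (EndAV.toEnd0 φ) = EndAV.toEnd0 (θ φ) :=
  extend_toEnd0 k A (algebraMap ℚ (EndAV.End0 B)) (fun q c => Algebra.commutes q c)
    ((EndAV.toEnd0 (A := B)).toRingHom.comp θ) φ

theorem aeval_end0Map (θ : EndAV.End A →+* EndAV.End B) (φ : EndAV.End A) (f : ℚ[X]) :
    aeval (EndAV.toEnd0 (θ φ)) f = end0Map θ (aeval (EndAV.toEnd0 φ) f) := by
  rw [← end0Map_toEnd0, Polynomial.aeval_algHom_apply]

/-- A field in `End⁰(A)` is generated by an endomorphism. -/
theorem exists_gen (E : Subalgebra ℚ (EndAV.End0 A)) (hE : IsField ↥E) (hEfin : Module.Finite ℚ ↥E) :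
    ∃ (φ : EndAV.End A) (f : ℚ[X]), EndAV.toEnd0 φ ∈ E ∧ Irreducible f ∧ f.natDegree = Module.finrank ℚ ↥E ∧
      aeval (EndAV.toEnd0 φ) f = 0 ∧ ∀ y ∈ E, ∃ p : ℚ[X], aeval (EndAV.toEnd0 φ) p = y := by
  let _ : Field E := hE.toField
  obtain ⟨α, hα⟩ := Field.exists_primitive_element ℚ E
  obtain ⟨n, φ, hn, hφ⟩ := exists_nsmul_eq (M := EndAV.End A) (α : EndAV.End0 A)
  have hβ : ((n • α : E) : EndAV.End0 A) = EndAV.toEnd0 φ := hφ
  have hint : IsIntegral ℚ (n • α) := Algebra.IsIntegral.isIntegral _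
  have htop : IntermediateField.adjoin ℚ {n • α} = ⊤ := by
    rw [eq_top_iff, ← hα, IntermediateField.adjoin_simple_le_iff]
    have h1 : α = ((n : ℚ)⁻¹) • (n • α) := by
      rw [← Nat.cast_smul_eq_nsmul ℚ, smul_smul, inv_mul_cancel₀ (Nat.cast_ne_zero.2 hn), one_smul]
    have h2 : ((n : ℚ)⁻¹) • (n • α) ∈ IntermediateField.adjoin ℚ {n • α} :=
      (IntermediateField.adjoin ℚ {n • α}).smul_mem (IntermediateField.mem_adjoin_simple_self ℚ _)
    rwa [← h1] at h2
  refine ⟨φ, minpoly ℚ (n • α), ?_, minpoly.irreducible hint, ?_, ?_, ?_⟩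
  · rw [← hβ]
    exact (n • α).2
  · exact (Field.primitive_element_iff_minpoly_natDegree_eq ℚ (n • α)).1 htop
  · rw [← hβ]
    have h1 := Polynomial.aeval_algHom_apply E.val (n • α) (minpoly ℚ (n • α))
    rw [minpoly.aeval, map_zero] at h1
    exact h1
  · intro y hy
    have h1 : (⟨y, hy⟩ : E) ∈ Algebra.adjoin ℚ {n • α} := by
      have h2 : (⟨y, hy⟩ : E) ∈ IntermediateField.adjoin ℚ {n • α} := by rw [htop]; trivial
      rw [← IntermediateField.mem_toSubalgebra,
        IntermediateField.adjoin_simple_toSubalgebra_of_isAlgebraic hint.isAlgebraic] at h2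
      exact h2
    rw [Algebra.adjoin_singleton_eq_range_aeval] at h1
    obtain ⟨p, hp⟩ := h1
    refine ⟨p, ?_⟩
    rw [← hβ]
    have h3 := Polynomial.aeval_algHom_apply E.val (n • α) p
    have h4 : aeval (n • α) p = (⟨y, hy⟩ : E) := hp
    rw [h4] at h3
    exact h3

end end0

section tate

theorem eq_zero_of_conj {R M M' : Type*} [CommRing R] [AddCommGroup M] [Module R M] [AddCommGroup M'] [Module R M']
    (e : M ≃ₗ[R] M') (a u : Module.End R M) (a' : Module.End R M') (ha : ∀ x, e (a x) = a' (e x))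
    (hu : Commute a u) (hn : IsNilpotent u)
    (H : ∀ u' : Module.End R M', Commute a' u' → IsNilpotent u' → u' = 0) : u = 0 := by
  have h1 : e.conjRingEquiv a = a' := by
    refine LinearMap.ext fun y => ?_
    obtain ⟨x, rfl⟩ := e.surjective y
    rw [LinearEquiv.conjRingEquiv_apply_apply, LinearEquiv.symm_apply_apply, ha]
  have h2 := H (e.conjRingEquiv u) (by rw [← h1]; exact hu.map _) (hn.map _)
  exact (map_eq_zero_iff _ e.conjRingEquiv.injective).1 h2

variable {S S' : Scheme.{u}} {A : Over S} [GrpObj A] [IsCommMonObj A] {B : Over S'} [GrpObj B] [IsCommMonObj B]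
  {T : Over S} {T' : Over S'} (l : ℕ) [Fact l.Prime]

theorem tateHom_bijective (e : (T ⟶ A) →* (T' ⟶ B)) (he : Function.Injective e)
    (hs : ∀ (n : ℕ) (y : T' ⟶ B), y ^ (l ^ n) = 1 → ∃ x, e x = y) :
    Function.Bijective (K521.BcTate.tateHom l e) := by
  constructor
  · intro x y h
    refine AbDual.TateMod.ext fun n => ?_
    have h1 := congrArg (fun z : AbDual.TateMod B l T' => (z : ℕ → Additive (T' ⟶ B)) n) h
    exact congrArg Additive.ofMul (he (congrArg Additive.toMul h1))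
  · intro y
    have h1 : ∀ n : ℕ, ∃ x, e x = ((y : ℕ → Additive (T' ⟶ B)) n).toMul := fun n =>
      hs n _ (congrArg Additive.toMul (y.torsion n))
    choose x hx using h1
    refine ⟨⟨fun n => Additive.ofMul (x n), fun n => ?_, fun n => ?_⟩, ?_⟩
    · apply Additive.toMul.injective
      apply he
      change e (x n ^ (l ^ n)) = e 1
      rw [map_pow, hx, map_one]
      exact congrArg Additive.toMul (y.torsion n)
    · apply Additive.toMul.injective
      apply he
      change e (x (n + 1) ^ l) = e (x n)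
      rw [map_pow, hx, hx]
      exact congrArg Additive.toMul (y.compat n)
    · refine AbDual.TateMod.ext fun n => ?_
      exact congrArg Additive.ofMul (hx n)

end tate

section main

variable {K : Type u} [Field K] (Ω' : Type u) [Field Ω'] [Algebra K Ω']
  (A : Over (Spec (CommRingCat.of K))) [GrpObj A] [IsCommMonObj A] [IsProper A.hom] [GeometricallyIntegral A.hom]

variable (K) in
/-- the structure morphism of `Ω'` -/
noncomputable abbrev fb : Spec (CommRingCat.of Ω') ⟶ Spec (CommRingCat.of K) :=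
  Spec.map (CommRingCat.ofHom (algebraMap K Ω'))

/-- The base change of `A`. -/
noncomputable abbrev Ab : Over (Spec (CommRingCat.of Ω')) := (Over.pullback (fb K Ω')).obj A

omit [GrpObj A] [IsCommMonObj A] [GeometricallyIntegral A.hom] in
theorem isProper_Ab : IsProper (Ab Ω' A).hom := by
  change IsProper (pullback.snd A.hom (fb K Ω')); infer_instance

omit [GrpObj A] [IsCommMonObj A] [IsProper A.hom] in
theorem geometricallyIntegral_Ab : GeometricallyIntegral (Ab Ω' A).hom := by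
  change GeometricallyIntegral (pullback.snd A.hom (fb K Ω')); infer_instance

omit [GrpObj A] [IsCommMonObj A] [GeometricallyIntegral A.hom] in
theorem dim_Ab {g : ℕ} (hg : topologicalKrullDim A.left = g) : topologicalKrullDim (Ab Ω' A).left = g := by
  rw [← hg]
  exact Groth.Agent.Sga3B.DimFib.topologicalKrullDim_baseChange_eq (Field.toIsField K)
    (Field.toIsField Ω') A.hom (fb K Ω')
    (pullback.fst A.hom (fb K Ω')) (pullback.snd A.hom (fb K Ω')) (IsPullback.of_hasPullback _ _)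

variable {Ω : Type u} [Field Ω] [Algebra K Ω] (j : SGA7.Pts Ω A →* SGA7.Pts Ω' A)
  (hj : Function.Injective j) (hjs : ∀ (n : ℕ), (n : K) ≠ 0 → ∀ y : SGA7.Pts Ω' A, y ^ n = 1 → ∃ x, j x = y)
  (hjc : ∀ (x : SGA7.Pts Ω A) (φ : A ⟶ A), j (x ≫ φ) = j x ≫ φ)

/-- points of `A` as points of the base change. -/
noncomputable def ptb : SGA7.Pts Ω A →* (Over.mk (𝟙 (Spec (CommRingCat.of Ω'))) ⟶ Ab Ω' A) :=
  (K521.BcTate.ptsEquiv (fb K Ω') A).toMonoidHom.comp j

omit [IsCommMonObj A] [IsProper A.hom] [GeometricallyIntegral A.hom] in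
include hj in
theorem ptb_injective : Function.Injective (ptb Ω' A j) :=
  (K521.BcTate.ptsEquiv (fb K Ω') A).injective.comp hj

omit [IsCommMonObj A] [IsProper A.hom] [GeometricallyIntegral A.hom] in
include hjc in
theorem ptb_comp (x : SGA7.Pts Ω A) (φ : A ⟶ A) :
    ptb Ω' A j (x ≫ φ) = ptb Ω' A j x ≫ (Over.pullback (fb K Ω')).map φ := by
  have h1 : ptb Ω' A j (x ≫ φ) = K521.BcTate.toPt (fb K Ω') A (j (x ≫ φ)) := rfl
  rw [h1, hjc]
  exact K521.BcTate.toPt_comp (fb K Ω') A (j x) φ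

include hjs in
theorem ptb_surjective {n : ℕ} (hn : (n : K) ≠ 0)
    (y : Over.mk (𝟙 (Spec (CommRingCat.of Ω'))) ⟶ Ab Ω' A) (hy : y ^ n = 1) :
    ∃ x, ptb Ω' A j x = y := by
  obtain ⟨z, rfl⟩ := (K521.BcTate.ptsEquiv (fb K Ω') A).surjective y
  rw [← map_pow, MulEquiv.map_eq_one_iff] at hy
  obtain ⟨x, rfl⟩ := hjs n hn z hy
  exact ⟨x, rfl⟩

variable (l : ℕ) [hlp : Fact l.Prime]

include hj hjs hjc in
/-- Endomorphisms of the Tate module which are nilpotent and commute with the field `E` vanish. -/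
theorem eq_zero_of_isNilpotent' [IsAlgClosed Ω'] (hl : (l : K) ≠ 0) {g : ℕ} (hg : topologicalKrullDim A.left = g)
    (hg0 : g ≠ 0) {φ : EndAV.End A} {f : ℚ[X]} (hf : Irreducible f) (hfd : f.natDegree = 2 * g)
    (hφ : aeval (EndAV.toEnd0 φ) f = 0) (u : Module.End ℤ_[l] (AbDual.TateMod A l (SGA7.pt Ω)))
    (hu : Commute (EndAV.End.tateRep l (SGA7.pt Ω) φ) u) (hn : IsNilpotent u) : u = 0 := by
  have i1 := isProper_Ab Ω' A
  have i2 := geometricallyIntegral_Ab Ω' A
  have i3 : IsCommMonObj (Ab Ω' A) := isCommMonObj_of_isProper_of_geometricallyIntegral (Ab Ω' A)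
  let e : AbDual.TateMod A l (SGA7.pt Ω) ≃ₗ[ℤ_[l]]
      AbDual.TateMod (Ab Ω' A) l (Over.mk (𝟙 (Spec (CommRingCat.of Ω')))) :=
    LinearEquiv.ofBijective (K521.BcTate.tateHom l (ptb Ω' A j)) (tateHom_bijective l _ (ptb_injective Ω' A j hj)
      (fun n y hy => ptb_surjective Ω' A j hjs (by rw [Nat.cast_pow]; exact pow_ne_zero _ hl) y hy))
  have he : ∀ x, e (EndAV.End.tateRep l (SGA7.pt Ω) φ x) =
      EndAV.End.tateRep l _ (bcEnd (fb K Ω') A φ) (e x) := fun x =>
    AbDual.TateMod.ext fun n => congrArg Additive.ofMul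
      (ptb_comp Ω' A j hjc ((x : ℕ → Additive (SGA7.pt Ω ⟶ A)) n).toMul φ.toHom)
  have hl' : (l : Ω') ≠ 0 := by
    rw [← map_natCast (algebraMap K Ω'), Ne, map_eq_zero]; exact hl
  have h1 : aeval (EndAV.toEnd0 (bcEnd (fb K Ω') A φ)) f = 0 := by
    rw [aeval_end0Map, hφ, map_zero]
  exact eq_zero_of_conj e _ u _ he hu hn
    (fun u' h2 h3 => CMTate.eq_zero_of_isNilpotent (dim_Ab Ω' A hg) hg0 hf hfd h1 hl' u' h2 h3)

omit [IsCommMonObj A] [IsProper A.hom] [GeometricallyIntegral A.hom] in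
theorem jm_comp (x : SGA7.Pts Ω A) (φ : A ⟶ A) :
    SympTors.jm A (x ≫ φ) = SympTors.jm A x ≫ φ := by
  change Groth.Agent.Sga67.TorsionLift.spMap (IsScalarTower.toAlgHom K Ω (AlgebraicClosure Ω)) ≫ (x ≫ φ) =
    (Groth.Agent.Sga67.TorsionLift.spMap (IsScalarTower.toAlgHom K Ω (AlgebraicClosure Ω)) ≫ x) ≫ φ
  rw [Category.assoc]

omit [IsProper A.hom] [GeometricallyIntegral A.hom] Ω' in
theorem finrank_ne_zero (E : Subalgebra ℚ (EndAV.End0 A)) (hE : IsField ↥E) (hEfin : Module.Finite ℚ ↥E)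
    {g : ℕ} (hdeg : Module.finrank ℚ ↥E = 2 * g) : g ≠ 0 := by
  let _ : Field E := hE.toField
  have h1 : 0 < Module.finrank ℚ ↥E := Module.finrank_pos
  omega

/-- Endomorphisms of the Tate module which are nilpotent and commute with the field `E` vanish. -/
theorem eq_zero_of_isNilpotent [IsSepClosed Ω] (hl : (l : K) ≠ 0) {g : ℕ} (hg : topologicalKrullDim A.left = g)
    (E : Subalgebra ℚ (EndAV.End0 A)) (hE : IsField ↥E) (hEfin : Module.Finite ℚ ↥E)
    (hdeg : Module.finrank ℚ ↥E = 2 * g) (u : Module.End ℤ_[l] (AbDual.TateMod A l (SGA7.pt Ω)))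
    (hu : ∀ φ : EndAV.End A, Commute (EndAV.End.tateRep l (SGA7.pt Ω) φ) u) (hn : IsNilpotent u) : u = 0 := by
  have hg0 := finrank_ne_zero A E hE hEfin hdeg
  obtain ⟨φ, f, -, hf, hfd, hφ, -⟩ := exists_gen E hE hEfin
  rw [hdeg] at hfd
  exact eq_zero_of_isNilpotent' (AlgebraicClosure Ω) A (SympTors.jm A) (SympTors.jm_injective A)
    (fun n hn y hy => by
      obtain ⟨x, -, hx⟩ := SympTors.jm_surj A hn y hy
      exact ⟨x, hx⟩) (jm_comp A) l hl hg hg0 hf hfd hφ u (hu φ) hn

omit [IsProper A.hom] [GeometricallyIntegral A.hom] in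
theorem galT_sub_one_pow (σ : Ω ≃ₐ[K] Ω) (m : ℕ) (x : AbDual.TateMod A l (SGA7.pt Ω)) (n : ℕ) :
    ((((galT σ A l : Module.End ℤ_[l] (AbDual.TateMod A l (SGA7.pt Ω))) - 1) ^ m) x :
      ℕ → Additive (SGA7.pt Ω ⟶ A)) n =
      Additive.ofMul ((SGA7.dev σ)^[m] ((x : ℕ → Additive (SGA7.pt Ω ⟶ A)) n).toMul) := by
  induction m generalizing x with
  | zero => rfl
  | succ m ih =>
    rw [pow_succ, Module.End.mul_apply, ih, Function.iterate_succ_apply]
    congr 2

/-- **A unipotent element acts trivially.** -/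
theorem galAct_eq [IsSepClosed Ω] (hl : (l : K) ≠ 0) {g : ℕ} (hg : topologicalKrullDim A.left = g)
    (E : Subalgebra ℚ (EndAV.End0 A)) (hE : IsField ↥E) (hEfin : Module.Finite ℚ ↥E)
    (hdeg : Module.finrank ℚ ↥E = 2 * g) (σ : Ω ≃ₐ[K] Ω) (m : ℕ)
    (h : ∀ (ν : ℕ) (x : SGA7.Pts Ω A), x ^ (l ^ ν) = 1 → (SGA7.dev σ)^[m] x = 1)
    (ν : ℕ) (x : SGA7.Pts Ω A) (hx : x ^ (l ^ ν) = 1) : SGA7.galAct σ x = x := by
  let u : Module.End ℤ_[l] (AbDual.TateMod A l (SGA7.pt Ω)) := galT σ A l - 1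
  have h1 : u = 0 := by
    refine eq_zero_of_isNilpotent A l hl hg E hE hEfin hdeg u (fun φ => ?_) ⟨m, LinearMap.ext fun y => ?_⟩
    · refine Commute.sub_right ?_ (Commute.one_right _)
      exact LinearMap.ext fun y => tateMap_galT φ.toHom σ y
    · refine AbDual.TateMod.ext fun n => ?_
      rw [galT_sub_one_pow]
      exact congrArg Additive.ofMul (h n _ (congrArg Additive.toMul (y.torsion n)))
  have h2 : galT σ A l = (1 : Module.End ℤ_[l] (AbDual.TateMod A l (SGA7.pt Ω))) := sub_eq_zero.1 h1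
  obtain ⟨z, hz⟩ := K566.TateFacts.exists_component_eq (l := l) (A := A) (T := SGA7.pt Ω)
    (fun y => Groth.Agent.Sga7.H734.Divis.exists_pow_eq A l hl y) ν x hx
  have h3 := congrArg (fun v : AbDual.TateMod A l (SGA7.pt Ω) =>
    ((v : ℕ → Additive (SGA7.pt Ω ⟶ A)) ν).toMul) (congrArg (fun f => f z) h2)
  rw [← hz]
  exact h3

end main

end K567.CMUnip
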