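import Groth.Agent.Sga7.H753.NerGeo
import Groth.Prelude.Def_EndRing

/-!
# Specialization of points and endomorphisms on a proper Néron model
-/

set_option autoImplicit false
set_option linter.unusedSectionVars false

universe u

open CategoryTheory CategoryTheory.Limits MonoidalCategory CartesianMonoidalCategory AlgebraicGeometry MonObj

namespace K567.NSp

open Groth.Agent.Sga7.H753.NerTwist Groth.Agent.Sga7.H753.BaseExt Groth.Agent.Sga3B.BcPts
open Groth.Agent.Sga7.H753.NerHom Groth.Agent.Sga7.H753.NerPsi Groth.Agent.Sga7.H753.NerPts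
open Groth.Agent.Sga7.H753.NerDict Groth.Agent.Sga7.H753.NerFix Groth.Agent.Sga7.H753.NerGeo
open Groth.Agent.Sga67 Groth.Agent.Sga7.H755

open TorsionLift (spMap spMap_comp)

/-- A morphism of group objects compatible with products is a homomorphism. -/
theorem isMonHom_of_mul {S : Scheme.{u}} {G H : Over S} [GrpObj G] [GrpObj H] (ψ : G ⟶ H)
    (h : (fst G G * snd G G) ≫ ψ = (fst G G ≫ ψ) * (snd G G ≫ ψ)) : IsMonHom ψ := by
  have hmul : ∀ (T : Over S) (x y : T ⟶ G), (x * y) ≫ ψ = (x ≫ ψ) * (y ≫ ψ) := by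
    intro T x y
    have h1 : lift x y ≫ (fst G G * snd G G) ≫ ψ = lift x y ≫ ((fst G G ≫ ψ) * (snd G G ≫ ψ)) := by rw [h]
    rw [← Category.assoc, MonObj.comp_mul, MonObj.comp_mul, lift_fst, lift_snd, ← Category.assoc,
      ← Category.assoc, lift_fst, lift_snd] at h1
    exact h1
  have hone : (1 : 𝟙_ (Over S) ⟶ G) ≫ ψ = 1 := by
    have h1 := hmul (𝟙_ (Over S)) 1 1
    rw [_root_.mul_one] at h1
    exact (left_eq_mul.1 h1)
  refine ⟨?_, ?_⟩
  · have h1 : (1 : 𝟙_ (Over S) ⟶ G) = η[G] := (one_eq_one _).symm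
    rw [← h1]
    exact hone
  · rw [← mul_eq_mul] at h
    rw [h, Hom.mul_def]
    congr 1

section

variable {k K R Ω : Type u} [Field k] [Field K] [Algebra k K] [CommRing R] [Algebra R K]
  [Field Ω] [Algebra k Ω] [Algebra K Ω] [IsScalarTower k K Ω] [Algebra R Ω] [IsScalarTower R K Ω]
  {N : Over (Spec (CommRingCat.of R))} {A : Over (Spec (CommRingCat.of k))}
  [GrpObj N] [GrpObj A] (e : (SGA7.genFib R K).obj N ≅ Red.bc (fKL k K) A) [IsMonHom e.hom]

/-- Endomorphisms of `N` and of `A` on `Ω`-points. -/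
theorem beta_comp {φ : A ⟶ A} {G : N ⟶ N}
    (hG : (SGA7.genFib R K).map G ≫ e.hom = e.hom ≫ (Over.pullback (fKL k K)).map φ)
    (x : spo R Ω ⟶ N) : beta Ω e (x ≫ G) = beta Ω e x ≫ φ := by
  rw [beta_apply, beta_apply]
  have h1 : X (K := K) (x ≫ G) = X (K := K) x ≫ (SGA7.genFib R K).map G := by
    rw [X, X, ← Category.assoc]
    exact bcEquiv_comp (Inert.fRK R K) _ G
  rw [h1, Category.assoc, hG, ← Category.assoc, ptsEquiv_apply, ptsEquiv_apply]
  have h2 : ((Over.mapPullbackAdj (fKL k K)).homEquiv (SGA7.pt Ω) A).symm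
      ((X (K := K) x ≫ e.hom) ≫ (Over.pullback (fKL k K)).map φ) =
      ((Over.mapPullbackAdj (fKL k K)).homEquiv (SGA7.pt Ω) A).symm (X (K := K) x ≫ e.hom) ≫ φ :=
    bcEquiv_symm_comp (fKL k K) (X (K := K) x ≫ e.hom) φ
  rw [h2, Category.assoc]

variable {W : ValuationSubring Ω} [Algebra R W] [IsScalarTower R W Ω]

theorem lift_comp {φ : A ⟶ A} {G : N ⟶ N}
    (hG : (SGA7.genFib R K).map G ≫ e.hom = e.hom ≫ (Over.pullback (fKL k K)).map φ)
    {x : SGA7.Pts (K := k) Ω A} {y : spo R (IsLocalRing.ResidueField W) ⟶ N} (h : Lift W e x y) :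
    Lift W e (x ≫ φ) (y ≫ G) := by
  obtain ⟨w, rfl, rfl⟩ := h
  refine ⟨w ≫ G, ?_, ?_⟩
  · rw [← beta_comp e hG]
    rfl
  · exact (Category.assoc _ _ _).symm

/-- Every point specializes on a proper model. -/
theorem exists_lift_of_proper [IsProper N.hom] (x : SGA7.Pts (K := k) Ω A) :
    ∃ y : spo R (IsLocalRing.ResidueField W) ⟶ N, Lift W e x y := by
  obtain ⟨x0, rfl⟩ := (beta Ω e).surjective x
  have hval : ValuativeCriterion.Existence N.hom := by
    have : UniversallyClosed N.hom := inferInstance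
    exact (UniversallyClosed.eq_valuativeCriterion ▸ this : _).1
  let S : ValuativeCommSq N.hom :=
    { R := W, K := Ω, i₁ := x0.left, i₂ := Spec.map (CommRingCat.ofHom (algebraMap R W))
      commSq := ⟨by
        rw [Over.w x0]
        show Spec.map (CommRingCat.ofHom (algebraMap R Ω)) = _
        rw [← Spec.map_comp, ← CommRingCat.ofHom_comp, ← IsScalarTower.algebraMap_eq]⟩ }
  obtain ⟨⟨l⟩⟩ := hval S
  let w : spo R W ⟶ N := Over.homMk l.l l.fac_right
  exact ⟨red W w, w, by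
    congr 1
    ext1
    exact l.fac_left, rfl⟩

end

section ringhom

theorem map_mul' {S S' : Scheme.{u}} (f : S' ⟶ S) {A B : Over S} [GrpObj B] (φ ψ : A ⟶ B) :
    (Over.pullback f).map (φ * ψ) = (Over.pullback f).map φ * (Over.pullback f).map ψ := by
  exact Functor.map_mul _ _ _

/-- Base change of endomorphisms. -/
noncomputable def bcEnd {S S' : Scheme.{u}} (f : S' ⟶ S) (A : Over S) [GrpObj A] [IsCommMonObj A]
    [IsCommMonObj ((Over.pullback f).obj A)] : EndAV.End A →+* EndAV.End ((Over.pullback f).obj A) where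
  toFun φ := EndAV.End.of ((Over.pullback f).map φ.toHom)
  map_one' := EndAV.End.ext ((Over.pullback f).map_id A)
  map_mul' φ ψ := EndAV.End.ext ((Over.pullback f).map_comp ψ.toHom φ.toHom)
  map_zero' := EndAV.Hom.ext (Functor.map_one (Over.pullback f) (X := A) (M := A))
  map_add' φ ψ := EndAV.Hom.ext (map_mul' f φ.toHom ψ.toHom)

theorem bcEnd_toHom {S S' : Scheme.{u}} (f : S' ⟶ S) (A : Over S) [GrpObj A] [IsCommMonObj A]
    [IsCommMonObj ((Over.pullback f).obj A)] (φ : EndAV.End A) :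
    (bcEnd f A φ).toHom = (Over.pullback f).map φ.toHom := rfl

variable {k K R : Type u} [Field k] [Field K] [Algebra k K] [CommRing R] [Algebra R K]
  {N : Over (Spec (CommRingCat.of R))} {A : Over (Spec (CommRingCat.of k))}
  [GrpObj N] [GrpObj A] [IsCommMonObj N] [IsCommMonObj A] [IsCommMonObj ((SGA7.genFib R K).obj N)]
  (e : (SGA7.genFib R K).obj N ≅ Red.bc (fKL k K) A) [IsMonHom e.hom]

/-- Endomorphisms of `A` as endomorphisms of the generic fibre. -/
noncomputable def cEnd : EndAV.End A →+* EndAV.End ((SGA7.genFib R K).obj N) where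
  toFun φ := EndAV.End.of (e.hom ≫ (Over.pullback (fKL k K)).map φ.toHom ≫ e.inv)
  map_one' := EndAV.End.ext (by
    rw [EndAV.End.toHom_of, EndAV.End.toHom_one, EndAV.End.toHom_one, CategoryTheory.Functor.map_id]
    exact (by rw [Category.id_comp, e.hom_inv_id] : e.hom ≫ 𝟙 _ ≫ e.inv = 𝟙 _))
  map_mul' φ ψ := EndAV.End.ext (by
    rw [EndAV.End.toHom_of, EndAV.End.toHom_mul, EndAV.End.toHom_mul, EndAV.End.toHom_of, EndAV.End.toHom_of,
      Functor.map_comp]
    simp only [Category.assoc, e.inv_hom_id_assoc])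
  map_zero' := EndAV.End.ext (by
    rw [EndAV.End.toHom_of, EndAV.End.toHom_zero, EndAV.End.toHom_zero]
    have h1 : (Over.pullback (fKL k K)).map (1 : A ⟶ A) = 1 := Functor.map_one (Over.pullback (fKL k K))
    rw [h1, MonObj.one_comp, MonObj.comp_one])
  map_add' φ ψ := EndAV.End.ext (by
    rw [EndAV.End.toHom_of, EndAV.End.toHom_add, EndAV.End.toHom_add, EndAV.End.toHom_of, EndAV.End.toHom_of]
    have h1 : (Over.pullback (fKL k K)).map (φ.toHom * ψ.toHom) =
      (Over.pullback (fKL k K)).map φ.toHom * (Over.pullback (fKL k K)).map ψ.toHom := Functor.map_mul _ _ _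
    rw [h1, MonObj.mul_comp, MonObj.comp_mul])

theorem cEnd_toHom (φ : EndAV.End A) :
    (cEnd e φ).toHom = e.hom ≫ (Over.pullback (fKL k K)).map φ.toHom ≫ e.inv := rfl

omit [IsCommMonObj N] in
theorem isMonHom_of_genFib [IsCommMonObj N] (hN : SGA7.IsNeron R K N) (G : N ⟶ N) (ψ : (SGA7.genFib R K).obj N ⟶ (SGA7.genFib R K).obj N)
    [IsMonHom ψ] (hG : (SGA7.genFib R K).map G = ψ) : IsMonHom G := by
  have hsm : Smooth N.hom := hN.1
  have hNN : Smooth (N ⊗ N).hom := by
    have h1 : (N ⊗ N).hom = pullback.fst N.hom N.hom ≫ N.hom := rfl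
    rw [h1]
    infer_instance
  apply isMonHom_of_mul
  apply (hN.2.2.2 (N ⊗ N) hNN).1
  show (Over.pullback (ιg R K)).map ((fst N N * snd N N) ≫ G) =
    (Over.pullback (ιg R K)).map ((fst N N ≫ G) * (snd N N ≫ G))
  have hG' : (Over.pullback (ιg R K)).map G = ψ := hG
  rw [Functor.map_comp, Functor.map_mul, Functor.map_mul, Functor.map_comp, Functor.map_comp, hG']
  exact MonObj.mul_comp _ _ _

/-- Restriction of endomorphisms of a Néron model to the generic fibre is bijective. -/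
theorem bcEnd_bijective (hN : SGA7.IsNeron R K N) :
    Function.Bijective (bcEnd (ιg R K) N : EndAV.End N →+* EndAV.End ((SGA7.genFib R K).obj N)) := by
  have hsm : Smooth N.hom := hN.1
  constructor
  · intro φ ψ h
    refine EndAV.End.ext ((hN.2.2.2 N hsm).1 ?_)
    exact congrArg EndAV.End.toHom h
  · intro ψ
    obtain ⟨G, hG⟩ := (hN.2.2.2 N hsm).2 ψ.toHom
    have h1 : IsMonHom G := isMonHom_of_genFib hN G ψ.toHom hG
    exact ⟨EndAV.End.of G, EndAV.End.ext hG⟩

/-- The extension of endomorphisms of `A` to the Néron model. -/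
noncomputable def nEnd (hN : SGA7.IsNeron R K N) : EndAV.End A →+* EndAV.End N :=
  ((RingEquiv.ofBijective _ (bcEnd_bijective (K := K) hN)).symm.toRingHom).comp (cEnd e)

theorem nEnd_spec (hN : SGA7.IsNeron R K N) (φ : EndAV.End A) :
    (SGA7.genFib R K).map (nEnd e hN φ).toHom ≫ e.hom = e.hom ≫ (Over.pullback (fKL k K)).map φ.toHom := by
  have h1 : bcEnd (ιg R K) N (nEnd e hN φ) = cEnd e φ :=
    (RingEquiv.ofBijective _ (bcEnd_bijective (K := K) hN)).apply_symm_apply (cEnd e φ)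
  have h2 := congrArg EndAV.End.toHom h1
  have h3 : (SGA7.genFib R K).map (nEnd e hN φ).toHom = e.hom ≫ (Over.pullback (fKL k K)).map φ.toHom ≫ e.inv := h2
  rw [h3, Category.assoc, Category.assoc, e.inv_hom_id, Category.comp_id]

end ringhom

section interface

variable {k K R Ω : Type u} [Field k] [Field K] [Algebra k K] [CommRing R] [IsDomain R]
  [IsDiscreteValuationRing R] [HenselianLocalRing R] [Algebra R K] [IsFractionRing R K]
  [Field Ω] [Algebra k Ω] [Algebra K Ω] [IsScalarTower k K Ω] [Algebra R Ω] [IsScalarTower R K Ω]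
  [IsGalois K Ω]
  {W : ValuationSubring Ω} [Algebra R W] [IsScalarTower R W Ω]
  {N : Over (Spec (CommRingCat.of R))} {A : Over (Spec (CommRingCat.of k))}
  [GrpObj N] [GrpObj A] (e : (SGA7.genFib R K).obj N ≅ Red.bc (fKL k K) A) [IsMonHom e.hom]

/-- the residue field of `W` -/
local notation "κ" => IsLocalRing.ResidueField W

/-- The action of a semilinear endomorphism on points of the special fibre. -/
theorem exists_u (hN : SGA7.IsNeron R K N)
    (σ : Ω ≃ₐ[k] Ω) (hσ : SGA7.IsInertia W σ) (s : R ≃+* R) (t : K ≃ₐ[k] K)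
    (hst : ∀ r, t (algebraMap R K r) = algebraMap R K (s r))
    (hσt : ∀ x : K, σ (algebraMap K Ω (t x)) = algebraMap K Ω x) :
    ∃ ψ : Red.bc (qm R κ) N ⟶ Red.bc (qm R κ) N, IsMonHom ψ ∧
      ∀ (x : SGA7.Pts (K := k) Ω A) (y : 𝟙_ (Over (Spec (CommRingCat.of κ))) ⟶ Red.bc (qm R κ) N),
        Lift W e x (E N y) → Lift W e (SGA7.galAct σ x) (E N (y ≫ ψ)) := by
  obtain ⟨F, hF⟩ := exists_tw e hN s t hst
  have hRW : ∀ r : R, ((algebraMap R W r : W) : Ω) = algebraMap K Ω (algebraMap R K r) := fun r => by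
    rw [← IsScalarTower.algebraMap_apply R K Ω, IsScalarTower.algebraMap_apply R W Ω]
    rfl
  have hq : qm R κ ≫ Groth.Agent.Sga7.H753.NerTwist.sp s = qm R κ := by
    rw [Groth.Agent.Sga7.H753.NerTwist.sp, qm, ← Spec.map_comp, ← CommRingCat.ofHom_comp]
    congr 2
    ext r
    show algebraMap R κ (s r) = algebraMap R κ r
    symm
    apply Ideal.Quotient.eq.2
    rw [ValuationSubring.valuation_lt_one_iff]
    have h1 := (hσ _ (algebraMap R W (s r)).2).2
    rw [hRW, ← hst, hσt, hst] at h1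
    have h2 : ((algebraMap R W r - algebraMap R W (s r) : W) : Ω) =
        algebraMap K Ω (algebraMap R K r) - algebraMap K Ω (algebraMap R K (s r)) := by
      rw [← hRW, ← hRW]
      rfl
    rw [h2]
    exact h1
  refine ⟨psi hF.hom (qm R κ) hq, isMonHom_psi e hN s t hst hF (qm R κ) hq, fun x y h => ?_⟩
  exact Lift.galAct hF hst σ hσt hσ (E_psi hF.hom hq y) h

include e in
/-- **The specialization homomorphism of a proper Néron model.** -/
theorem exists_sp [HenselianLocalRing W] [IsCommMonObj A] [IsCommMonObj N]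
    [IsCommMonObj ((SGA7.genFib R K).obj N)] [IsCommMonObj (Red.bc (qm R κ) N)]
    (hN : SGA7.IsNeron R K N) [IsProper N.hom] :
    ∃ (sp : SGA7.Pts (K := k) Ω A →* (𝟙_ (Over (Spec (CommRingCat.of κ))) ⟶ Red.bc (qm R κ) N))
      (θ : EndAV.End A →+* EndAV.End (Red.bc (qm R κ) N)),
      (∀ (m : ℕ) (x : SGA7.Pts (K := k) Ω A), IsUnit (m : R) → x ^ m = 1 → sp x = 1 → x = 1) ∧
      (∀ (m : ℕ) (y : 𝟙_ (Over (Spec (CommRingCat.of κ))) ⟶ Red.bc (qm R κ) N), IsUnit (m : R) →
        y ^ m = 1 → ∃ x, x ^ m = 1 ∧ sp x = y) ∧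
      (∀ (φ : EndAV.End A) (x : SGA7.Pts (K := k) Ω A), sp (x ≫ φ.toHom) = sp x ≫ (θ φ).toHom) ∧
      ∀ (σ : Ω ≃ₐ[k] Ω) (_ : SGA7.IsInertia W σ) (s : R ≃+* R) (t : K ≃ₐ[k] K)
        (_ : ∀ r, t (algebraMap R K r) = algebraMap R K (s r))
        (_ : ∀ x : K, σ (algebraMap K Ω (t x)) = algebraMap K Ω x),
        ∃ u : EndAV.End (Red.bc (qm R κ) N), ∀ x : SGA7.Pts (K := k) Ω A,
          sp (SGA7.galAct σ x) = sp x ≫ u.toHom := by
  have hsm : Smooth N.hom := hN.1
  choose f hf using fun x : SGA7.Pts (K := k) Ω A => exists_lift_of_proper (W := W) e x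
  have huniq : ∀ {x : SGA7.Pts (K := k) Ω A} {y : spo R κ ⟶ N}, Lift W e x y → f x = y :=
    fun h => (hf _).right_unique h
  let sp : SGA7.Pts (K := k) Ω A →* (𝟙_ (Over (Spec (CommRingCat.of κ))) ⟶ Red.bc (qm R κ) N) :=
    MonoidHom.mk' (fun x => (E N).symm (f x)) (fun x y => by
      rw [← map_mul]
      congr 1
      exact huniq ((hf x).mul (hf y)))
  have hsp : ∀ x, E N (sp x) = f x := fun x => (E N).apply_symm_apply _
  have hspL : ∀ {x : SGA7.Pts (K := k) Ω A} {y : 𝟙_ (Over (Spec (CommRingCat.of κ))) ⟶ Red.bc (qm R κ) N},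
      Lift W e x (E N y) → sp x = y := fun {x y} h => by
    apply (E N).injective
    rw [hsp, huniq h]
  have hL : ∀ x, Lift W e x (E N (sp x)) := fun x => by rw [hsp]; exact hf x
  refine ⟨sp, (bcEnd (qm R κ) N).comp (nEnd e hN), ?_, ?_, ?_, ?_⟩
  · intro m x hm hx hx1
    have h1 := hL x
    rw [hx1] at h1
    have h2 := hL 1
    rw [map_one] at h2
    exact Lift.left_unique (m := m) hm hx (one_pow m) h1 h2
  · intro m y hm hy
    obtain ⟨x, hx1, hx2, -⟩ := exists_lift' (e := e) hN hm (E N y) (by rw [← map_pow, hy, map_one])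
    exact ⟨x, hx2, hspL hx1⟩
  · intro φ x
    apply hspL
    have h1 := lift_comp e (nEnd_spec e hN φ) (hL x)
    have h2 : E N (sp x ≫ ((bcEnd (qm R κ) N).comp (nEnd e hN) φ).toHom) =
        E N (sp x) ≫ (nEnd e hN φ).toHom := by
      show (isoU R κ).hom ≫ (bcEquiv (qm R κ) (𝟙_ _) N).symm (sp x ≫ (Over.pullback (qm R κ)).map _) =
        ((isoU R κ).hom ≫ (bcEquiv (qm R κ) (𝟙_ _) N).symm (sp x)) ≫ _
      rw [bcEquiv_symm_comp, Category.assoc]
    rw [h2]
    exact h1
  · intro σ hσ s t hst hσt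
    obtain ⟨ψ, hψ, h⟩ := exists_u e hN σ hσ s t hst hσt
    exact ⟨EndAV.End.of ψ, fun x => hspL (h x (sp x) (hL x))⟩

end interface

end K567.NSp
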