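import Groth.Agent.Sga7.H761.InertiaLift
import Groth.Agent.Sga7.H734.OverInt
import Mathlib.FieldTheory.IsSepClosed
import Mathlib.NumberTheory.RamificationInertia.Galois
import Mathlib.RingTheory.DedekindDomain.Dvr

/-!
# Totally ramified Galois extensions

`R` a discrete valuation ring with fraction field `K`, `K'/K` finite Galois of degree `m`, and some maximal ideal
of the integral closure `R'` of `R` in `K'` has ramification index `m` over `R`.  Then `R'` is a discrete valuation
ring with the same residue field as `R`, and every `K`-automorphism of `K'` is the restriction of an element of the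
inertia group of a separable closure.
-/

set_option autoImplicit false

universe u

namespace K567.Total

open SGA7

variable (R K K' : Type u) [CommRing R] [IsDomain R] [IsDiscreteValuationRing R] [Field K] [Algebra R K]
  [IsFractionRing R K] [Field K'] [Algebra K K'] [Algebra R K'] [IsScalarTower R K K'] [FiniteDimensional K K']

section

variable [IsGalois K K']

include K in
theorem unique_and_residue (P : Ideal (integralClosure R K')) [P.IsMaximal]
    (hP : P.ramificationIdx R = Module.finrank K K') :
    (∀ Q : Ideal (integralClosure R K'), Q.IsMaximal → Q = P) ∧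
      ∀ x : integralClosure R K', ∃ r : R, x - algebraMap R (integralClosure R K') r ∈ P := by
  let B := integralClosure R K'
  let _ := IsIntegralClosure.MulSemiringAction R K K' B
  have hfrac : IsFractionRing B K' := IsIntegralClosure.isFractionRing_of_finite_extension R K K' B
  have hDed : IsDedekindDomain B := IsIntegralClosure.isDedekindDomain R K K' B
  have hfin : Module.Finite R B := IsIntegralClosure.finite R K K' B
  have hGal : IsGaloisGroup (K' ≃ₐ[K] K') R B := IsGaloisGroup.of_isFractionRing _ _ _ K K'
  have hinj : Function.Injective (algebraMap R K') := by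
    rw [IsScalarTower.algebraMap_eq R K K']
    exact (algebraMap K K').injective.comp (IsFractionRing.injective R K)
  have hinjB : Function.Injective (algebraMap R B) := fun a b h =>
    hinj (congrArg (fun t : B => (t : K')) h)
  have hff : FaithfulSMul R B := (faithfulSMul_iff_algebraMap_injective R B).2 hinjB
  have htf : Module.IsTorsionFree R B := inferInstance
  have hflat : Module.Flat R B := inferInstance
  let p : Ideal R := IsLocalRing.maximalIdeal R
  have hmax : ∀ Q : Ideal B, Q.IsMaximal → Q.LiesOver p := by
    intro Q hQ
    constructor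
    have : (Q.under R).IsMaximal := Ideal.isMaximal_comap_of_isIntegral_of_isMaximal (R := R) Q
    exact (IsLocalRing.eq_maximalIdeal this).symm
  have hPp : P.LiesOver p := hmax P inferInstance
  have h1 := Ideal.ncard_primesOver_mul_ramificationIdxIn_mul_inertiaDegIn p B (K' ≃ₐ[K] K')
  rw [Ideal.ramificationIdxIn_eq_ramificationIdx p P (K' ≃ₐ[K] K'), hP,
    Ideal.inertiaDegIn_eq_inertiaDeg p P (K' ≃ₐ[K] K'), IsGalois.card_aut_eq_finrank] at h1
  have hm : 0 < Module.finrank K K' := Module.finrank_pos
  have h2 : (Ideal.primesOver p B).ncard * P.inertiaDeg R = 1 := by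
    have h3 : Module.finrank K K' * ((Ideal.primesOver p B).ncard * P.inertiaDeg R) = Module.finrank K K' * 1 := by
      rw [mul_one]
      nth_rewrite 2 [← h1]
      ring
    exact Nat.eq_of_mul_eq_mul_left hm h3
  have h3 : (Ideal.primesOver p B).ncard = 1 := Nat.eq_one_of_mul_eq_one_right h2
  have h4 : P.inertiaDeg R = 1 := Nat.eq_one_of_mul_eq_one_left h2
  constructor
  · intro Q hQ
    obtain ⟨Q₀, hQ₀⟩ := Set.ncard_eq_one.1 h3
    have h5 : Q ∈ Ideal.primesOver p B := ⟨hQ.isPrime, hmax Q hQ⟩
    have h6 : P ∈ Ideal.primesOver p B := ⟨inferInstance, hPp⟩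
    rw [hQ₀] at h5 h6
    rw [Set.mem_singleton_iff.1 h5, Set.mem_singleton_iff.1 h6]
  · intro x
    rw [Ideal.inertiaDeg_eq_of_isMaximal p P] at h4
    let _ : Field (R ⧸ p) := Ideal.Quotient.field p
    let _ : Field (B ⧸ P) := Ideal.Quotient.field P
    have h5 : Function.Surjective (algebraMap (R ⧸ p) (B ⧸ P)) := by
      have h6 : (⊥ : Subalgebra (R ⧸ p) (B ⧸ P)) = ⊤ := Subalgebra.bot_eq_top_of_finrank_eq_one h4
      intro y
      have h7 : y ∈ (⊥ : Subalgebra (R ⧸ p) (B ⧸ P)) := by rw [h6]; trivial
      exact Algebra.mem_bot.1 h7
    obtain ⟨y, hy⟩ := h5 (Ideal.Quotient.mk P x)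
    obtain ⟨r, rfl⟩ := Ideal.Quotient.mk_surjective y
    refine ⟨r, ?_⟩
    rw [← Ideal.Quotient.eq, ← hy]
    rfl

include K in
theorem isLocalRing (P : Ideal (integralClosure R K')) [P.IsMaximal]
    (hP : P.ramificationIdx R = Module.finrank K K') : IsLocalRing (integralClosure R K') :=
  IsLocalRing.of_unique_max_ideal ⟨P, inferInstance, (unique_and_residue R K K' P hP).1⟩

include K in
theorem isDVR (P : Ideal (integralClosure R K')) [P.IsMaximal]
    (hP : P.ramificationIdx R = Module.finrank K K') : IsDiscreteValuationRing (integralClosure R K') := by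
  have h1 := isLocalRing R K K' P hP
  have hDed : IsDedekindDomain (integralClosure R K') := IsIntegralClosure.isDedekindDomain R K K' _
  have hnf : ¬ IsField (integralClosure R K') := by
    intro hf
    have hinj : Function.Injective (algebraMap R (integralClosure R K')) := by
      have hinj : Function.Injective (algebraMap R K') := by
        rw [IsScalarTower.algebraMap_eq R K K']
        exact (algebraMap K K').injective.comp (IsFractionRing.injective R K)
      exact fun a b h => hinj (congrArg (fun t : integralClosure R K' => (t : K')) h)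
    exact IsDiscreteValuationRing.not_isField R (isField_of_isIntegral_of_isField hinj hf)
  exact ((IsDiscreteValuationRing.TFAE (integralClosure R K') hnf).out 0 2).2 hDed

variable {Ω : Type u} [Field Ω] [Algebra K Ω] [IsSepClosure K Ω] [Algebra K' Ω] [IsScalarTower K K' Ω]

/-- Every automorphism of a totally ramified Galois extension is the restriction of an element of inertia. -/
theorem exists_inertia_lift (W : ValuationSubring Ω) (hW : LiesOver K R W)
    (P : Ideal (integralClosure R K')) [P.IsMaximal]
    (hP : P.ramificationIdx R = Module.finrank K K') (g : K' ≃ₐ[K] K') :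
    ∃ σ : Ω ≃ₐ[K] Ω, IsInertia W σ ∧ ∀ x : K', σ (algebraMap K' Ω x) = algebraMap K' Ω (g x) := by
  have hloc := isLocalRing R K K' P hP
  have hgal : IsGalois K Ω := inferInstance
  let _ : Algebra R Ω := ((algebraMap K Ω).comp (algebraMap R K)).toAlgebra
  have t1 : IsScalarTower R K Ω := IsScalarTower.of_algebraMap_eq fun r => rfl
  have t2 : IsScalarTower R K' Ω := IsScalarTower.of_algebraMap_eq fun r => by
    rw [IsScalarTower.algebraMap_apply R K K', ← IsScalarTower.algebraMap_apply K K' Ω]
    rfl
  refine Groth.Agent.Sga7.H761.InertiaLift.exists_lift (R := R) W hW K' g fun x hx => ?_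
  have hP' : P = IsLocalRing.maximalIdeal (integralClosure R K') := IsLocalRing.eq_maximalIdeal inferInstance
  have hW' := Groth.Agent.Sga7.H734.OverInt.liesOver (K := K) (K' := K') W hW
  -- the action on the integral closure
  let gB : integralClosure R K' ≃+* integralClosure R K' :=
    { toFun := fun b => ⟨g b, b.2.map (g.restrictScalars R).toAlgHom⟩
      invFun := fun b => ⟨g.symm b, b.2.map (g.symm.restrictScalars R).toAlgHom⟩
      left_inv := fun b => Subtype.ext (g.symm_apply_apply b)
      right_inv := fun b => Subtype.ext (g.apply_symm_apply b)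
      map_mul' := fun a b => Subtype.ext (map_mul g _ _)
      map_add' := fun a b => Subtype.ext (map_add g _ _) }
  have hg : ∀ b, b ∈ IsLocalRing.maximalIdeal (integralClosure R K') →
      gB b ∈ IsLocalRing.maximalIdeal (integralClosure R K') := by
    intro b hb
    rw [IsLocalRing.mem_maximalIdeal, mem_nonunits_iff] at hb ⊢
    rwa [isUnit_map_iff gB]
  obtain ⟨r, hr⟩ := (unique_and_residue R K K' P hP).2 ⟨x, hx⟩
  rw [hP'] at hr
  have h1 : gB ⟨x, hx⟩ - ⟨x, hx⟩ ∈ IsLocalRing.maximalIdeal (integralClosure R K') := by
    have h2 := hg _ hr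
    have h3 : gB (algebraMap R (integralClosure R K') r) = algebraMap R (integralClosure R K') r := by
      apply Subtype.ext
      change g (algebraMap R K' r) = algebraMap R K' r
      rw [IsScalarTower.algebraMap_apply R K K', g.commutes]
    rw [map_sub, h3] at h2
    have h4 := Ideal.sub_mem _ h2 hr
    rwa [sub_sub_sub_cancel_right] at h4
  have h2 := hW'.2 _ h1
  have h3 : algebraMap K' Ω (algebraMap (integralClosure R K') K' (gB ⟨x, hx⟩ - ⟨x, hx⟩)) =
      algebraMap K' Ω (g x) - algebraMap K' Ω x := by
    rw [map_sub, map_sub]
    rfl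
  rwa [h3] at h2

end

end K567.Total
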