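import Groth.Agent.SGA7.K567.Uniq
import Groth.Agent.Sga7.H242.UnipPow

/-!
# Inertia whose `m`-th powers are unipotent, over a totally ramified extension of degree `m`
-/

set_option autoImplicit false
set_option linter.unusedSectionVars false

universe u

open scoped Pointwise
open CategoryTheory AlgebraicGeometry MonObj
open Groth.Agent.Sga7.H753 Polynomial IntermediateField

namespace K567.UnipPow

open Wild WildFix Unip K567.Tame K567.Uniq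

/-- `X ^ (ℓ ^ k) - 1` is a combination of `(X - 1) ^ N` and `ℓ ^ ν`. -/
theorem exists_comb {ℓ : ℕ} (hℓ : ℓ.Prime) (N ν : ℕ) :
    ∃ (k : ℕ) (a b : ℤ[X]), a * (X - 1) ^ N + b * (ℓ : ℤ[X]) ^ ν = X ^ (ℓ ^ k) - 1 := by
  let I : Ideal ℤ[X] := Ideal.span {(X - 1) ^ N, (ℓ : ℤ[X]) ^ ν}
  obtain ⟨k, hk⟩ := Groth.Agent.Sga7.H242.UnipPow.exists_pow_eq_one_comm hℓ (Ideal.Quotient.mk I X) N ν
    (by
      rw [← map_one (Ideal.Quotient.mk I), ← map_sub, ← map_pow, Ideal.Quotient.eq_zero_iff_mem]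
      exact Ideal.subset_span (by simp))
    (by
      rw [← map_natCast (Ideal.Quotient.mk I), ← map_pow, Ideal.Quotient.eq_zero_iff_mem]
      exact Ideal.subset_span (by simp))
  rw [← map_one (Ideal.Quotient.mk I), ← map_pow, Ideal.Quotient.eq, Ideal.mem_span_pair] at hk
  obtain ⟨a, b, hab⟩ := hk
  exact ⟨k, a, b, hab⟩

variable {K Ω : Type u} [Field K] [Field Ω] [Algebra K Ω] {A : Over (Spec (CommRingCat.of K))} [GrpObj A]
  [IsCommMonObj A] {ℓ : ℕ}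

/-- A unipotent element has `ℓ`-power order on each torsion level. -/
theorem exists_galAct_pow_eq (hℓ : ℓ.Prime) {c : Ω ≃ₐ[K] Ω} (hc : Unip (galTors A ℓ) c) {ν : ℕ}
    {x : SGA7.Pts Ω A} (hx : x ^ (ℓ ^ ν) = 1) : ∃ k : ℕ, SGA7.galAct (c ^ ℓ ^ k) x = x := by
  obtain ⟨N, hN⟩ := hc
  obtain ⟨k, a, b, hab⟩ := exists_comb hℓ N ν
  refine ⟨k, ?_⟩
  have h1 := congrArg (aeval (galTors A ℓ c)) hab
  rw [map_add, map_mul, map_mul, map_pow, map_sub, map_one, aeval_X, hN, mul_zero, _root_.zero_add, map_sub, map_pow,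
    map_pow, map_one, aeval_X, map_natCast, ← map_pow] at h1
  let y : tors (SGA7.Pts Ω A) ℓ := ⟨Additive.ofMul x, ν, hx⟩
  have h2 := DFunLike.congr_fun h1 y
  have h3 : ((aeval (galTors A ℓ c) b) * (ℓ : AddMonoid.End (tors (SGA7.Pts Ω A) ℓ)) ^ ν) y = 0 := by
    have h4 : ((ℓ : AddMonoid.End (tors (SGA7.Pts Ω A) ℓ)) ^ ν) y = (ℓ ^ ν) • y := by
      rw [← Nat.cast_pow, ← _root_.mul_one ((ℓ ^ ν : ℕ) : AddMonoid.End (tors (SGA7.Pts Ω A) ℓ)), ← nsmul_eq_mul]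
      rfl
    have h5 : (ℓ ^ ν) • y = 0 := Subtype.ext hx
    change (aeval (galTors A ℓ c) b) (((ℓ : AddMonoid.End (tors (SGA7.Pts Ω A) ℓ)) ^ ν) y) = 0
    rw [h4, h5, map_zero]
  rw [h3] at h2
  have h6 : galTors A ℓ (c ^ ℓ ^ k) y - y = 0 := h2.symm
  have h7 := sub_eq_zero.1 h6
  have h8 := congrArg (fun t : tors (SGA7.Pts Ω A) ℓ => (t : Additive (SGA7.Pts Ω A))) h7
  exact h8

theorem val_pow_eq_one (W : ValuationSubring Ω) {a : ℕ} (ha : W.valuation (a : Ω) = 1) (n : ℕ) :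
    W.valuation ((a ^ n : ℕ) : Ω) = 1 := by
  rw [Nat.cast_pow, map_pow, ha, one_pow]

/-- Wild elements a power of which is unipotent act trivially. -/
theorem galTors_eq_one_of_wild [Algebra.IsAlgebraic K Ω] {W : ValuationSubring Ω} (hℓ : ℓ.Prime)
    (hℓv : W.valuation (ℓ : Ω) = 1) {m : ℕ} (hmv : W.valuation (m : Ω) = 1) {c : Ω ≃ₐ[K] Ω}
    (hc : SGA7.IsInertia W c) (hw : IsWild W c) (hcm : Unip (galTors A ℓ) (c ^ m)) : galTors A ℓ c = 1 := by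
  refine DFunLike.ext _ _ fun y => Subtype.ext ?_
  rw [coe_galTors]
  obtain ⟨x, ν, hx⟩ := y
  obtain ⟨k, hk⟩ := exists_galAct_pow_eq hℓ hcm hx
  rw [← pow_mul] at hk
  have h1 : W.valuation ((m * ℓ ^ k : ℕ) : Ω) = 1 := by
    rw [Nat.cast_mul, map_mul, hmv, val_pow_eq_one W hℓv, _root_.one_mul]
  rw [galAct_eq_iff] at hk
  have h2 : SGA7.galAct c (Additive.toMul x) = Additive.toMul x := by
    rw [galAct_eq_iff]
    intro z
    exact wild_step (inertia_val hc) h1 hw (hk z)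
  exact h2

variable [IsGalois K Ω] {W : ValuationSubring Ω}

/-- Inertia acts through a commutative group on the torsion points, when some power is unipotent. -/
theorem commute_galTors (hℓ : ℓ.Prime) (hℓv : W.valuation (ℓ : Ω) = 1) {m : ℕ} (hmv : W.valuation (m : Ω) = 1)
    (h : ∀ σ : Ω ≃ₐ[K] Ω, SGA7.IsInertia W σ → Unip (galTors A ℓ) (σ ^ m)) {σ τ : Ω ≃ₐ[K] Ω}
    (hσ : SGA7.IsInertia W σ) (hτ : SGA7.IsInertia W τ) : Commute (galTors A ℓ σ) (galTors A ℓ τ) := by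
  have hcI : SGA7.IsInertia W (σ * τ * σ⁻¹ * τ⁻¹) :=
    inertia_mul (inertia_mul (inertia_mul hσ hτ) (inertia_inv hσ)) (inertia_inv hτ)
  have h1 : galTors A ℓ (σ * τ * σ⁻¹ * τ⁻¹) = 1 :=
    galTors_eq_one_of_wild hℓ hℓv hmv hcI (isWild_commutator hσ hτ) (h _ hcI)
  rw [Commute, SemiconjBy, ← map_mul, ← map_mul]
  have h2 : σ * τ = (σ * τ * σ⁻¹ * τ⁻¹) * (τ * σ) := by group
  rw [h2, map_mul, h1, _root_.one_mul]

theorem inertia_npow {σ : Ω ≃ₐ[K] Ω} (hσ : SGA7.IsInertia W σ) (n : ℕ) : SGA7.IsInertia W (σ ^ n) := by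
  have := inertia_zpow hσ (n : ℤ)
  rwa [zpow_natCast] at this

variable {R : Type u} [CommRing R] [IsDomain R] [IsDiscreteValuationRing R] [Algebra R K] [IsFractionRing R K]

theorem unip_of_fix (hW : SGA7.LiesOver K R W) (hℓ : ℓ.Prime) (hℓv : W.valuation (ℓ : Ω) = 1) {m : ℕ}
    (hmv : W.valuation (m : Ω) = 1)
    (U : OpenSubgroup (Ω ≃ₐ[K] Ω))
    (hU : ∀ σ : Ω ≃ₐ[K] Ω, σ ∈ U → SGA7.IsInertia W σ → Unip (galTors A ℓ) σ)
    (h : ∀ σ : Ω ≃ₐ[K] Ω, SGA7.IsInertia W σ → Unip (galTors A ℓ) (σ ^ m))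
    (L : IntermediateField K Ω) [FiniteDimensional K L] [IsGalois K L] (hL : Module.finrank K L = m)
    (hsurj : ∀ g : L ≃ₐ[K] L, ∃ σ : Ω ≃ₐ[K] Ω, SGA7.IsInertia W σ ∧ ∀ x : L, σ x = (g x : L))
    (σ : Ω ≃ₐ[K] Ω) (hσ : SGA7.IsInertia W σ) (hσL : σ ∈ L.fixingSubgroup) : Unip (galTors A ℓ) σ := by
  obtain ⟨E, hEf, hEn, hE⟩ := (krullTopology_mem_nhds_one_iff_of_normal K Ω (U : Set (Ω ≃ₐ[K] Ω))).1
    (U.isOpen.mem_nhds U.one_mem)
  have hpow : ∀ (σ : Ω ≃ₐ[K] Ω), σ ^ m ∈ L.fixingSubgroup := by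
    intro σ
    rw [IntermediateField.mem_fixingSubgroup_iff]
    intro z hz
    have h1 := AlgEquiv.restrictNormal_commutes (σ ^ m) L ⟨z, hz⟩
    have h2 : (σ ^ m).restrictNormal L = 1 := by
      have h3 := map_pow (AlgEquiv.restrictNormalHom (F := K) (K₁ := Ω) L) σ m
      have h4 : (AlgEquiv.restrictNormalHom (F := K) (K₁ := Ω) L) σ ^ m = 1 := by
        rw [← hL, ← IsGalois.card_aut_eq_finrank]
        exact pow_card_eq_one'
      exact h3.trans h4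
    rw [h2] at h1
    exact h1.symm
  let H : Subgroup (Ω ≃ₐ[K] Ω) :=
    { carrier := {σ | SGA7.IsInertia W σ ∧ σ ∈ L.fixingSubgroup ∧ Unip (galTors A ℓ) σ}
      one_mem' := ⟨inertia_one, L.fixingSubgroup.one_mem, Unip.one⟩
      mul_mem' := fun {a b} ha hb => ⟨inertia_mul ha.1 hb.1, L.fixingSubgroup.mul_mem ha.2.1 hb.2.1,
        Unip.mul (commute_galTors hℓ hℓv hmv h ha.1 hb.1) ha.2.2 hb.2.2⟩
      inv_mem' := fun {a} ha => ⟨inertia_inv ha.1, L.fixingSubgroup.inv_mem ha.2.1, Unip.inv ha.2.2⟩ }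
  have hHmem : ∀ σ, σ ∈ H ↔ SGA7.IsInertia W σ ∧ σ ∈ L.fixingSubgroup ∧ Unip (galTors A ℓ) σ := fun _ => Iff.rfl
  obtain ⟨τ, hτI, hτ⟩ := exists_gen_mod (R := R) W hW (L ⊔ E) H
    (fun σ hσ hσz => (hHmem σ).2 ⟨hσ, (IntermediateField.mem_fixingSubgroup_iff _ _).2 fun z hz => hσz z
        ((le_sup_left : L ≤ L ⊔ E) hz), hU σ (hE ((IntermediateField.mem_fixingSubgroup_iff _ _).2 fun z hz => hσz z
        ((le_sup_right : E ≤ L ⊔ E) hz))) hσ⟩) hmv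
    (fun σ hσ => (hHmem _).2 ⟨inertia_npow hσ m, hpow σ, h σ hσ⟩)
  obtain ⟨j, hj⟩ := hτ σ hσ
  have h1 : τ ^ j ∈ L.fixingSubgroup := by
    have h2 : τ ^ j = σ * ((τ ^ j)⁻¹ * σ)⁻¹ := by group
    rw [h2]
    exact L.fixingSubgroup.mul_mem hσL (L.fixingSubgroup.inv_mem hj.2.1)
  have h2 : m ∣ j := by
    rw [← hL]
    exact dvd_of_fix W L H (fun σ hσ => (IntermediateField.mem_fixingSubgroup_iff _ _).1 hσ.2.1)
      hsurj hτ ((IntermediateField.mem_fixingSubgroup_iff _ _).1 h1)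
  obtain ⟨c, rfl⟩ := h2
  have h3 : σ = (τ ^ m) ^ c * ((τ ^ (m * c))⁻¹ * σ) := by
    rw [← pow_mul]
    group
  rw [h3]
  exact Unip.mul (commute_galTors hℓ hℓv hmv h (inertia_npow (inertia_npow hτI m) c) hj.1)
    ((h τ hτI).pow c) hj.2.2

end K567.UnipPow
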