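import Groth.Agent.SGA7.K567.Tame
import Groth.Agent.SGA7.K567.Total
import Mathlib.FieldTheory.Normal.Closure
import Mathlib.RingTheory.Polynomial.Eisenstein.Basic
import Mathlib.RingTheory.Polynomial.GaussLemma

/-!
# Tame extensions of a field all of whose automorphisms are inertia elements
-/

set_option autoImplicit false
set_option linter.unusedSectionVars false

universe u

open scoped Pointwise
open Groth.Agent.Sga7.H753 Polynomial

namespace K567.Uniq

open Wild K567.Tame

section gen

variable {K Ω : Type u} [Field K] [Field Ω] [Algebra K Ω] [IsGalois K Ω]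

/-- If `τ` generates inertia modulo a subgroup fixing `L` and inertia surjects onto `Gal(L/K)`, then `τ ^ j` fixes
`L` only if `j` is a multiple of the degree. -/
theorem dvd_of_fix (W : ValuationSubring Ω) (L : IntermediateField K Ω) [FiniteDimensional K L] [IsGalois K L]
    (H : Subgroup (Ω ≃ₐ[K] Ω)) (hH : ∀ σ ∈ H, ∀ z ∈ L, σ z = z)
    (hsurj : ∀ g : L ≃ₐ[K] L, ∃ σ : Ω ≃ₐ[K] Ω, SGA7.IsInertia W σ ∧ ∀ x : L, σ x = (g x : L))
    {τ : Ω ≃ₐ[K] Ω} (hτ : ∀ σ : Ω ≃ₐ[K] Ω, SGA7.IsInertia W σ → ∃ j : ℕ, (τ ^ j)⁻¹ * σ ∈ H)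
    {j : ℕ} (hj : ∀ z ∈ L, (τ ^ j) z = z) : Module.finrank K L ∣ j := by
  set t : L ≃ₐ[K] L := τ.restrictNormal L with ht
  have hres : ∀ (σ : Ω ≃ₐ[K] Ω) (x : L), ((σ.restrictNormal L x : L) : Ω) = σ x := fun σ x =>
    AlgEquiv.restrictNormal_commutes σ L x
  have htpow : ∀ (i : ℕ) (x : L), (((t ^ i) x : L) : Ω) = (τ ^ i) x := by
    intro i x
    have h1 : t ^ i = (τ ^ i).restrictNormal L :=
      (map_pow (AlgEquiv.restrictNormalHom (F := K) (K₁ := Ω) L) τ i).symm
    rw [h1, hres]
  have h1 : ∀ g : L ≃ₐ[K] L, g ∈ Subgroup.zpowers t := by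
    intro g
    obtain ⟨σ, hσ, hσg⟩ := hsurj g
    obtain ⟨i, hi⟩ := hτ σ hσ
    refine Subgroup.mem_zpowers_iff.2 ⟨i, ?_⟩
    rw [zpow_natCast]
    ext x
    rw [htpow, ← hσg]
    have h2 := hH _ hi (x : Ω) x.2
    rw [AlgEquiv.mul_apply] at h2
    have h3 : (τ ^ i) ((τ ^ i)⁻¹ (σ x)) = σ x := (τ ^ i).apply_symm_apply _
    rw [h2] at h3
    exact h3
  have h2 : orderOf t = Module.finrank K L := by
    rw [orderOf_eq_card_of_forall_mem_zpowers h1, IsGalois.card_aut_eq_finrank]
  rw [← h2]
  apply orderOf_dvd_of_pow_eq_one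
  ext x
  rw [htpow]
  exact hj x x.2

end gen

section total

variable (R K Ω : Type u) [CommRing R] [IsDomain R] [IsDiscreteValuationRing R] [Field K] [Algebra R K]
  [IsFractionRing R K] [Field Ω] [Algebra K Ω] [IsSepClosure K Ω] [Algebra R Ω] [IsScalarTower R K Ω]

/-- A Galois extension of degree prime to the residue characteristic all of whose automorphisms come from inertia
is totally ramified. -/
theorem ramificationIdx_eq (W : ValuationSubring Ω) (hW : SGA7.LiesOver K R W) (L : IntermediateField K Ω)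
    [FiniteDimensional K L] [IsGalois K L]
    (hsurj : ∀ g : L ≃ₐ[K] L, ∃ σ : Ω ≃ₐ[K] Ω, SGA7.IsInertia W σ ∧ ∀ x : L, σ x = (g x : L))
    (hr : ((Module.finrank K L : ℕ) : IsLocalRing.ResidueField R) ≠ 0)
    (P : Ideal (integralClosure R L)) [P.IsMaximal] : P.ramificationIdx R = Module.finrank K L := by
  let B := integralClosure R L
  let _ := IsIntegralClosure.MulSemiringAction R K L B
  have hfrac : IsFractionRing B L := IsIntegralClosure.isFractionRing_of_finite_extension R K L B
  have hDed : IsDedekindDomain B := IsIntegralClosure.isDedekindDomain R K L B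
  have hfin : Module.Finite R B := IsIntegralClosure.finite R K L B
  have hGal : IsGaloisGroup (L ≃ₐ[K] L) R B := IsGaloisGroup.of_isFractionRing _ _ _ K L
  have hinj : Function.Injective (algebraMap R L) := by
    rw [IsScalarTower.algebraMap_eq R K L]
    exact (algebraMap K L).injective.comp (IsFractionRing.injective R K)
  have hinjB : Function.Injective (algebraMap R B) := fun a b h =>
    hinj (congrArg (fun t : B => (t : L)) h)
  have hff : FaithfulSMul R B := (faithfulSMul_iff_algebraMap_injective R B).2 hinjB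
  have htf : Module.IsTorsionFree R B := inferInstance
  have hflat : Module.Flat R B := inferInstance
  let p : Ideal R := IsLocalRing.maximalIdeal R
  have hmax : ∀ Q : Ideal B, Q.IsMaximal → Q.LiesOver p := by
    intro Q hQ
    constructor
    have : (Q.under R).IsMaximal := Ideal.isMaximal_comap_of_isIntegral_of_isMaximal (R := R) Q
    exact (IsLocalRing.eq_maximalIdeal this).symm
  -- the centre of `W`
  have hRW : ∀ r : R, algebraMap R Ω r ∈ W := fun r => by
    rw [IsScalarTower.algebraMap_apply R K Ω]; exact hW.1 r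
  have hRL : IsScalarTower R L Ω := IsScalarTower.of_algebraMap_eq fun r => by
    rw [IsScalarTower.algebraMap_apply R K L, ← IsScalarTower.algebraMap_apply K L Ω,
      ← IsScalarTower.algebraMap_apply R K Ω]
  have hBW : ∀ b : B, algebraMap L Ω (b : L) ∈ W := fun b =>
    Groth.Agent.Sga7.H761.InertiaLift.mem_of_isIntegral W hRW (b.2.map (IsScalarTower.toAlgHom R L Ω))
  let φ : B →+* W := ((algebraMap L Ω).comp (algebraMap B L)).codRestrict W.toSubring hBW
  let P₀ : Ideal B := (IsLocalRing.maximalIdeal W).comap φ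
  have hP₀ : ∀ b : B, b ∈ P₀ ↔ W.valuation ((b : L) : Ω) < 1 := fun b => by
    change φ b ∈ IsLocalRing.maximalIdeal W ↔ _
    rw [ValuationSubring.valuation_lt_one_iff]
    rfl
  have hP₀p : P₀.IsPrime := Ideal.IsPrime.comap φ
  have hP₀c : P₀.comap (algebraMap R B) = p := by
    apply le_antisymm
    · apply IsLocalRing.le_maximalIdeal
      rw [Ne, Ideal.comap_eq_top_iff]
      exact hP₀p.ne_top
    · intro r hr
      rw [Ideal.mem_comap, hP₀]
      have h1 := hW.2 r hr
      have h2 : (((algebraMap R B r : B) : L) : Ω) = algebraMap K Ω (algebraMap R K r) := by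
        change algebraMap L Ω (algebraMap R L r) = _
        rw [← IsScalarTower.algebraMap_apply R L Ω, ← IsScalarTower.algebraMap_apply R K Ω]
      rwa [h2]
  have hP₀m : P₀.IsMaximal := by
    apply Ideal.isMaximal_of_isIntegral_of_isMaximal_comap (R := R) P₀
    rw [hP₀c]
    infer_instance
  have hact : ∀ (g : L ≃ₐ[K] L) (b : B), ((g • b : B) : L) = g b := fun g b =>
    algebraMap_galRestrict_apply R (K := K) (L := L) g b
  have hcong : ∀ (g : L ≃ₐ[K] L) (b : B), g • b - b ∈ P₀ := by
    intro g b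
    rw [hP₀]
    obtain ⟨σ, hσ, hσg⟩ := hsurj g
    have h1 := (hσ _ (hBW b)).2
    have h2 : (((g • b - b : B) : L) : Ω) = σ ((b : L) : Ω) - ((b : L) : Ω) := by
      rw [hσg, ← hact]
      rfl
    rw [h2]
    exact h1
  have hstab : ∀ g : L ≃ₐ[K] L, g • P₀ = P₀ := by
    intro g
    have h1 : ∀ g : L ≃ₐ[K] L, g • P₀ ≤ P₀ := by
      intro g b hb
      rw [Ideal.mem_pointwise_smul_iff_inv_smul_mem] at hb
      have h2 := hcong g (g⁻¹ • b)
      rw [smul_inv_smul] at h2
      have h3 := Ideal.add_mem _ h2 hb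
      rwa [sub_add_cancel] at h3
    refine le_antisymm (h1 g) ?_
    intro b hb
    rw [Ideal.mem_pointwise_smul_iff_inv_smul_mem]
    apply h1 g⁻¹
    rw [Ideal.mem_pointwise_smul_iff_inv_smul_mem, inv_inv, smul_inv_smul]
    exact hb
  have huniq : ∀ Q : Ideal B, Q.IsMaximal → Q = P₀ := by
    intro Q hQ
    have hQp := hmax Q hQ
    have hP₀p := hmax P₀ hP₀m
    obtain ⟨g, hg⟩ := Ideal.exists_smul_eq_of_isGaloisGroup p P₀ Q (L ≃ₐ[K] L)
    rw [← hg, hstab]
  have hPP : P = P₀ := huniq P inferInstance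
  have hPp : P.LiesOver p := hmax P inferInstance
  have h1 := Ideal.ncard_primesOver_mul_ramificationIdxIn_mul_inertiaDegIn p B (L ≃ₐ[K] L)
  rw [Ideal.ramificationIdxIn_eq_ramificationIdx p P (L ≃ₐ[K] L),
    Ideal.inertiaDegIn_eq_inertiaDeg p P (L ≃ₐ[K] L), IsGalois.card_aut_eq_finrank] at h1
  have h2 : (Ideal.primesOver p B).ncard = 1 := by
    rw [Set.ncard_eq_one]
    refine ⟨P, Set.eq_singleton_iff_unique_mem.2 ⟨⟨inferInstance, hPp⟩, ?_⟩⟩
    rintro Q ⟨hQ1, hQ2⟩
    have hQm : Q.IsMaximal := by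
      apply Ideal.isMaximal_of_isIntegral_of_isMaximal_comap (R := R) Q
      have : Q.comap (algebraMap R B) = p := hQ2.over.symm
      rw [this]
      infer_instance
    rw [huniq Q hQm, hPP]
  have h3 : P.inertiaDeg R = 1 := by
    rw [Ideal.inertiaDeg_eq_of_isMaximal p P]
    let _ : Field (R ⧸ p) := Ideal.Quotient.field p
    let _ : Field (B ⧸ P) := Ideal.Quotient.field P
    have hru : IsUnit ((Module.finrank K L : ℕ) : R) := by
      by_contra hn
      apply hr
      rw [← map_natCast (IsLocalRing.residue R), IsLocalRing.residue_eq_zero_iff]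
      exact hn
    obtain ⟨c, hc⟩ := hru.exists_right_inv
    have hsurj' : Function.Surjective (algebraMap (R ⧸ p) (B ⧸ P)) := by
      intro y
      obtain ⟨b, rfl⟩ := Ideal.Quotient.mk_surjective y
      have hfix : ∀ g : L ≃ₐ[K] L, g • (∑ h : L ≃ₐ[K] L, h • b) = ∑ h : L ≃ₐ[K] L, h • b := by
        intro g
        rw [Finset.smul_sum]
        simp_rw [smul_smul]
        exact Fintype.sum_equiv (Equiv.mulLeft g) _ _ fun h => rfl
      obtain ⟨t, ht⟩ := (IsGaloisGroup.isInvariant (G := L ≃ₐ[K] L) (A := R) (B := B)).isInvariant _ hfix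
      refine ⟨Ideal.Quotient.mk p (c * t), ?_⟩
      rw [Ideal.Quotient.algebraMap_mk_of_liesOver, Ideal.Quotient.eq, hPP]
      have h4 : (∑ h : L ≃ₐ[K] L, h • b) - (Module.finrank K L : B) * b ∈ P₀ := by
        have h5 : (∑ h : L ≃ₐ[K] L, h • b) - (Module.finrank K L : B) * b = ∑ h : L ≃ₐ[K] L, (h • b - b) := by
          rw [Finset.sum_sub_distrib]
          simp [← IsGalois.card_aut_eq_finrank K L]
        rw [h5]
        exact Ideal.sum_mem _ fun g _ => hcong g b
      have h6 : algebraMap R B (c * t) - b = algebraMap R B c * ((∑ h : L ≃ₐ[K] L, h • b) -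
          (Module.finrank K L : B) * b) := by
        rw [← ht, map_mul, mul_sub, ← mul_assoc]
        have h7 : algebraMap R B c * (Module.finrank K L : B) = 1 := by
          rw [← map_natCast (algebraMap R B), ← map_mul, mul_comm, hc, map_one]
        rw [h7, one_mul]
      rw [h6]
      exact Ideal.mul_mem_left _ _ h4
    exact Subalgebra.bot_eq_top_iff_finrank_eq_one.1 (Algebra.surjective_algebraMap_iff.1 hsurj').symm
  rw [h2, h3, one_mul, mul_one] at h1
  exact h1

end total

end K567.Uniq
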